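import Cfsg.Prelude.Def_OddOrderLocal
import Mathlib.GroupTheory.Index
import Mathlib.GroupTheory.IsSubnormal
import Mathlib.GroupTheory.Subgroup.Simple

set_option autoImplicit false

namespace Cfsg.Agent.Lib.Helper39

universe u

/-- All prime divisors of the order lie in `π`. -/
def IsPiGroup (π : Set ℕ) (G : Type*) [Group G] : Prop :=
  ∀ p : ℕ, p.Prime → p ∣ Nat.card G → p ∈ π

theorem IsPiGroup.of_card_dvd {π : Set ℕ} {G H : Type*} [Group G] [Group H]
    (hG : IsPiGroup π G) (h : Nat.card H ∣ Nat.card G) : IsPiGroup π H :=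
  fun p hp hd => hG p hp (hd.trans h)

theorem IsPiGroup.of_le {π : Set ℕ} {X : Type*} [Group X] {A B : Subgroup X}
    (hB : IsPiGroup π B) (h : A ≤ B) : IsPiGroup π A :=
  hB.of_card_dvd (Subgroup.card_dvd_of_le h)

theorem isPiGroup_sup {X : Type*} [Group X] [Finite X] (π : Set ℕ) (A B : Subgroup X) [B.Normal]
    (hA : IsPiGroup π A) (hB : IsPiGroup π B) : IsPiGroup π ↥(A ⊔ B) := by
  intro p hp hd
  have h1 : Nat.card B * B.relIndex (A ⊔ B) = Nat.card ↥(A ⊔ B) := by
    have := Subgroup.relIndex_mul_relIndex ⊥ B (A ⊔ B) bot_le le_sup_right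
    rwa [Subgroup.relIndex_bot_left, Subgroup.relIndex_bot_left] at this
  rw [← h1, Subgroup.relIndex_sup_right] at hd
  rcases (Nat.Prime.dvd_mul hp).mp hd with h | h
  · exact hB p hp h
  · exact hA p hp (h.trans (Subgroup.relIndex_dvd_card B A))

/-- In a finite group, the `π`-core is a `π`-group. -/
theorem isPiGroup_piCore {X : Type u} [Group X] [Finite X] (π : Set ℕ) :
    IsPiGroup π ↥(Cfsg.piCore π X) := by
  classical
  let S : Set (Subgroup X) := {N | N.Normal ∧ ∀ p : ℕ, p.Prime → p ∣ Nat.card N → p ∈ π}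
  have hfin : S.Finite := Set.toFinite S
  have hbot : (⊥ : Subgroup X) ∈ S := by
    refine ⟨inferInstance, ?_⟩
    intro p hp hd
    rw [Subgroup.card_bot] at hd
    exact absurd (Nat.dvd_one.mp hd) hp.one_lt.ne'
  obtain ⟨M, -, hM⟩ := hfin.exists_le_maximal hbot
  obtain ⟨⟨hMn, hMpi⟩, hmax⟩ := hM
  have hle : Cfsg.piCore π X ≤ M := by
    unfold Cfsg.piCore
    apply sSup_le
    intro N hN
    have hNn : N.Normal := hN.1
    have hjoin : N ⊔ M ∈ S := by
      refine ⟨inferInstance, ?_⟩
      exact isPiGroup_sup π N M hN.2 hMpi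
    have : N ⊔ M ≤ M := hmax hjoin le_sup_right
    exact le_sup_left.trans this
  exact IsPiGroup.of_le (B := M) hMpi hle

/-- A normal `π`-subgroup lies in the `π`-core. -/
theorem le_piCore {X : Type u} [Group X] (π : Set ℕ) (N : Subgroup X) [hN : N.Normal]
    (h : IsPiGroup π N) : N ≤ Cfsg.piCore π X :=
  le_sSup ⟨hN, h⟩

theorem piCore_le {X : Type u} [Group X] (π : Set ℕ) (M : Subgroup X)
    (h : ∀ N : Subgroup X, N.Normal → IsPiGroup π N → N ≤ M) : Cfsg.piCore π X ≤ M :=
  sSup_le (fun N hN => h N hN.1 hN.2)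

instance piCore_characteristic {X : Type u} [Group X] (π : Set ℕ) :
    (Cfsg.piCore π X).Characteristic := by
  rw [Subgroup.characteristic_iff_map_le]
  intro φ
  unfold Cfsg.piCore
  rw [Subgroup.map_le_iff_le_comap]
  apply sSup_le
  intro N hN
  rw [← Subgroup.map_le_iff_le_comap]
  apply le_sSup
  refine ⟨?_, ?_⟩
  · exact hN.1.map φ.toMonoidHom φ.surjective
  · intro p hp hd
    rw [Subgroup.card_map_of_injective (f := φ.toMonoidHom) φ.injective] at hd
    exact hN.2 p hp hd

/-- A subnormal `π`-subgroup of a finite group lies in the `π`-core. -/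
theorem le_piCore_of_isSubnormal (π : Set ℕ) :
    ∀ (n : ℕ) (X : Type u) [Group X] [Finite X], Nat.card X = n →
      ∀ H : Subgroup X, H.IsSubnormal → IsPiGroup π H → H ≤ Cfsg.piCore π X := by
  intro n
  induction n using Nat.strong_induction_on with
  | _ n ih =>
    intro X _ _ hcard H hsub hpi
    rcases hsub.lt_normal with rfl | ⟨M, hMn, hHM, hMtop⟩
    · -- H = ⊤
      exact le_piCore π ⊤ hpi
    · have hMcard : Nat.card M < n := by
        rw [← hcard]
        have h1 : Nat.card M ∣ Nat.card X := Subgroup.card_subgroup_dvd_card M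
        rcases (Nat.le_of_dvd Nat.card_pos h1).lt_or_eq with h | h
        · exact h
        · exact absurd ((Subgroup.card_eq_iff_eq_top M).mp h) hMtop.ne
      have hsub' : (H.subgroupOf M).IsSubnormal := hsub.subgroupOf
      have hpi' : IsPiGroup π (H.subgroupOf M) := by
        apply hpi.of_card_dvd
        rw [Nat.card_congr (Subgroup.subgroupOfEquivOfLe hHM).toEquiv]
      have key := ih (Nat.card M) hMcard M rfl (H.subgroupOf M) hsub' hpi'
      have h2 : (H.subgroupOf M).map M.subtype ≤ (Cfsg.piCore π M).map M.subtype :=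
        Subgroup.map_mono key
      rw [Subgroup.map_subgroupOf_eq_of_le hHM] at h2
      refine h2.trans ?_
      have hn : ((Cfsg.piCore π M).map M.subtype).Normal := inferInstance
      apply le_piCore π _
      have := isPiGroup_piCore (X := M) π
      apply this.of_card_dvd
      rw [Subgroup.card_map_of_injective (f := M.subtype) M.subtype_injective]

end Cfsg.Agent.Lib.Helper39
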