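import Mathlib
import Cfsg.Prelude.Def_GeometricClasses
import Cfsg.Agent.Lib.Helper61.AschDefs
import Cfsg.Agent.Lib.Helper46.AschOBasic
import Cfsg.Agent.Lib.Helper46.AschEDefs
import Cfsg.Agent.Lib.Helper63.AschB6
import Cfsg.Agent.Lib.Helper97.AschOB6b

/-!
# K-OEven-B6b (helper39): a tensor decomposition with forms gives shape (4) (even-dimensional orthogonal pack)

Adaptation of `Helper97.AschO.ogeom_of_tensor_forms`: both branches (symmetric ⊗ symmetric for `2 ≠ 0`, `ε = 1`;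
symplectic ⊗ symplectic with `Q = 0` on pure tensors otherwise), factors swapped when `b < a`.
-/

set_option autoImplicit false
set_option linter.unusedSectionVars false

namespace Cfsg.Agent.Lib.Helper39.AschE

open Cfsg Cfsg.Geo Cfsg.Agent.Lib.Helper61.Asch Cfsg.Agent.Lib.Helper46.AschO Cfsg.Agent.Lib.Helper46.AschE
open Cfsg.Agent.Lib.Helper97.AschO
open scoped Matrix Kronecker MatrixGroups

variable {F : Type*} [Field F]

/-- `xᵀ g x = 0` for a skew matrix with zero diagonal (any characteristic). -/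
theorem gForm_self_eq_zero {k : ℕ} (g : Matrix (Fin k) (Fin k) F) (hskew : gᵀ = -g) (hdiag : ∀ i, g i i = 0)
    (x : Fin k → F) : gForm g x x = 0 := by
  have hji : ∀ i j, g j i = - g i j := by
    intro i j
    have := congrFun (congrFun hskew i) j
    simpa [Matrix.transpose_apply] using this
  have e1 : gForm g x x = ∑ p : Fin k × Fin k, x p.1 * g p.1 p.2 * x p.2 := by
    unfold gForm
    rw [Fintype.sum_prod_type]
    simp only [dotProduct, Matrix.mulVec, Finset.mul_sum, mul_assoc]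
  rw [e1]
  apply Finset.sum_involution (fun p _ => (p.2, p.1))
  · intro p _
    show x p.1 * g p.1 p.2 * x p.2 + x p.2 * g p.2 p.1 * x p.1 = 0
    rw [hji p.1 p.2]
    ring
  · intro p _ hne heq
    apply hne
    have h12 : p.2 = p.1 := congrArg Prod.fst heq
    rw [h12, hdiag, mul_zero, zero_mul]
  · intro p _
    exact Finset.mem_univ _
  · intro p _
    rfl

theorem gForm_skew {k : ℕ} (g : Matrix (Fin k) (Fin k) F) (hskew : gᵀ = -g) (x y : Fin k → F) :
    gForm g x y = - gForm g y x := by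
  unfold gForm
  rw [Matrix.dotProduct_mulVec, ← Matrix.mulVec_transpose, hskew, Matrix.neg_mulVec, neg_dotProduct,
    dotProduct_comm]

theorem isSymplecticForm_gForm {k : ℕ} (g : Matrix (Fin k) (Fin k) F) (hskew : gᵀ = -g)
    (hdiag : ∀ i, g i i = 0) (hu : IsUnit g) : IsSymplecticForm (gForm g) := by
  have hnd : ∀ v : Fin k → F, v ≠ 0 → ∃ x, gForm g x v ≠ 0 := by
    intro v hv
    have h1 : g *ᵥ v ≠ 0 := by
      intro h0
      apply hv
      obtain ⟨u, rfl⟩ := hu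
      have h2 : ((u⁻¹ : (Matrix (Fin k) (Fin k) F)ˣ) : Matrix (Fin k) (Fin k) F) *ᵥ
          ((u : Matrix (Fin k) (Fin k) F) *ᵥ v) = v := by
        rw [Matrix.mulVec_mulVec, Units.inv_mul, Matrix.one_mulVec]
      rw [← h2, h0, Matrix.mulVec_zero]
    obtain ⟨i, hi⟩ : ∃ i, (g *ᵥ v) i ≠ 0 := by
      by_contra hcon
      push Not at hcon
      exact h1 (funext hcon)
    refine ⟨Pi.single i 1, ?_⟩
    unfold gForm
    simpa using hi
  refine ⟨⟨?_, ?_, ?_, ?_⟩, gForm_skew g hskew, gForm_self_eq_zero g hskew hdiag, ?_⟩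
  · intro x y v
    unfold gForm
    rw [add_dotProduct]
  · intro c x v
    unfold gForm
    rw [smul_dotProduct, smul_eq_mul]
  · intro v x y
    unfold gForm
    rw [Matrix.mulVec_add, dotProduct_add]
  · intro c v x
    unfold gForm
    rw [Matrix.mulVec_smul, dotProduct_smul, smul_eq_mul]
  · intro v hv
    obtain ⟨x, hx⟩ := hnd v hv
    refine ⟨⟨x, hx⟩, ⟨x, ?_⟩⟩
    rw [gForm_skew g hskew]
    exact neg_ne_zero.2 hx

/-- The Kronecker form on pure tensors is the product of the two forms. -/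
theorem formOfGram_kron_pure {a b : ℕ} (g₁ : Matrix (Fin a) (Fin a) F) (g₂ : Matrix (Fin b) (Fin b) F)
    (x₁ y₁ : Fin a → F) (x₂ y₂ : Fin b → F) :
    formOfGram id (g₁ ⊗ₖ g₂) (fun p : Fin a × Fin b => x₁ p.1 * x₂ p.2)
      (fun p : Fin a × Fin b => y₁ p.1 * y₂ p.2) = gForm g₁ x₁ y₁ * gForm g₂ x₂ y₂ := by
  unfold formOfGram gForm
  simp only [Fintype.sum_prod_type, Matrix.kroneckerMap_apply, id, dotProduct, Matrix.mulVec]
  rw [Finset.sum_mul_sum]
  apply Finset.sum_congr rfl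
  intro i _
  apply Finset.sum_congr rfl
  intro j _
  rw [Finset.mul_sum, Finset.mul_sum, Finset.sum_mul_sum]
  apply Finset.sum_congr rfl
  intro k _
  apply Finset.sum_congr rfl
  intro l _
  ring

variable [Fintype F] {n : ℕ}

local notation "V" => (Fin n → F)
local notation "Mat" => Matrix (Fin n) (Fin n) F

/-- The data of shape (4) for the pair `(g₁, g₂)` read through `e`. -/
def TensData (Q : V → F) (a b : ℕ) (e : Fin n ≃ Fin a × Fin b) (P : GL (Fin n) F)
    (g₁ : Matrix (Fin a) (Fin a) F) (g₂ : Matrix (Fin b) (Fin b) F) : Prop :=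
  (IsSymmetricForm (gForm g₁) ∧ IsSymmetricForm (gForm g₂) ∧ (2 : F) ≠ 0) ∨
    (IsSymplecticForm (gForm g₁) ∧ IsSymplecticForm (gForm g₂) ∧
      ∀ (x₁ : Fin a → F) (x₂ : Fin b → F),
        Q ((P : Mat) *ᵥ ((fun p : Fin a × Fin b => x₁ p.1 * x₂ p.2) ∘ e)) = 0)

theorem TensData.swap {Q : V → F} {a b : ℕ} {e : Fin n ≃ Fin a × Fin b} {P : GL (Fin n) F}
    {g₁ : Matrix (Fin a) (Fin a) F} {g₂ : Matrix (Fin b) (Fin b) F} (h : TensData Q a b e P g₁ g₂) :
    TensData Q b a (e.trans (Equiv.prodComm _ _)) P g₂ g₁ := by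
  rcases h with ⟨h1, h2, h3⟩ | ⟨h1, h2, h3⟩
  · exact Or.inl ⟨h2, h1, h3⟩
  · refine Or.inr ⟨h2, h1, ?_⟩
    intro x₁ x₂
    have := h3 x₂ x₁
    have e1 : ((fun p : Fin b × Fin a => x₁ p.1 * x₂ p.2) ∘ (e.trans (Equiv.prodComm _ _))) =
        ((fun p : Fin a × Fin b => x₂ p.1 * x₁ p.2) ∘ e) := by
      funext i
      simp [mul_comm]
    rw [e1]
    exact this

/-- shape (4) once `a ≤ b`. -/
theorem egeom_of_tensData (Q : V → F) (K : Subgroup (GL (Fin n) F)) (a b : ℕ) (ha : 2 ≤ a) (hab : a ≤ b)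
    (e : Fin n ≃ Fin a × Fin b) (P : GL (Fin n) F) (hKT : K ≤ tensorProductSubgroup a b e P)
    (g₁ : Matrix (Fin a) (Fin a) F) (g₂ : Matrix (Fin b) (Fin b) F) (hdata : TensData Q a b e P g₁ g₂)
    (hform : ∀ x y : Fin a × Fin b → F,
      QuadraticMap.polar Q ((P : Mat) *ᵥ (x ∘ e)) ((P : Mat) *ᵥ (y ∘ e)) = formOfGram id (g₁ ⊗ₖ g₂) x y) :
    EGeom Q K := by
  refine ⟨tensorProductSubgroup a b e P, ?_, hKT⟩
  refine Or.inr (Or.inr (Or.inr (Or.inr (Or.inr (Or.inr (Or.inr (Or.inl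
    ⟨a, b, e, P, gForm g₁, gForm g₂, ha, hab, hdata, ⟨1, one_ne_zero, ?_⟩, rfl⟩)))))))
  intro x y
  rw [gramMatrix_gForm, gramMatrix_gForm, one_mul]
  exact hform x y

/-- **K-OEven-B6b.** -/
theorem egeom_of_tensor_forms_even (Q : V → F) (hQ : IsNondegenerateQuadraticForm Q)
    (K : Subgroup (GL (Fin n) F)) (a b : ℕ) (ha : 2 ≤ a) (hb : 2 ≤ b)
    (e : Fin n ≃ Fin a × Fin b) (P : GL (Fin n) F) (hKT : K ≤ tensorProductSubgroup a b e P)
    (g₁ : Matrix (Fin a) (Fin a) F) (g₂ : Matrix (Fin b) (Fin b) F) (ε : F) (hε : ε = 1 ∨ ε = -1)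
    (h₁ : g₁ᵀ = ε • g₁) (h₂ : g₂ᵀ = ε • g₂) (hu₁ : IsUnit g₁) (hu₂ : IsUnit g₂)
    (hform : ∀ x y : Fin a × Fin b → F,
      QuadraticMap.polar Q ((P : Mat) *ᵥ (x ∘ e)) ((P : Mat) *ᵥ (y ∘ e)) = formOfGram id (g₁ ⊗ₖ g₂) x y)
    (hchar2 : (2 : F) = 0 → (∀ i, g₁ i i = 0) ∧ (∀ i, g₂ i i = 0) ∧
      ∀ (x₁ : Fin a → F) (x₂ : Fin b → F),
        Q ((P : Mat) *ᵥ ((fun p : Fin a × Fin b => x₁ p.1 * x₂ p.2) ∘ e)) = 0) :
    EGeom Q K := by
  -- the data of shape (4)
  have hdata : TensData Q a b e P g₁ g₂ := by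
    by_cases h2 : (2 : F) = 0
    · -- characteristic 2: `-1 = 1`
      have hneg : (-1 : F) = 1 := by
        have : (1 : F) + 1 = 0 := by rw [one_add_one_eq_two]; exact h2
        exact (eq_neg_of_add_eq_zero_left this).symm
      have hε1 : ε = -1 := by
        rcases hε with h | h
        · rw [h, hneg]
        · exact h
      obtain ⟨hd₁, hd₂, hpure⟩ := hchar2 h2
      have hs₁ : g₁ᵀ = -g₁ := by rw [h₁, hε1, neg_one_smul]
      have hs₂ : g₂ᵀ = -g₂ := by rw [h₂, hε1, neg_one_smul]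
      exact Or.inr ⟨isSymplecticForm_gForm g₁ hs₁ hd₁ hu₁, isSymplecticForm_gForm g₂ hs₂ hd₂ hu₂, hpure⟩
    · rcases hε with hε | hε
      · have hs₁ : g₁ᵀ = g₁ := by rw [h₁, hε, one_smul]
        have hs₂ : g₂ᵀ = g₂ := by rw [h₂, hε, one_smul]
        exact Or.inl ⟨isSymmetricForm_gForm g₁ hs₁ hu₁, isSymmetricForm_gForm g₂ hs₂ hu₂, h2⟩
      · have hs₁ : g₁ᵀ = -g₁ := by rw [h₁, hε, neg_one_smul]
        have hs₂ : g₂ᵀ = -g₂ := by rw [h₂, hε, neg_one_smul]
        have hdiag : ∀ {k : ℕ} (g : Matrix (Fin k) (Fin k) F), gᵀ = -g → ∀ i, g i i = 0 := by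
          intro k g hg i
          have h := congrFun (congrFun hg i) i
          simp only [Matrix.transpose_apply, Matrix.neg_apply] at h
          have h' : (2 : F) * g i i = 0 := by
            rw [two_mul]
            nth_rewrite 1 [h]
            exact neg_add_cancel _
          rcases mul_eq_zero.1 h' with h'' | h''
          · exact absurd h'' h2
          · exact h''
        have hd₁ := hdiag g₁ hs₁
        have hd₂ := hdiag g₂ hs₂
        refine Or.inr ⟨isSymplecticForm_gForm g₁ hs₁ hd₁ hu₁, isSymplecticForm_gForm g₂ hs₂ hd₂ hu₂, ?_⟩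
        intro x₁ x₂
        have h3 := two_mul_Q hQ ((P : Mat) *ᵥ ((fun p : Fin a × Fin b => x₁ p.1 * x₂ p.2) ∘ e))
        rw [hform, formOfGram_kron_pure, gForm_self_eq_zero g₁ hs₁ hd₁, zero_mul] at h3
        rcases mul_eq_zero.1 h3 with h'' | h''
        · exact absurd h'' h2
        · exact h''
  rcases le_or_gt a b with hab | hab
  · exact egeom_of_tensData Q K a b ha hab e P hKT g₁ g₂ hdata hform
  · refine egeom_of_tensData Q K b a hb hab.le (e.trans (Equiv.prodComm _ _)) P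
      (hKT.trans (Cfsg.Agent.Lib.Helper63.Asch.tensorProductSubgroup_le_swap e P)) g₂ g₁ hdata.swap ?_
    intro x y
    rw [← formOfGram_swap]
    exact hform (x ∘ Equiv.prodComm (Fin a) (Fin b)) (y ∘ Equiv.prodComm (Fin a) (Fin b))

end Cfsg.Agent.Lib.Helper39.AschE
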