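import Cfsg.Agent.Lib.Helper64.BG14K
import Cfsg.Agent.Lib.Helper61.BG1310HD
import Cfsg.Agent.Lib.Helper60.BG151A
import Cfsg.Agent.Lib.Helper91.BG125e
import Cfsg.Agent.Lib.Helper89.BG14DS1
import Cfsg.Agent.Lib.Helper58.BG139I
import Cfsg.Agent.Lib.Helper13.BG12B
import Cfsg.Agent.S1350

/-!
# K-1381-F (138107): type `P` data force `κ(M) ≠ ∅`
-/

set_option autoImplicit false
set_option linter.unusedSectionVars false

namespace Cfsg.Agent.Lib.Helper39.BG1381

open Cfsg Subgroup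

variable {G : Type*} [Group G] [Finite G]

/-- If `W ≤ M` is a cyclic subgroup with `(|W|, |M : W|) = 1` and `q ∣ |W|` then every Sylow
`q`-subgroup of `M` is cyclic. -/
theorem sylow_cyclic_of_cyclic_hall {M : Type*} [Group M] [Finite M] (W : Subgroup M) [IsCyclic W]
    (hcop : (Nat.card W).Coprime W.index) {q : ℕ} [Fact q.Prime] (hq : q ∣ Nat.card W)
    (P : Sylow q M) : IsCyclic P := by
  classical
  obtain ⟨Q⟩ : Nonempty (Sylow q W) := inferInstance
  have hQc : IsCyclic (Q : Subgroup W) := inferInstance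
  set Q' : Subgroup M := (Q : Subgroup W).map W.subtype with hQ'
  have hcardQ' : Nat.card Q' = Nat.card (Q : Subgroup W) :=
    Subgroup.card_map_of_injective W.subtype_injective
  have hqi : ¬ q ∣ W.index := by
    intro h
    have := Nat.Coprime.eq_one_of_dvd (Nat.Coprime.coprime_dvd_left hq hcop) h
    exact (Fact.out : q.Prime).one_lt.ne' this
  have hfac : (Nat.card M).factorization q = (Nat.card W).factorization q := by
    rw [← Subgroup.card_mul_index W, Nat.factorization_mul Nat.card_pos.ne'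
      (Subgroup.index_ne_zero_of_finite), Finsupp.add_apply,
      Nat.factorization_eq_zero_of_not_dvd hqi, add_zero]
  have hcard : Nat.card Q' = q ^ (Nat.card M).factorization q := by
    rw [hcardQ', Sylow.card_eq_multiplicity, hfac]
  have hQ'c : IsCyclic Q' :=
    isCyclic_of_surjective ((Q : Subgroup W).equivMapOfInjective W.subtype
      W.subtype_injective).toMonoidHom (MulEquiv.surjective _)
  have hS : IsCyclic ((Sylow.ofCard Q' hcard : Sylow q M) : Subgroup M) := by
    rw [Sylow.coe_ofCard]; exact hQ'c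
  exact isCyclic_of_surjective (Sylow.equiv (Sylow.ofCard Q' hcard) P).toMonoidHom
    (MulEquiv.surjective _)

theorem kappa_nonempty_of_typeP (hG : IsMinSimpleOddOrder G) {M W₁ U' W₂ : Subgroup G} (hM : IsCoatom M)
    (h : IsTypePWith M W₁ U' W₂) : (kappa M).Nonempty := by
  classical
  -- an element `y ∈ W₁` of prime order `q`
  obtain ⟨q, hq, hqW, y, hyW, hyo⟩ :=
    Cfsg.Agent.Lib.Helper89.BG14D.exists_prime_orderOf_of_ne_bot h.W₁_ne
  have : Fact q.Prime := ⟨hq⟩
  have hy1 : y ≠ 1 := by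
    intro hy
    rw [hy, orderOf_one] at hyo
    exact hq.one_lt.ne hyo
  have hW₁M : W₁ ≤ M := h.W₁_compl.2.1
  have hqM : q ∣ Nat.card M := hqW.trans (Subgroup.card_dvd_of_le hW₁M)
  -- `W₂ = C_{M'}(y) ≠ 1` lies in `M_σ`
  have hW₂ := h.W₂_centralizer y hyW hy1
  have hW₂1 : W₂ ≠ ⊥ := h.selfNormalizing.2.1
  have hW₂σ : W₂ ≤ sigmaCore M :=
    (h.W₂_le.trans inf_le_left).trans
      (Cfsg.Agent.Lib.Helper60.BG151.fittingHallOf_le_sigmaCore hG hM)
  have hW₂c : W₂ ≤ centralizer ((zpowers y : Subgroup G) : Set G) := by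
    intro w hw
    rw [← hW₂] at hw
    have hwy := Subgroup.mem_centralizer_iff.mp hw.2 y (Set.mem_singleton y)
    rw [Subgroup.mem_centralizer_iff]
    intro u hu
    obtain ⟨n, rfl⟩ := Subgroup.mem_zpowers_iff.mp hu
    have hc : Commute y w := hwy
    exact (hc.zpow_left n).eq
  have hC : sigmaCore M ⊓ centralizer ((zpowers y : Subgroup G) : Set G) ≠ ⊥ := by
    intro hbot
    apply hW₂1
    rw [eq_bot_iff, ← hbot]
    exact le_inf hW₂σ hW₂c
  have hYM : zpowers y ≤ M := Subgroup.zpowers_le.mpr (hW₁M hyW)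
  have hYc : Nat.card (zpowers y) = q := by rw [Nat.card_zpowers, hyo]
  -- `q ∉ σ(M)`
  have hqσ : q ∉ sigma M := by
    intro hqσ
    have hYp : IsPGroup q (zpowers y) := IsPGroup.of_card (n := 1) (by rw [hYc, pow_one])
    have h1 : zpowers y ≤ sigmaCore M :=
      Cfsg.Agent.Lib.Helper91.BG125.le_sigmaCore_of_mem_sigma hG hM hqσ hYp hYM
    have hHall := (Cfsg.Agent.S1350.result hG M hM).1
    obtain ⟨E, hE, -⟩ := Cfsg.Agent.Lib.Helper13.BG12.exists_complIn_ge hG hM hHall
      (K := ⊥) bot_le (by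
        intro p hp hpd
        rw [Subgroup.card_bot] at hpd
        exact absurd (Nat.dvd_one.mp hpd) hp.one_lt.ne')
    have h2 : sigmaCore M ≤ ⁅M, M⁆ :=
      Cfsg.Agent.Lib.Helper58.BG139.sigmaCore_le_commutator hG hM hE
    have h3 : y ∈ ⁅M, M⁆ ⊓ W₁ := ⟨h2 (h1 (Subgroup.mem_zpowers y)), hyW⟩
    rw [h.W₁_compl.2.2.1, Subgroup.mem_bot] at h3
    exact hy1 h3
  -- `M` has `q`-rank one
  have hrank : PRankLE q 1 M := by
    apply Cfsg.Agent.Lib.Helper61.BG1310.pRankLE_one_of_sylow_cyclic hq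
    intro P
    have : IsCyclic W₁ := h.W₁_cyclic
    have : IsCyclic (W₁.subgroupOf M) :=
      isCyclic_of_surjective (Subgroup.subgroupOfEquivOfLe hW₁M).symm.toMonoidHom
        (MulEquiv.surjective _)
    have hcardW : Nat.card (W₁.subgroupOf M) = Nat.card W₁ :=
      Nat.card_congr (Subgroup.subgroupOfEquivOfLe hW₁M).toEquiv
    refine sylow_cyclic_of_cyclic_hall (W₁.subgroupOf M) ?_ ?_ P
    · rw [hcardW]; exact h.W₁_hall
    · rw [hcardW]; exact hqW
  exact ⟨q, Cfsg.Agent.Lib.Helper64.BG14.mem_kappa_of_cent_ne_bot hG hM hq hqM hqσ hrank hYM hYc hC⟩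

end Cfsg.Agent.Lib.Helper39.BG1381
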