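import Cfsg.Agent.S1432
import Cfsg.Agent.Lib.Helper71.BG11a

/-!
# K-1436-Q (143605): `o(x) ∈ τ₂(N)` when `κ(N) = ∅`
-/

set_option autoImplicit false
set_option linter.unusedSectionVars false

namespace Cfsg.Agent.Lib.Helper39.BG1436

open Cfsg Subgroup

variable {G : Type*} [Group G] [Finite G]

theorem mem_tau2_of_prime (hG : IsMinSimpleOddOrder G) {M N : Subgroup G} (hM : IsCoatom M) (hN : IsCoatom N) {x : G}
    (hx : x ∈ sigmaCore M) (hx1 : x ≠ 1) (hxN : centralizer ({x} : Set G) ≤ N)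
    (hdisj : ∀ p : ℕ, p ∈ sigma N → p ∉ sigma M) (hR : sigmaCore N ⊓ centralizer ({x} : Set G) ≠ ⊥)
    (hkN : kappa N = ∅) (hq : (orderOf x).Prime) : orderOf x ∈ tau2 N := by
  -- a non-identity `y ∈ N_σ ⊓ C(x)`
  obtain ⟨y, hyR, hy1'⟩ : ∃ y ∈ sigmaCore N ⊓ centralizer ({x} : Set G), y ≠ 1 := by
    by_contra hcon
    apply hR
    rw [Subgroup.eq_bot_iff_forall]
    intro z hz
    by_contra hz1
    exact hcon ⟨z, hz, hz1⟩
  have hyσ : y ∈ sigmaCore N := hyR.1
  have hyx : x * y = y * x := Subgroup.mem_centralizer_iff.mp hyR.2 x (Set.mem_singleton x)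
  have hxN' : x ∈ N := hxN (by
    rw [Subgroup.mem_centralizer_iff]
    intro h hh
    rw [Set.mem_singleton_iff.mp hh])
  have hxy : x ∈ centralizer ({y} : Set G) := by
    rw [Subgroup.mem_centralizer_iff]
    intro h hh
    rw [Set.mem_singleton_iff.mp hh]
    exact hyx.symm
  -- the only prime dividing `o(x)` is `q ∈ σ(M)`, hence `∉ σ(N)`
  have hqσM : orderOf x ∈ sigma M := by
    apply Cfsg.Agent.Lib.Helper71.BG11.sigmaCore_pi hG hM hq
    have h := orderOf_dvd_natCard (⟨x, hx⟩ : ↥(sigmaCore M))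
    rwa [Subgroup.orderOf_mk] at h
  have hσ : ∀ p : ℕ, p.Prime → p ∣ orderOf x → p ∉ sigma N := by
    intro p hp hpd hpN
    have hpq : p = orderOf x := (Nat.prime_dvd_prime_iff_eq hp hq).mp hpd
    rw [hpq] at hpN
    exact hdisj _ hpN hqσM
  rcases Cfsg.Agent.S1432.result hG N hN y hyσ hy1' x ⟨hxN', hxy⟩ hx1 hσ with h | h
  · exfalso
    have := h.1 (orderOf x) hq dvd_rfl
    rw [hkN] at this
    exact this
  · exact h.1 (orderOf x) hq dvd_rfl

end Cfsg.Agent.Lib.Helper39.BG1436
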