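import Mathlib

set_option autoImplicit false

/-!
# Pack K-3806 (S3806), leaf B: the norm identity

`T` abelian normal, `σ y = s⁻¹ y s`, `δ = σ - 1` nilpotent of index `< p` on `T`:
`(s x)^p = s^p · N(x)` with `N = ∑_{i<p} σ^i = ∑_j C(p,j+1) δ^j`, and `N x = 0` forces `p x = 0`.
-/

namespace Cfsg.Agent.Lib.Helper39.MC3806

open Finset

/-- `∑_{i<n} (1+d)^i = ∑_{j<n} C(n,j+1) d^j` in any semiring -/
theorem b_geom_one_add {R : Type*} [Semiring R] (d : R) (n : ℕ) :
    ∑ i ∈ range n, (1 + d) ^ i = ∑ j ∈ range n, (n.choose (j + 1)) • d ^ j := by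
  induction n with
  | zero => simp
  | succ n ih =>
    rw [sum_range_succ, ih]
    have h1 : (1 + d) ^ n = ∑ j ∈ range (n + 1), (n.choose j) • d ^ j := by
      rw [add_comm, (Commute.one_right d).add_pow]
      refine sum_congr rfl fun j _ => ?_
      rw [one_pow, mul_one, nsmul_eq_mul, (Nat.cast_commute _ _).eq]
    have h2 : ∑ j ∈ range n, (n.choose (j + 1)) • d ^ j
        = ∑ j ∈ range (n + 1), (n.choose (j + 1)) • d ^ j := by
      rw [sum_range_succ, Nat.choose_succ_self, zero_smul, add_zero]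
    rw [h1, h2, ← sum_add_distrib]
    refine sum_congr rfl fun j _ => ?_
    rw [← add_smul]
    congr 1
    rw [Nat.choose_succ_succ]
    exact add_comm _ _

/-- the additive core: `δ^(p-1) = 0` and `(∑_{i<p} (1+δ)^i) x = 0` give `p • x = 0` -/
theorem b_smul_eq_zero {A : Type*} [AddCommGroup A] (p : ℕ) (hp : p.Prime) (δ : Module.End ℤ A)
    (hδ : δ ^ (p - 1) = 0) (x : A) (hN : (∑ i ∈ range p, (1 + δ) ^ i) x = 0) : p • x = 0 := by
  obtain ⟨q, rfl⟩ : ∃ q, p = q + 1 := ⟨p - 1, by have := hp.one_lt; omega⟩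
  rw [Nat.add_sub_cancel] at hδ
  have hNform : ∑ i ∈ range (q + 1), (1 + δ) ^ i
      = ∑ j ∈ range (q + 1), ((q + 1).choose (j + 1)) • δ ^ j := b_geom_one_add δ (q + 1)
  have hcomm : ∀ j, Commute (∑ i ∈ range (q + 1), (1 + δ) ^ i) (δ ^ j) := by
    intro j
    refine Commute.sum_left _ _ _ fun i _ => ?_
    exact (((Commute.one_left δ).add_left (Commute.refl δ)).pow_left i).pow_right j
  have hNj : ∀ j, (∑ i ∈ range (q + 1), (1 + δ) ^ i) ((δ ^ j) x) = 0 := by
    intro j
    rw [← Module.End.mul_apply, (hcomm j).eq, Module.End.mul_apply, hN, map_zero]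
  have hbig : ∀ j, q ≤ j → (δ ^ j) x = 0 := by
    intro j hj
    have : δ ^ j = δ ^ (j - q) * δ ^ q := by
      rw [← pow_add]
      congr 1
      omega
    rw [this, hδ, mul_zero, LinearMap.zero_apply]
  have key : ∀ k j, q ≤ j + k → (q + 1) • ((δ ^ j) x) = 0 := by
    intro k
    induction k with
    | zero =>
      intro j hj
      rw [hbig j (by omega), smul_zero]
    | succ k ih =>
      intro j hj
      have h0 := hNj j
      rw [hNform, LinearMap.sum_apply, sum_range_succ'] at h0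
      have hz : ∑ i ∈ range q, (((q + 1).choose (i + 1 + 1)) • δ ^ (i + 1)) ((δ ^ j) x) = 0 := by
        refine sum_eq_zero fun i hi => ?_
        rw [mem_range] at hi
        rw [LinearMap.smul_apply, ← Module.End.mul_apply, ← pow_add]
        by_cases hlt : i + 1 + 1 < q + 1
        · obtain ⟨c, hc⟩ := hp.dvd_choose_self (by omega : i + 1 + 1 ≠ 0) hlt
          rw [hc, mul_comm, mul_smul, ih (i + 1 + j) (by omega), smul_zero]
        · rw [hbig (i + 1 + j) (by omega), smul_zero]
      rw [hz, zero_add, LinearMap.smul_apply, Nat.choose_one_right, pow_zero, Module.End.one_apply] at h0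
      exact h0
  have := key q 0 (by omega)
  rwa [pow_zero, Module.End.one_apply] at this

/-- LEAF B of pack K-3806 -/
theorem pow_eq_one_of_mul_pow_eq {G : Type*} [Group G] (p : ℕ) (hp : p.Prime) (T : Subgroup G) [T.Normal]
    (hT : ∀ a ∈ T, ∀ b ∈ T, a * b = b * a) (s : G)
    (hd : ∀ x ∈ T, (fun y : G => s⁻¹ * y * s * y⁻¹)^[p - 1] x = 1)
    (x : G) (hx : x ∈ T) (h : (s * x) ^ p = s ^ p) : x ^ p = 1 := by
  let _ : CommGroup ↥T := { (inferInstance : Group ↥T) with
    mul_comm := fun a b => Subtype.ext (hT a a.2 b b.2) }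
  have hconj : ∀ y : ↥T, s⁻¹ * (y : G) * s ∈ T := by
    intro y
    have := (inferInstance : T.Normal).conj_mem y y.2 s⁻¹
    simpa using this
  let σm : ↥T →* ↥T :=
    { toFun := fun y => ⟨s⁻¹ * (y : G) * s, hconj y⟩
      map_one' := by
        apply Subtype.ext
        simp
      map_mul' := by
        intro a b
        apply Subtype.ext
        simp [mul_assoc] }
  let σ : Module.End ℤ (Additive ↥T) := (MonoidHom.toAdditive σm).toIntLinearMap
  let δ : Module.End ℤ (Additive ↥T) := σ - 1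
  have hσδ : 1 + δ = σ := by
    show 1 + (σ - 1) = σ
    abel
  have hσ_apply : ∀ y : ↥T, (((σ (Additive.ofMul y)).toMul : ↥T) : G) = s⁻¹ * (y : G) * s := by
    intro y
    rfl
  have hδ_apply : ∀ y : ↥T, (((δ (Additive.ofMul y)).toMul : ↥T) : G)
      = s⁻¹ * (y : G) * s * (y : G)⁻¹ := by
    intro y
    show (((σ (Additive.ofMul y) - Additive.ofMul y).toMul : ↥T) : G) = _
    rw [toMul_sub, Subgroup.coe_div, hσ_apply, toMul_ofMul, div_eq_mul_inv]
  have hiter : ∀ n : ℕ, ∀ y : ↥T, ((((δ ^ n) (Additive.ofMul y)).toMul : ↥T) : G)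
      = (fun y : G => s⁻¹ * y * s * y⁻¹)^[n] (y : G) := by
    intro n
    induction n with
    | zero =>
      intro y
      rw [pow_zero, Module.End.one_apply, Function.iterate_zero, id]
      rfl
    | succ n ih =>
      intro y
      rw [pow_succ, Module.End.mul_apply, Function.iterate_succ_apply]
      have := ih ((δ (Additive.ofMul y)).toMul)
      rw [ofMul_toMul, hδ_apply] at this
      exact this
  have hδ0 : δ ^ (p - 1) = 0 := by
    apply LinearMap.ext
    intro a
    rw [LinearMap.zero_apply]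
    have h1 := hiter (p - 1) a.toMul
    rw [ofMul_toMul, hd _ a.toMul.2] at h1
    have h2 : ((δ ^ (p - 1)) a).toMul = 1 := Subtype.ext h1
    exact toMul_eq_one.mp h2
  have hpow : ∀ m : ℕ, (s * x) ^ m
      = s ^ m * ((((∑ i ∈ range m, σ ^ i) (Additive.ofMul (⟨x, hx⟩ : ↥T))).toMul : ↥T) : G) := by
    intro m
    induction m with
    | zero => simp
    | succ m ih =>
      have hsum : ∑ i ∈ range (m + 1), σ ^ i = σ * ∑ i ∈ range m, σ ^ i + 1 := by
        rw [sum_range_succ', pow_zero, mul_sum]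
        congr 1
        refine sum_congr rfl fun i _ => ?_
        rw [pow_succ']
      rw [pow_succ, ih, hsum, LinearMap.add_apply, Module.End.mul_apply, Module.End.one_apply, toMul_add,
        Subgroup.coe_mul, toMul_ofMul]
      set nm : ↥T := ((∑ i ∈ range m, σ ^ i) (Additive.ofMul (⟨x, hx⟩ : ↥T))).toMul with hnm
      have h3 := hσ_apply nm
      rw [ofMul_toMul] at h3
      rw [h3, pow_succ]
      group
  have hp1 := hpow p
  rw [h] at hp1
  have hn1 : ((((∑ i ∈ range p, σ ^ i) (Additive.ofMul (⟨x, hx⟩ : ↥T))).toMul : ↥T) : G) = 1 := by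
    exact mul_left_cancel (hp1.symm.trans (mul_one _).symm)
  have hN0 : (∑ i ∈ range p, (1 + δ) ^ i) (Additive.ofMul (⟨x, hx⟩ : ↥T)) = 0 := by
    rw [hσδ]
    exact toMul_eq_one.mp (Subtype.ext hn1)
  have hfin := b_smul_eq_zero p hp δ hδ0 _ hN0
  rw [← ofMul_pow] at hfin
  have hfin' : (⟨x, hx⟩ : ↥T) ^ p = 1 := ofMul_eq_zero.mp hfin
  have := congrArg (Subtype.val) hfin'
  simpa using this

end Cfsg.Agent.Lib.Helper39.MC3806
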