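import Mathlib

set_option autoImplicit false

/-!
# K15-E3 (sub-task of S4305): a maximal `r`-subgroup centralizing the `r'`-part of an abelian derived
subgroup is normal
-/

namespace Cfsg.Agent.Lib.Helper39.S3E3

open scoped commutatorElement

variable {M : Type*} [Group M]

/-- `⁅H, H⁆ ≤ H` -/
theorem commutator_self_le (H : Subgroup M) : ⁅H, H⁆ ≤ H := by
  rw [Subgroup.commutator_le]
  intro a ha b hb
  rw [commutatorElement_def]
  exact H.mul_mem (H.mul_mem (H.mul_mem ha hb) (H.inv_mem ha)) (H.inv_mem hb)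

/-- `⁅H, H⁆` is normalized by `H` -/
theorem conj_mem_commutator_self (H : Subgroup M) {h d : M} (hh : h ∈ H) (hd : d ∈ ⁅H, H⁆) :
    h * d * h⁻¹ ∈ ⁅H, H⁆ := by
  have h1 : ⁅h, d⁆ ∈ ⁅H, H⁆ := Subgroup.commutator_mem_commutator hh (commutator_self_le H hd)
  have h2 : h * d * h⁻¹ = ⁅h, d⁆ * d := by rw [commutatorElement_def]; group
  rw [h2]
  exact Subgroup.mul_mem _ h1 hd

/-- the `r`-elements of the abelian group `⁅H, H⁆` -/
def rPart (H : Subgroup M) (r : ℕ) (hDab : ∀ x ∈ ⁅H, H⁆, ∀ y ∈ ⁅H, H⁆, x * y = y * x) :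
    Subgroup M where
  carrier := {d | d ∈ ⁅H, H⁆ ∧ ∃ k : ℕ, d ^ (r ^ k) = 1}
  one_mem' := ⟨Subgroup.one_mem _, 0, one_pow _⟩
  mul_mem' := by
    rintro a b ⟨ha, k, hk⟩ ⟨hb, l, hl⟩
    refine ⟨Subgroup.mul_mem _ ha hb, k + l, ?_⟩
    have hc : Commute a b := hDab a ha b hb
    rw [hc.mul_pow, pow_add, pow_mul, hk, one_pow, mul_comm (r ^ k), pow_mul, hl, one_pow, one_mul]
  inv_mem' := by
    rintro a ⟨ha, k, hk⟩
    exact ⟨Subgroup.inv_mem _ ha, k, by rw [inv_pow, hk, inv_one]⟩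

theorem rPart_isPGroup (H : Subgroup M) (r : ℕ)
    (hDab : ∀ x ∈ ⁅H, H⁆, ∀ y ∈ ⁅H, H⁆, x * y = y * x) : IsPGroup r (rPart H r hDab) := by
  rintro ⟨d, hd, k, hk⟩
  exact ⟨k, Subtype.ext (by simpa using hk)⟩

/-- (E3) a maximal `r`-subgroup of `H` centralizing the `r'`-elements of the abelian derived
subgroup is normal. -/
theorem sylow_normal_of_centralizes [Finite M] (H R : Subgroup M) (r : ℕ)
    [Fact r.Prime] (hRH : R ≤ H) (hR : IsPGroup r R)
    (hRmax : ∀ R' : Subgroup M, R ≤ R' → R' ≤ H → IsPGroup r R' → R' = R)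
    (hDab : ∀ x ∈ ⁅H, H⁆, ∀ y ∈ ⁅H, H⁆, x * y = y * x)
    (hcent : ∀ d ∈ ⁅H, H⁆, (orderOf d).Coprime r → ∀ x ∈ R, x * d = d * x) :
    H ≤ Subgroup.normalizer (R : Set M) := by
  have hr : r.Prime := Fact.out
  set E := rPart H r hDab with hE
  -- `E ≤ R`
  have hER : E ≤ R := by
    have hnorm : R ≤ Subgroup.normalizer (E : Set M) := by
      intro x hx
      rw [Subgroup.mem_normalizer_iff]
      have key : ∀ z ∈ H, ∀ n ∈ E, z * n * z⁻¹ ∈ E := by
        rintro z hz n ⟨hn, k, hk⟩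
        refine ⟨conj_mem_commutator_self H hz hn, k, ?_⟩
        rw [conj_pow, hk, mul_one, mul_inv_cancel]
      intro n
      constructor
      · exact key x (hRH hx) n
      · intro hn
        have := key x⁻¹ (H.inv_mem (hRH hx)) _ hn
        simpa [mul_assoc] using this
    have hp : IsPGroup r ↥(R ⊔ E) := IsPGroup.to_sup_of_normal_right' hR (rPart_isPGroup H r hDab) hnorm
    have hle : R ⊔ E ≤ H := sup_le hRH (fun d hd => commutator_self_le H hd.1)
    have := hRmax (R ⊔ E) le_sup_left hle hp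
    rw [← this]
    exact le_sup_right
  -- conjugates of elements of `R` by elements of `H` stay in `R`
  have key : ∀ h ∈ H, ∀ x ∈ R, h * x * h⁻¹ ∈ R := by
    intro h hh x hx
    set d := ⁅h, x⁆ with hd
    have hdD : d ∈ ⁅H, H⁆ := Subgroup.commutator_mem_commutator hh (hRH hx)
    have hconj : h * x * h⁻¹ = d * x := by rw [hd, commutatorElement_def]; group
    obtain ⟨a, m, hm, hdm⟩ := Nat.exists_eq_pow_mul_and_not_dvd (orderOf_pos d).ne' r hr.ne_one
    have hcop : Nat.Coprime (r ^ a) m := Nat.Coprime.pow_left a ((Nat.Prime.coprime_iff_not_dvd hr).2 hm)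
    -- Bezout
    have hbez : ((r ^ a : ℕ) : ℤ) * Nat.gcdA (r ^ a) m + (m : ℤ) * Nat.gcdB (r ^ a) m = 1 := by
      have := Nat.gcd_eq_gcd_ab (r ^ a) m
      rw [hcop.gcd_eq_one] at this
      exact_mod_cast this.symm
    set d' := (d ^ (r ^ a)) ^ (Nat.gcdA (r ^ a) m) with hd'
    set dr := (d ^ m) ^ (Nat.gcdB (r ^ a) m) with hdr
    have hsplit : d = d' * dr := by
      rw [hd', hdr, ← zpow_natCast, ← zpow_natCast, ← zpow_mul, ← zpow_mul, ← zpow_add, hbez, zpow_one]
    have hd'D : d' ∈ ⁅H, H⁆ := Subgroup.zpow_mem _ (Subgroup.pow_mem _ hdD _) _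
    have hdrD : dr ∈ ⁅H, H⁆ := Subgroup.zpow_mem _ (Subgroup.pow_mem _ hdD _) _
    have hdtot : d ^ (r ^ a * m) = 1 := by rw [← hdm]; exact pow_orderOf_eq_one d
    have hd'm : d' ^ m = 1 := by
      rw [hd', ← zpow_natCast, ← zpow_mul, mul_comm, zpow_mul, zpow_natCast, ← pow_mul, hdtot, one_zpow]
    have hdrr : dr ^ (r ^ a) = 1 := by
      rw [hdr, ← zpow_natCast, ← zpow_mul, mul_comm, zpow_mul, zpow_natCast, ← pow_mul, mul_comm m,
        hdtot, one_zpow]
    have hdrE : dr ∈ E := ⟨hdrD, a, hdrr⟩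
    have hdrR : dr ∈ R := hER hdrE
    have hd'cop : (orderOf d').Coprime r := by
      have h1 : orderOf d' ∣ m := orderOf_dvd_of_pow_eq_one hd'm
      exact Nat.Coprime.coprime_dvd_left h1 ((Nat.Prime.coprime_iff_not_dvd hr).2 hm).symm
    set y := dr * x with hy
    have hyR : y ∈ R := R.mul_mem hdrR hx
    have hcomm : Commute d' y := (hcent d' hd'D hd'cop y hyR).symm
    have hconj' : h * x * h⁻¹ = d' * y := by rw [hconj, hsplit, hy, mul_assoc]
    -- `h x h⁻¹` and `y` are `r`-elements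
    obtain ⟨k, hk⟩ := hR ⟨x, hx⟩
    have hxk : x ^ (r ^ k) = 1 := by simpa using congrArg Subtype.val hk
    obtain ⟨l, hl⟩ := hR ⟨y, hyR⟩
    have hyl : y ^ (r ^ l) = 1 := by simpa using congrArg Subtype.val hl
    have h1 : (d' * y) ^ (r ^ (k + l)) = 1 := by
      rw [← hconj', conj_pow, pow_add, pow_mul, hxk, one_pow, mul_one, mul_inv_cancel]
    have h2 : d' ^ (r ^ (k + l)) = 1 := by
      rw [hcomm.mul_pow] at h1
      have : y ^ (r ^ (k + l)) = 1 := by
        rw [pow_add, mul_comm, pow_mul, hyl, one_pow]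
      rwa [this, mul_one] at h1
    have h3 : orderOf d' = 1 := by
      have ha : orderOf d' ∣ r ^ (k + l) := orderOf_dvd_of_pow_eq_one h2
      have hb : orderOf d' ∣ m := orderOf_dvd_of_pow_eq_one hd'm
      have hc : Nat.Coprime (r ^ (k + l)) m :=
        Nat.Coprime.pow_left _ ((Nat.Prime.coprime_iff_not_dvd hr).2 hm)
      exact Nat.eq_one_of_dvd_coprimes hc ha hb
    rw [orderOf_eq_one_iff] at h3
    rw [hconj', h3, one_mul]
    exact hyR
  intro h hh
  rw [Subgroup.mem_normalizer_iff]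
  intro n
  constructor
  · exact key h hh n
  · intro hn
    have := key h⁻¹ (H.inv_mem hh) _ hn
    simpa [mul_assoc] using this

end Cfsg.Agent.Lib.Helper39.S3E3
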