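import Mathlib
import Cfsg.Prelude.Def_Solvable

/-! K-GAG leaf G07b (S4839 pack, architect helper32): for `p` odd every involution inverts `N`. -/

set_option autoImplicit false

namespace Cfsg.Agent.Lib.Helper39.Gag

variable {G : Type*} [Group G] [Finite G]

theorem involution_inverts {p : ℕ} [Fact p.Prime] (hp2 : p ≠ 2) (N : Subgroup G) [N.Normal]
    (hcp : ∀ x ∈ N, x ≠ 1 → IsPGroup p (Subgroup.centralizer ({x} : Set G)))
    (hcomm : ∀ a ∈ N, ∀ b ∈ N, a * b = b * a)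
    (s : G) (hs : s * s = 1) (hs1 : s ≠ 1) :
    ∀ n ∈ N, s * n * s⁻¹ = n⁻¹ := by
  intro n hn
  have hsinv : s⁻¹ = s := inv_eq_of_mul_eq_one_left hs
  have hcn : s * n * s⁻¹ ∈ N := (inferInstance : N.Normal).conj_mem n hn s
  have hmN : n * (s * n * s⁻¹) ∈ N := N.mul_mem hn hcn
  have hfix : s * (n * (s * n * s⁻¹)) * s⁻¹ = n * (s * n * s⁻¹) := by
    have h1 : s * (n * (s * n * s⁻¹)) * s⁻¹ = (s * n * s⁻¹) * n := by
      rw [hsinv]
      calc s * (n * (s * n * s)) * s = s * n * s * n * (s * s) := by group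
        _ = s * n * s * n := by rw [hs, mul_one]
    rw [h1]; exact hcomm _ hcn _ hn
  by_contra hne
  have hm1 : n * (s * n * s⁻¹) ≠ 1 := by
    intro h; apply hne
    exact eq_inv_of_mul_eq_one_right h
  have hP := hcp _ hmN hm1
  have hsC : s ∈ Subgroup.centralizer ({n * (s * n * s⁻¹)} : Set G) := by
    rw [Subgroup.mem_centralizer_singleton_iff]
    calc s * (n * (s * n * s⁻¹)) = s * (n * (s * n * s⁻¹)) * s⁻¹ * s := by group
      _ = n * (s * n * s⁻¹) * s := by rw [hfix]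
  obtain ⟨k, hk⟩ := hP ⟨s, hsC⟩
  have h2 : orderOf s = 2 := orderOf_eq_prime (by rw [pow_two]; exact hs) hs1
  have hd : orderOf s ∣ p ^ k :=
    orderOf_dvd_of_pow_eq_one (by simpa using congrArg Subtype.val hk)
  rw [h2] at hd
  have := (Nat.prime_dvd_prime_iff_eq Nat.prime_two (Fact.out : p.Prime)).mp
    (Nat.prime_two.dvd_of_dvd_pow hd)
  exact hp2 this.symm

end Cfsg.Agent.Lib.Helper39.Gag
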