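import Cfsg.Agent.Lib.Helper31.BG147Defs
import Cfsg.Agent.Lib.Helper55.Basic
import Cfsg.Agent.Lib.Helper55.Uniq3
import Cfsg.Agent.Lib.Helper55.BG1213a
import Cfsg.Agent.Lib.Helper54.BG134A3a
import Cfsg.Agent.Lib.Helper71.BG11a
import Cfsg.Agent.Lib.Helper75.BG14DP
import Cfsg.Agent.Lib.Helper89.BG14DS1
import Cfsg.Agent.S1378

/-!
# K-1369-G (136906): BG 14.7(g): every maximal subgroup `H` with `κ(H) ≠ ∅` is conjugate to `M` or `M*`
-/

set_option autoImplicit false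
set_option linter.unusedSectionVars false

namespace Cfsg.Agent.Lib.Helper39.BG147

open Cfsg Subgroup Cfsg.Agent.Lib.Helper55 Cfsg.Agent.Lib.Helper11.BG14D
  Cfsg.Agent.Lib.Helper31.BG147

variable {G : Type*} [Group G] [Finite G]

/-- Two subsets of a finite type, each with more than half of the elements, meet. -/
theorem exists_mem_inter_of_half {α : Type*} [Finite α] (A B : Set α)
    (hA : Nat.card α < 2 * A.ncard) (hB : Nat.card α < 2 * B.ncard) : ∃ a, a ∈ A ∧ a ∈ B := by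
  by_contra hcon
  have hdisj : Disjoint A B := by
    rw [Set.disjoint_left]
    intro a haA haB
    exact hcon ⟨a, haA, haB⟩
  have h1 := Set.ncard_union_eq hdisj
  have h2 := Set.ncard_le_card (A ∪ B)
  omega

theorem pow_card_of_mem {H : Subgroup G} {g : G} (hg : g ∈ H) : g ^ Nat.card H = 1 := by
  have h := pow_card_eq_one' (G := H) (x := ⟨g, hg⟩)
  have h2 := congrArg Subtype.val h
  rw [Subgroup.coe_pow] at h2
  exact h2

theorem orderOf_dvd_card_of_mem {H : Subgroup G} {g : G} (hg : g ∈ H) : orderOf g ∣ Nat.card H :=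
  orderOf_dvd_of_pow_eq_one (pow_card_of_mem hg)

/-- The `Y`-part of an element of `K ⊔ Y` (commuting, coprime orders) is a power of it. -/
theorem exists_parts {K Y : Subgroup G} (hc : Y ≤ centralizer (K : Set G))
    (hcop : (Nat.card K).Coprime (Nat.card Y)) {z : G} (hz : z ∈ K ⊔ Y) :
    ∃ x ∈ K, ∃ y ∈ Y, z = x * y ∧ x * y = y * x ∧ (∃ b : ℕ, z ^ b = y) := by
  have hcomm : ∀ a ∈ K, ∀ b ∈ Y, a * b = b * a := by
    intro a ha b hb
    exact (Subgroup.mem_centralizer_iff.mp (hc hb) a ha)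
  obtain ⟨x, hx, y, hy, hzxy⟩ := exists_mul_of_mem_sup_of_commute hcomm hz
  refine ⟨x, hx, y, hy, hzxy, hcomm x hx y hy, ?_⟩
  refine ⟨(Nat.chineseRemainder hcop.symm 1 0 : ℕ), ?_⟩
  rw [hzxy, hcomm x hx y hy]
  exact Cfsg.Agent.Lib.Helper75.BG14D.pow_crt_eq hcop.symm (pow_card_of_mem hy) (pow_card_of_mem hx)
    (hcomm x hx y hy).symm

theorem Ks_le_centralizer (M K : Subgroup G) : Ks M K ≤ centralizer (K : Set G) := inf_le_right

theorem Ks_le_sigmaCore (M K : Subgroup G) : Ks M K ≤ sigmaCore M := inf_le_left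

/-- primes dividing the order of an element of `K*` lie in `σ(M)` -/
theorem mem_sigma_of_dvd_orderOf (hG : IsMinSimpleOddOrder G) {M K : Subgroup G} (hM : IsCoatom M)
    {y : G} (hy : y ∈ Ks M K) {p : ℕ} (hp : p.Prime) (hpy : p ∣ orderOf y) : p ∈ sigma M := by
  apply Cfsg.Agent.Lib.Helper71.BG11.sigmaCore_pi hG hM hp
  exact dvd_trans hpy (orderOf_dvd_card_of_mem (Ks_le_sigmaCore M K hy))

theorem conj_of_kappa_ne (hG : IsMinSimpleOddOrder G) {M K Mstar : Subgroup G} (hM : IsCoatom M)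
    (hK : IsPiHallOf (kappa M) K M) (hK1 : K ≠ ⊥) (hMstar : IsCoatom Mstar)
    (hKst : K = sigmaCore Mstar ⊓ centralizer ((Ks M K : Subgroup G) : Set G))
    (hKstH : IsPiHallOf (kappa Mstar) (Ks M K) Mstar) (hKs1 : Ks M K ≠ ⊥)
    (hU : ∀ (M K X : Subgroup G), IsCoatom M → IsPiHallOf (kappa M) K M → K ≠ ⊥ → X ≤ Ks M K →
      (Nat.card X).Prime → centralizer (X : Set G) ≤ M ∧
        ∀ L : Subgroup G, IsCoatom L → centralizer (X : Set G) ≤ L → L = M)
    (hHalf : ∀ (M K : Subgroup G), IsCoatom M → IsPiHallOf (kappa M) K M → K ≠ ⊥ →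
      Nat.card G < 2 * Set.ncard (csupp (Zhat M K)))
    (hcop : ∀ (M K : Subgroup G), IsCoatom M → IsPiHallOf (kappa M) K M →
      (Nat.card K).Coprime (Nat.card (Ks M K)))
    (H : Subgroup G) (hH : IsCoatom H) (hκ : (kappa H).Nonempty) :
    ∃ g : G, H = M.map (MulAut.conj g).toMonoidHom ∨ H = Mstar.map (MulAut.conj g).toMonoidHom := by
  classical
  -- a Hall κ(H)-subgroup of H
  have hsolv : Group.IsSolvable ↥H := ms_solvable hG hH.1
  obtain ⟨KH, hKH, -⟩ := Cfsg.Agent.Lib.Helper54.BG134.exists_isPiHallOf_ge hsolv (kappa H)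
    (K := ⊥) bot_le (by
      intro p hp hpd
      rw [Subgroup.card_bot] at hpd
      exact absurd (Nat.dvd_one.mp hpd) hp.one_lt.ne')
  have hKH1 : KH ≠ ⊥ := by
    rintro rfl
    obtain ⟨p, hp⟩ := hκ
    have h1 := hKH.2.2 p hp.1 hp
    rw [Subgroup.relIndex_bot_left] at h1
    exact h1 hp.2.1
  -- the two class supports meet
  obtain ⟨a, ⟨g, z, hz, hag⟩, ⟨g', z', hz', hag'⟩⟩ := exists_mem_inter_of_half
    (csupp (Zhat M K)) (csupp (Zhat H KH)) (hHalf M K hM hK hK1) (hHalf H KH hH hKH hKH1)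
  set c : G := g⁻¹ * g' with hc
  have hzc : z = c * z' * c⁻¹ := by
    have h1 : g * z * g⁻¹ = g' * z' * g'⁻¹ := by rw [← hag, ← hag']
    have h2 : z = g⁻¹ * (g * z * g⁻¹) * g := by group
    rw [h2, h1, hc]
    group
  -- the K_H*-part of z'
  obtain ⟨x', hx', y', hy', hz'xy, hcomm', b, hb⟩ :=
    exists_parts (Ks_le_centralizer H KH) (hcop H KH hH hKH) hz'.1
  have hy'1 : y' ≠ 1 := by
    intro h
    apply hz'.2
    left
    rw [hz'xy, h, mul_one]
    exact hx'
  set w : G := c * y' * c⁻¹ with hw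
  have hwz : w = z ^ b := by
    rw [hw, hzc, conj_pow, hb]
  have hw1 : w ≠ 1 := by
    intro h
    apply hy'1
    have : y' = c⁻¹ * w * c := by rw [hw]; group
    rw [this, h]; group
  have hwmem : w ∈ K ⊔ Ks M K := by
    rw [hwz]
    exact Subgroup.pow_mem _ hz.1 _
  have hwpow : ∀ n : ℕ, w ^ n = c * y' ^ n * c⁻¹ := by
    intro n
    rw [hw, conj_pow]
  have hordw : orderOf w ∣ orderOf y' := by
    apply orderOf_dvd_of_pow_eq_one
    rw [hwpow, pow_orderOf_eq_one]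
    group
  -- the K*-part of w is trivial, or H is conjugate to M
  obtain ⟨x₁, hx₁, y₁, hy₁, hwxy, hcomm₁, β, hβ⟩ :=
    exists_parts (Ks_le_centralizer M K) (hcop M K hM hK) hwmem
  by_cases hy₁1 : y₁ = 1
  swap
  · -- a common prime of σ(M) and σ(H)
    have ho : orderOf y₁ ≠ 1 := fun h => hy₁1 (orderOf_eq_one_iff.mp h)
    obtain ⟨p, hp, hpy⟩ := Nat.exists_prime_and_dvd ho
    have hpM : p ∈ sigma M := mem_sigma_of_dvd_orderOf hG hM hy₁ hp hpy
    have hpH : p ∈ sigma H := by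
      apply mem_sigma_of_dvd_orderOf hG hH hy' hp
      refine dvd_trans hpy (dvd_trans ?_ hordw)
      rw [← hβ]
      exact orderOf_pow_dvd β
    obtain ⟨g₀, hg₀⟩ := (Cfsg.Agent.S1378.result hG).2 M H hM hH ⟨p, hpM, hpH⟩
    exact ⟨g₀, Or.inl hg₀⟩
  · -- w ∈ K
    have hwK : w ∈ K := by
      rw [hwxy, hy₁1, mul_one]; exact hx₁
    obtain ⟨Y, hY, hYp⟩ := Cfsg.Agent.Lib.Helper89.BG14D.exists_prime_card_le_zpowers hy'1
    have hYKs : Y ≤ Ks H KH := le_trans hY (Subgroup.zpowers_le.mpr hy')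
    have hUH := hU H KH Y hH hKH hKH1 hYKs hYp
    have hcYK : cj c Y ≤ K := by
      rw [cj_le_iff]
      intro u hu
      obtain ⟨n, rfl⟩ := Subgroup.mem_zpowers_iff.mp (hY hu)
      rw [mem_cj, inv_inv]
      have : c * y' ^ n * c⁻¹ = w ^ n := by
        rw [hw, conj_zpow]
      rw [this]
      exact Subgroup.zpow_mem _ hwK n
    have hcYKs : cj c Y ≤ Ks Mstar (Ks M K) := le_of_le_of_eq hcYK hKst
    have hcYp : (Nat.card (cj c Y)).Prime := by rw [card_cj]; exact hYp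
    have hUM := hU Mstar (Ks M K) (cj c Y) hMstar hKstH hKs1 hcYKs hcYp
    have hcoat : IsCoatom (cj c H) := isCoatom_cj c hH
    have hle : centralizer ((cj c Y : Subgroup G) : Set G) ≤ cj c H := by
      rw [← cj_centralizer]
      exact cj_mono hUH.1
    have heq : cj c H = Mstar := hUM.2 (cj c H) hcoat hle
    refine ⟨c⁻¹, Or.inr ?_⟩
    have : cj c⁻¹ (cj c H) = cj c⁻¹ Mstar := by rw [heq]
    rw [cj_inv_cj] at this
    exact this

end Cfsg.Agent.Lib.Helper39.BG147
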