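import Mathlib

set_option autoImplicit false

/-! Elementary abelian `2`-groups acting on groups of odd order: eigen-subgroups. -/

namespace Cfsg.Agent.Lib.Helper39

open scoped commutatorElement

/-- In a subgroup of odd order, an element with `x * x = 1` is trivial. -/
theorem eq_one_of_mul_self_of_odd {G : Type*} [Group G] {H : Subgroup G}
    (hodd : Odd (Nat.card ↥H)) {x : G} (hx : x ∈ H) (h2 : x * x = 1) : x = 1 := by
  have h1 : orderOf x ∣ 2 := orderOf_dvd_of_pow_eq_one (by rw [pow_two]; exact h2)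
  have h3 : orderOf x ∣ Nat.card ↥H := Subgroup.orderOf_dvd_natCard H hx
  have h4 : Nat.Coprime 2 (Nat.card ↥H) := Nat.coprime_two_left.mpr hodd
  have h5 : orderOf x = 1 := Nat.eq_one_of_dvd_coprimes h4 h1 h3
  exact orderOf_eq_one_iff.1 h5

/-- Membership in the normalizer of a finite subgroup: one inclusion suffices. -/
theorem mem_normalizer_of_conj_mem {G : Type*} [Group G] [Finite G] {H : Subgroup G} {g : G}
    (h : ∀ x ∈ H, g * x * g⁻¹ ∈ H) : g ∈ Subgroup.normalizer (H : Set G) :=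
  Subgroup.mem_normalizer_fintype h

theorem conj_mem_of_mem_normalizer {G : Type*} [Group G] {H : Subgroup G} {g x : G}
    (hg : g ∈ Subgroup.normalizer (H : Set G)) (hx : x ∈ H) : g * x * g⁻¹ ∈ H :=
  (Subgroup.mem_normalizer_iff.1 hg x).1 hx

theorem conj_inv_mem_of_mem_normalizer {G : Type*} [Group G] {H : Subgroup G} {g x : G}
    (hg : g ∈ Subgroup.normalizer (H : Set G)) (hx : x ∈ H) : g⁻¹ * x * g ∈ H :=
  (Subgroup.mem_normalizer_iff''.1 hg x).1 hx

/-- **Eigen-subgroups.** Let `I` be a commutative group of exponent `2` normalizing `D` and `M`,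
where `D` normalizes `M` and `D` is abelian modulo `M`. If `D ≰ M`, there is an `I`-invariant
subgroup `D₀ ≤ D`, `D₀ ≰ M`, on which each element of `I` acts as `1` or `-1` modulo `M`. -/
theorem exists_eigen_subgroup {G : Type*} [Group G] [Finite G] (I D M : Subgroup G)
    (hIc : ∀ s ∈ I, ∀ t ∈ I, s * t = t * s) (hI2 : ∀ t ∈ I, t * t = 1)
    (hID : I ≤ Subgroup.normalizer (D : Set G)) (hIM : I ≤ Subgroup.normalizer (M : Set G))
    (hDM : D ≤ Subgroup.normalizer (M : Set G)) (hcomm : ⁅D, D⁆ ≤ M) (hne : ¬ D ≤ M) :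
    ∃ D₀ : Subgroup G, D₀ ≤ D ∧ ¬ D₀ ≤ M ∧ I ≤ Subgroup.normalizer (D₀ : Set G) ∧
      ∀ t ∈ I, (∀ d ∈ D₀, t * d * t⁻¹ * d⁻¹ ∈ M) ∨ (∀ d ∈ D₀, t * d * t⁻¹ * d ∈ M) := by
  obtain ⟨D₀, -, hmin⟩ := Finite.exists_le_minimal
    (p := fun K : Subgroup G => K ≤ D ∧ ¬ K ≤ M ∧ I ≤ Subgroup.normalizer (K : Set G))
    (a := D) ⟨le_rfl, hne, hID⟩
  obtain ⟨⟨h1, h2, h3⟩, hmin'⟩ := hmin
  refine ⟨D₀, h1, h2, h3, ?_⟩
  intro t ht
  have htinv : t⁻¹ = t := inv_eq_of_mul_eq_one_left (hI2 t ht)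
  -- the subgroup of elements of `D₀` centralized by `t` modulo `M`
  let Dp : Subgroup G :=
    { carrier := {d | d ∈ D₀ ∧ t * d * t⁻¹ * d⁻¹ ∈ M}
      one_mem' := ⟨one_mem _, by simp⟩
      mul_mem' := by
        rintro a b ⟨ha, ha'⟩ ⟨hb, hb'⟩
        refine ⟨mul_mem ha hb, ?_⟩
        have e : t * (a * b) * t⁻¹ * (a * b)⁻¹ =
            (t * a * t⁻¹ * a⁻¹) * (a * (t * b * t⁻¹ * b⁻¹) * a⁻¹) := by group
        rw [e]
        exact mul_mem ha' (conj_mem_of_mem_normalizer (hDM (h1 ha)) hb')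
      inv_mem' := by
        rintro a ⟨ha, ha'⟩
        refine ⟨inv_mem ha, ?_⟩
        have e : t * a⁻¹ * t⁻¹ * a⁻¹⁻¹ = a⁻¹ * (t * a * t⁻¹ * a⁻¹)⁻¹ * a := by group
        rw [e]
        exact conj_inv_mem_of_mem_normalizer (hDM (h1 ha)) (inv_mem ha') }
  have hDp_le : Dp ≤ D₀ := fun d hd => hd.1
  have hDp_norm : I ≤ Subgroup.normalizer (Dp : Set G) := by
    intro s hs
    apply mem_normalizer_of_conj_mem
    rintro d ⟨hd, hd'⟩
    refine ⟨conj_mem_of_mem_normalizer (h3 hs) hd, ?_⟩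
    have hst : s * t = t * s := hIc s hs t ht
    have hst' : t * s = s * t := hst.symm
    have e : t * (s * d * s⁻¹) * t⁻¹ * (s * d * s⁻¹)⁻¹ = s * (t * d * t⁻¹ * d⁻¹) * s⁻¹ := by
      have e1 : t * (s * d * s⁻¹) * t⁻¹ = s * (t * d * t⁻¹) * s⁻¹ := by
        have : t * s * d * s⁻¹ * t⁻¹ = s * t * d * t⁻¹ * s⁻¹ := by
          rw [hst']
          have h7 : s⁻¹ * t⁻¹ = t⁻¹ * s⁻¹ := by
            rw [← mul_inv_rev, ← mul_inv_rev, hst']
          rw [mul_assoc (s * t * d), h7]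
          group
        calc t * (s * d * s⁻¹) * t⁻¹ = t * s * d * s⁻¹ * t⁻¹ := by group
          _ = s * t * d * t⁻¹ * s⁻¹ := this
          _ = s * (t * d * t⁻¹) * s⁻¹ := by group
      rw [e1]; group
    rw [e]
    exact conj_mem_of_mem_normalizer (hIM hs) hd'
  by_cases hcase : Dp ≤ M
  · -- `t` inverts `D₀` modulo `M`
    right
    intro d hd
    have hconj : t * d * t⁻¹ ∈ D₀ := conj_mem_of_mem_normalizer (h3 ht) hd
    have he : d * (t * d * t⁻¹) ∈ Dp := by
      refine ⟨mul_mem hd hconj, ?_⟩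
      have e : t * (d * (t * d * t⁻¹)) * t⁻¹ * (d * (t * d * t⁻¹))⁻¹ = ⁅t * d * t⁻¹, d⁆ := by
        rw [commutatorElement_def]
        have : t * (d * (t * d * t⁻¹)) * t⁻¹ = (t * d * t⁻¹) * ((t * t) * d * (t * t)⁻¹) := by
          group
        rw [this, hI2 t ht]
        group
      rw [e]
      exact hcomm (Subgroup.commutator_mem_commutator (h1 hconj) (h1 hd))
    have h8 : d * (t * d * t⁻¹) ∈ M := hcase he
    have h9 := conj_inv_mem_of_mem_normalizer (hDM (h1 hd)) h8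
    have e : d⁻¹ * (d * (t * d * t⁻¹)) * d = t * d * t⁻¹ * d := by group
    rwa [e] at h9
  · -- `t` centralizes `D₀` modulo `M`
    left
    have hle : D₀ ≤ Dp := hmin' ⟨hDp_le.trans h1, hcase, hDp_norm⟩ hDp_le
    intro d hd
    exact (hle hd).2

theorem le_normalizer_commutator' {G : Type*} [Group G] {H A B : Subgroup G}
    (hA : H ≤ Subgroup.normalizer (A : Set G)) (hB : H ≤ Subgroup.normalizer (B : Set G)) :
    H ≤ Subgroup.normalizer ((⁅A, B⁆ : Subgroup G) : Set G) := by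
  intro g hg
  rw [Subgroup.mem_normalizer_iff_map_conj_eq, Subgroup.map_commutator,
    Subgroup.mem_normalizer_iff_map_conj_eq.1 (hA hg),
    Subgroup.mem_normalizer_iff_map_conj_eq.1 (hB hg)]

theorem le_normalizer_centralizer' {G : Type*} [Group G] [Finite G] {H M : Subgroup G}
    (hM : H ≤ Subgroup.normalizer (M : Set G)) :
    H ≤ Subgroup.normalizer ((Subgroup.centralizer (M : Set G) : Subgroup G) : Set G) := by
  intro g hg
  apply mem_normalizer_of_conj_mem
  intro c hc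
  rw [Subgroup.mem_centralizer_iff] at hc ⊢
  intro m hm
  have h1 : g⁻¹ * m * g ∈ M := conj_inv_mem_of_mem_normalizer (hM hg) hm
  have h2 := hc _ h1
  calc m * (g * c * g⁻¹) = g * ((g⁻¹ * m * g) * c) * g⁻¹ := by group
    _ = g * (c * (g⁻¹ * m * g)) * g⁻¹ := by rw [h2]
    _ = g * c * g⁻¹ * m := by group

theorem le_normalizer_inf' {G : Type*} [Group G] [Finite G] {H A B : Subgroup G}
    (hA : H ≤ Subgroup.normalizer (A : Set G)) (hB : H ≤ Subgroup.normalizer (B : Set G)) :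
    H ≤ Subgroup.normalizer ((A ⊓ B : Subgroup G) : Set G) := by
  intro g hg
  apply mem_normalizer_of_conj_mem
  intro x hx
  exact ⟨conj_mem_of_mem_normalizer (hA hg) hx.1, conj_mem_of_mem_normalizer (hB hg) hx.2⟩

/-- A nilpotent subgroup `F` normalized by a commutative group `I` of exponent `2` has an
`I`-invariant abelian normal subgroup `M` with `C_F(M) = M`. -/
theorem exists_abelian_self_centralizing {G : Type*} [Group G] [Finite G] (F I : Subgroup G)
    (hFnil : Group.IsNilpotent ↥F)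
    (hIc : ∀ s ∈ I, ∀ t ∈ I, s * t = t * s) (hI2 : ∀ t ∈ I, t * t = 1)
    (hIF : I ≤ Subgroup.normalizer (F : Set G)) :
    ∃ M : Subgroup G, M ≤ F ∧ M ≤ Subgroup.centralizer (M : Set G) ∧
      F ≤ Subgroup.normalizer (M : Set G) ∧ I ≤ Subgroup.normalizer (M : Set G) ∧
      F ⊓ Subgroup.centralizer (M : Set G) ≤ M := by
  have hbot : ∀ H : Subgroup G, H ≤ Subgroup.normalizer ((⊥ : Subgroup G) : Set G) := by
    intro H g _
    apply mem_normalizer_of_conj_mem
    intro x hx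
    rw [Subgroup.mem_bot] at hx ⊢
    rw [hx]; group
  obtain ⟨M, -, hmax⟩ := Finite.exists_le_maximal
    (p := fun M : Subgroup G => M ≤ F ∧ M ≤ Subgroup.centralizer (M : Set G) ∧
      F ≤ Subgroup.normalizer (M : Set G) ∧ I ≤ Subgroup.normalizer (M : Set G)) (a := ⊥)
    ⟨bot_le, bot_le, hbot F, hbot I⟩
  obtain ⟨⟨hMF, hMab, hFM, hIM⟩, hmax'⟩ := hmax
  refine ⟨M, hMF, hMab, hFM, hIM, ?_⟩
  by_contra hC
  have hFF : F ≤ Subgroup.normalizer (F : Set G) := Subgroup.le_normalizer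
  have hFC : F ≤ Subgroup.normalizer ((F ⊓ Subgroup.centralizer (M : Set G) : Subgroup G) : Set G) :=
    le_normalizer_inf' hFF (le_normalizer_centralizer' hFM)
  have hIC : I ≤ Subgroup.normalizer ((F ⊓ Subgroup.centralizer (M : Set G) : Subgroup G) : Set G) :=
    le_normalizer_inf' hIF (le_normalizer_centralizer' hIM)
  obtain ⟨D', -, hmin⟩ := Finite.exists_le_minimal
    (p := fun K : Subgroup G => K ≤ F ⊓ Subgroup.centralizer (M : Set G) ∧ ¬ K ≤ M ∧
      F ≤ Subgroup.normalizer (K : Set G) ∧ I ≤ Subgroup.normalizer (K : Set G))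
    (a := F ⊓ Subgroup.centralizer (M : Set G)) ⟨le_rfl, hC, hFC, hIC⟩
  obtain ⟨⟨hD'C, hD'M, hFD', hID'⟩, hmin'⟩ := hmin
  have hD'F : D' ≤ F := hD'C.trans inf_le_left
  have hD'cent : D' ≤ Subgroup.centralizer (M : Set G) := hD'C.trans inf_le_right
  -- `[D', F] ≤ D'`
  have hcomm_le : ⁅D', F⁆ ≤ D' := by
    rw [Subgroup.commutator_le]
    intro d hd f hf
    have h1 : f * d⁻¹ * f⁻¹ ∈ D' := conj_mem_of_mem_normalizer (hFD' hf) (inv_mem hd)
    have e : ⁅d, f⁆ = d * (f * d⁻¹ * f⁻¹) := by rw [commutatorElement_def]; group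
    rw [e]
    exact mul_mem hd h1
  -- `[D', F] ≤ M`
  have hcommM : ⁅D', F⁆ ≤ M := by
    by_contra hnot
    have hle : D' ≤ ⁅D', F⁆ :=
      hmin' ⟨hcomm_le.trans hD'C, hnot, le_normalizer_commutator' hFD' hFF,
        le_normalizer_commutator' hID' hIF⟩ hcomm_le
    have hlcs : ∀ j : ℕ, D' ≤ F.lowerCentralSeries j := by
      intro j
      induction j with
      | zero => rw [Subgroup.lowerCentralSeries_zero]; exact hD'F
      | succ j ih =>
        rw [Subgroup.lowerCentralSeries_succ]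
        exact hle.trans (Subgroup.commutator_mono ih le_rfl)
    obtain ⟨c, hc⟩ := (Subgroup.isNilpotent_iff_lowerCentralSeries F).1 hFnil
    have := hlcs c
    rw [hc] at this
    exact hD'M (this.trans bot_le)
  obtain ⟨D₀, hD₀D', hD₀M, hID₀, heig⟩ := exists_eigen_subgroup I D' M hIc hI2 hID' hIM
    (hD'F.trans hFM) ((Subgroup.commutator_mono le_rfl hD'F).trans hcommM) hD'M
  obtain ⟨x, hxD₀, hxM⟩ := SetLike.not_le_iff_exists.1 hD₀M
  have hxD' : x ∈ D' := hD₀D' hxD₀
  have hxF : x ∈ F := hD'F hxD'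
  have hxcent : x ∈ Subgroup.centralizer (M : Set G) := hD'cent hxD'
  -- the bigger abelian subgroup
  set A : Subgroup G := M ⊔ Subgroup.zpowers x with hA
  have hMA : M ≤ A := le_sup_left
  have hxA : x ∈ A := le_sup_right (a := M) (Subgroup.mem_zpowers x)
  have hAF : A ≤ F := sup_le hMF ((Subgroup.zpowers_le).2 hxF)
  have hzc : Subgroup.zpowers x ≤ Subgroup.centralizer (M : Set G) :=
    (Subgroup.zpowers_le).2 hxcent
  have hzz : Subgroup.zpowers x ≤ Subgroup.centralizer ((Subgroup.zpowers x : Subgroup G) : Set G) := by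
    rw [Subgroup.zpowers_le, Subgroup.mem_centralizer_iff]
    intro h hh
    obtain ⟨k, rfl⟩ := Subgroup.mem_zpowers_iff.1 hh
    exact (Commute.zpow_left (Commute.refl x) k).eq
  have hAab : A ≤ Subgroup.centralizer (A : Set G) := by
    apply sup_le
    · rw [Subgroup.le_centralizer_iff]
      exact sup_le hMab hzc
    · rw [Subgroup.le_centralizer_iff]
      exact sup_le (Subgroup.le_centralizer_iff.1 hzc) hzz
  have hnormA : ∀ g : G, g ∈ Subgroup.normalizer (M : Set G) → g * x * g⁻¹ ∈ A →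
      g ∈ Subgroup.normalizer (A : Set G) := by
    intro g hgM hgx
    apply mem_normalizer_of_conj_mem
    have hle : A ≤ A.comap (MulAut.conj g).toMonoidHom := by
      apply sup_le
      · intro m hm
        rw [Subgroup.mem_comap]
        exact hMA (conj_mem_of_mem_normalizer hgM hm)
      · rw [Subgroup.zpowers_le, Subgroup.mem_comap]
        exact hgx
    intro a ha
    exact hle ha
  have hFA : F ≤ Subgroup.normalizer (A : Set G) := by
    intro f hf
    apply hnormA f (hFM hf)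
    have h1 : ⁅x, f⁆ ∈ M := hcommM (Subgroup.commutator_mem_commutator hxD' hf)
    have e : f * x * f⁻¹ = x * (x⁻¹ * (⁅x, f⁆)⁻¹ * x) := by
      rw [commutatorElement_def]; group
    rw [e]
    have hxN : x ∈ Subgroup.normalizer (M : Set G) := hFM hxF
    exact mul_mem hxA (hMA (conj_inv_mem_of_mem_normalizer hxN (inv_mem h1)))
  have hIA : I ≤ Subgroup.normalizer (A : Set G) := by
    intro t ht
    apply hnormA t (hIM ht)
    rcases heig t ht with h | h
    · have e : t * x * t⁻¹ = (t * x * t⁻¹ * x⁻¹) * x := by group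
      rw [e]
      exact mul_mem (hMA (h x hxD₀)) hxA
    · have e : t * x * t⁻¹ = (t * x * t⁻¹ * x) * x⁻¹ := by group
      rw [e]
      exact mul_mem (hMA (h x hxD₀)) (inv_mem hxA)
  exact hxM (hmax' ⟨hAF, hAab, hFA, hIA⟩ hMA hxA)

theorem le_normalizer_bot' {G : Type*} [Group G] [Finite G] (H : Subgroup G) :
    H ≤ Subgroup.normalizer ((⊥ : Subgroup G) : Set G) := by
  intro g _
  apply mem_normalizer_of_conj_mem
  intro x hx
  rw [Subgroup.mem_bot] at hx ⊢
  rw [hx]; group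

/-- If `C_G(F) ≤ F`, `F` has odd order and `M` is a self-centralizing normal subgroup of `F`,
then a group `I` of exponent `2` normalizing `F` acts faithfully on `M`. -/
theorem inf_centralizer_eq_bot_of_self_centralizing {G : Type*} [Group G] [Finite G]
    (F I M : Subgroup G) (hodd : Odd (Nat.card ↥F)) (hI2 : ∀ t ∈ I, t * t = 1)
    (hIF : I ≤ Subgroup.normalizer (F : Set G))
    (hCF : Subgroup.centralizer (F : Set G) ≤ F)
    (hFM : F ≤ Subgroup.normalizer (M : Set G))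
    (hself : F ⊓ Subgroup.centralizer (M : Set G) ≤ M) :
    I ⊓ Subgroup.centralizer (M : Set G) = ⊥ := by
  rw [eq_bot_iff]
  intro t ht
  obtain ⟨htI, htM⟩ := Subgroup.mem_inf.1 ht
  rw [Subgroup.mem_bot]
  have htt : t * t = 1 := hI2 t htI
  have hcm : ∀ m ∈ M, m * t = t * m := Subgroup.mem_centralizer_iff.1 htM
  have hcm' : ∀ m ∈ M, m * t⁻¹ = t⁻¹ * m := by
    intro m hm
    have := hcm m hm
    calc m * t⁻¹ = t⁻¹ * (t * m) * t⁻¹ := by group
      _ = t⁻¹ * (m * t) * t⁻¹ := by rw [this]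
      _ = t⁻¹ * m := by group
  have htF : t ∈ Subgroup.centralizer (F : Set G) := by
    rw [Subgroup.mem_centralizer_iff]
    intro f hf
    set c := f * t * f⁻¹ * t⁻¹ with hc
    have hcF : c ∈ F := by
      have h1 : t * f⁻¹ * t⁻¹ ∈ F := conj_mem_of_mem_normalizer (hIF htI) (inv_mem hf)
      have e : c = f * (t * f⁻¹ * t⁻¹) := by rw [hc]; group
      rw [e]; exact mul_mem hf h1
    have hcM : c ∈ Subgroup.centralizer (M : Set G) := by
      rw [Subgroup.mem_centralizer_iff]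
      intro m hm
      have hm' : f⁻¹ * m * f ∈ M := conj_inv_mem_of_mem_normalizer (hFM hf) hm
      have h1 := hcm _ hm'
      have h2 := hcm' m hm
      calc m * c = f * ((f⁻¹ * m * f) * t) * f⁻¹ * t⁻¹ := by rw [hc]; group
        _ = f * (t * (f⁻¹ * m * f)) * f⁻¹ * t⁻¹ := by rw [h1]
        _ = f * t * f⁻¹ * (m * t⁻¹) := by group
        _ = f * t * f⁻¹ * (t⁻¹ * m) := by rw [h2]
        _ = c * m := by rw [hc]; group
    have hcinM : c ∈ M := hself ⟨hcF, hcM⟩
    have hct : c * t = t * c := hcm c hcinM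
    have h3 : (c * t) * (c * t) = 1 := by
      have e : c * t = f * t * f⁻¹ := by rw [hc]; group
      rw [e]
      calc f * t * f⁻¹ * (f * t * f⁻¹) = f * (t * t) * f⁻¹ := by group
        _ = 1 := by rw [htt]; group
    have h4 : c * c = 1 := by
      calc c * c = c * c * (t * t) := by rw [htt, mul_one]
        _ = c * (c * t) * t := by group
        _ = c * (t * c) * t := by rw [hct]
        _ = (c * t) * (c * t) := by group
        _ = 1 := h3
    have hc1 : c = 1 := eq_one_of_mul_self_of_odd hodd hcF h4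
    have : f * t * f⁻¹ * t⁻¹ = 1 := hc1
    calc f * t = (f * t * f⁻¹ * t⁻¹) * t * f := by group
      _ = t * f := by rw [this, one_mul]
  exact eq_one_of_mul_self_of_odd hodd (hCF htF) htt

/-- An element `k` of `I` acting nontrivially on the abelian group `M` of odd order inverts some
`I`-invariant subgroup of prime order of `M` on which every element of `I` acts as `±1`. -/
theorem exists_inverted_prime_subgroup {G : Type*} [Group G] [Finite G] (I M : Subgroup G)
    (hMab : M ≤ Subgroup.centralizer (M : Set G))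
    (hIc : ∀ s ∈ I, ∀ t ∈ I, s * t = t * s) (hI2 : ∀ t ∈ I, t * t = 1)
    (hIM : I ≤ Subgroup.normalizer (M : Set G))
    (k : G) (hk : k ∈ I) (hkM : k ∉ Subgroup.centralizer (M : Set G)) :
    ∃ A : Subgroup G, A ≤ M ∧ (Nat.card ↥A).Prime ∧
      (∀ t ∈ I, (∀ a ∈ A, t * a * t⁻¹ = a) ∨ (∀ a ∈ A, t * a * t⁻¹ = a⁻¹)) ∧
      (∀ a ∈ A, k * a * k⁻¹ = a⁻¹) := by
  have hMc : ∀ a ∈ M, ∀ b ∈ M, a * b = b * a := by
    intro a ha b hb
    exact (Subgroup.mem_centralizer_iff.1 (hMab hb) a ha)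
  have hkk : k * k = 1 := hI2 k hk
  -- the subgroup of elements inverted by `k`
  let Mm : Subgroup G :=
    { carrier := {m | m ∈ M ∧ k * m * k⁻¹ = m⁻¹}
      one_mem' := ⟨one_mem _, by simp⟩
      mul_mem' := by
        rintro a b ⟨ha, ha'⟩ ⟨hb, hb'⟩
        refine ⟨mul_mem ha hb, ?_⟩
        calc k * (a * b) * k⁻¹ = (k * a * k⁻¹) * (k * b * k⁻¹) := by group
          _ = a⁻¹ * b⁻¹ := by rw [ha', hb']
          _ = (b * a)⁻¹ := by group
          _ = (a * b)⁻¹ := by rw [hMc b hb a ha]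
      inv_mem' := by
        rintro a ⟨ha, ha'⟩
        refine ⟨inv_mem ha, ?_⟩
        calc k * a⁻¹ * k⁻¹ = (k * a * k⁻¹)⁻¹ := by group
          _ = a⁻¹⁻¹ := by rw [ha'] }
  have hMmM : Mm ≤ M := fun m hm => hm.1
  have hIMm : I ≤ Subgroup.normalizer (Mm : Set G) := by
    intro s hs
    apply mem_normalizer_of_conj_mem
    rintro m ⟨hm, hm'⟩
    refine ⟨conj_mem_of_mem_normalizer (hIM hs) hm, ?_⟩
    have hks : k * s = s * k := hIc k hk s hs
    have hks' : s⁻¹ * k⁻¹ = k⁻¹ * s⁻¹ := by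
      rw [← mul_inv_rev, ← mul_inv_rev, hks]
    calc k * (s * m * s⁻¹) * k⁻¹ = (k * s) * m * (s⁻¹ * k⁻¹) := by group
      _ = (s * k) * m * (k⁻¹ * s⁻¹) := by rw [hks, hks']
      _ = s * (k * m * k⁻¹) * s⁻¹ := by group
      _ = s * m⁻¹ * s⁻¹ := by rw [hm']
      _ = (s * m * s⁻¹)⁻¹ := by group
  have hMmne : ¬ Mm ≤ ⊥ := by
    intro hle
    apply hkM
    rw [Subgroup.mem_centralizer_iff]
    intro m hm
    have hkm : k * m * k⁻¹ ∈ M := conj_mem_of_mem_normalizer (hIM hk) hm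
    have hc : k * m * k⁻¹ * m⁻¹ ∈ Mm := by
      refine ⟨mul_mem hkm (inv_mem hm), ?_⟩
      calc k * (k * m * k⁻¹ * m⁻¹) * k⁻¹ = (k * k) * m * (k * k)⁻¹ * (k * m * k⁻¹)⁻¹ := by group
        _ = m * (k * m * k⁻¹)⁻¹ := by rw [hkk]; group
        _ = (k * m * k⁻¹ * m⁻¹)⁻¹ := by group
    have h1 := hle hc
    rw [Subgroup.mem_bot] at h1
    calc m * k = (k * m * k⁻¹ * m⁻¹)⁻¹ * k * m := by group
      _ = k * m := by rw [h1]; group
  have hcomm : ⁅Mm, Mm⁆ ≤ ⊥ := by
    rw [Subgroup.commutator_le]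
    intro a ha b hb
    rw [Subgroup.mem_bot, commutatorElement_eq_one_iff_mul_comm]
    exact hMc a (hMmM ha) b (hMmM hb)
  obtain ⟨D₀, hD₀, hD₀ne, -, heig⟩ := exists_eigen_subgroup I Mm ⊥ hIc hI2 hIMm
    (le_normalizer_bot' I) (le_normalizer_bot' Mm) hcomm hMmne
  -- an element of prime order in `D₀`
  have hnt : Nat.card ↥D₀ ≠ 1 := by
    intro h1
    apply hD₀ne
    rw [Subgroup.card_eq_one.1 h1]
  obtain ⟨r, hr, hrdvd⟩ := Nat.exists_prime_and_dvd hnt
  have hrf : Fact r.Prime := ⟨hr⟩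
  obtain ⟨y, hy⟩ := exists_prime_orderOf_dvd_card' r hrdvd
  have hx : orderOf (y : G) = r := by rw [Subgroup.orderOf_coe]; exact hy
  refine ⟨Subgroup.zpowers (y : G), ?_, ?_, ?_, ?_⟩
  · rw [Subgroup.zpowers_le]; exact hMmM (hD₀ y.2)
  · rw [Nat.card_zpowers, hx]; exact hr
  · intro t ht
    have hAD : Subgroup.zpowers (y : G) ≤ D₀ := by rw [Subgroup.zpowers_le]; exact y.2
    rcases heig t ht with h | h
    · left
      intro a ha
      have := h a (hAD ha)
      rw [Subgroup.mem_bot] at this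
      calc t * a * t⁻¹ = (t * a * t⁻¹ * a⁻¹) * a := by group
        _ = a := by rw [this, one_mul]
    · right
      intro a ha
      have := h a (hAD ha)
      rw [Subgroup.mem_bot] at this
      exact eq_inv_of_mul_eq_one_left this
  · intro a ha
    have hAD : Subgroup.zpowers (y : G) ≤ D₀ := by rw [Subgroup.zpowers_le]; exact y.2
    exact (hD₀ (hAD ha)).2

end Cfsg.Agent.Lib.Helper39
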