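import Mathlib
import Cfsg.Prelude.Def_Solvable
import Cfsg.Prelude.Def_CaseTheorems

/-!
# Four-groups and odd-order subgroups in groups of characteristic 2 type

Key lemma `centralizes_of_conj_mem`: let `u` be an involution whose centralizer has characteristic 2,
`S` a Sylow 2-subgroup of `C(u)`, and `a` an involution commuting with `u` such that
`s a s⁻¹ ∈ {a, a u}` for all `s ∈ S`.  Then `a` centralizes every odd-order subgroup of `C(u)` which it normalizes.
-/

set_option autoImplicit false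

namespace Cfsg.Agent.Lib.Helper39.FourCent

open scoped commutatorElement

variable {G : Type*} [Group G]

theorem pCore_normal' (p : ℕ) (X : Type*) [Group X] : (Cfsg.pCore p X).Normal :=
  Subgroup.sSup_normal _ (fun _ hN => hN.1)

theorem pCore_isPGroup' (p : ℕ) (X : Type*) [Group X] : IsPGroup p (Cfsg.pCore p X) :=
  Sylow.sSup_of_normal _ (fun _ hN => hN.2) (fun _ hN => hN.1)

/-- membership in the normalizer of `⟨u⟩` for an involution `u` -/
theorem mem_normalizer_zpowers_iff {u : G} (hu2 : u * u = 1) (hu1 : u ≠ 1) (g : G) :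
    g ∈ Subgroup.normalizer ((Subgroup.zpowers u : Subgroup G) : Set G) ↔ g * u = u * g := by
  constructor
  · intro hg
    have h1 : g * u * g⁻¹ ∈ Subgroup.zpowers u :=
      (Subgroup.mem_normalizer_iff.mp hg u).mp (Subgroup.mem_zpowers u)
    obtain ⟨k, hk⟩ := Subgroup.mem_zpowers_iff.mp h1
    have hu2' : u ^ (2 : ℤ) = 1 := by
      rw [zpow_two]; exact hu2
    rcases Int.emod_two_eq_zero_or_one k with h0 | h0
    · exfalso
      have hk2 : k = 2 * (k / 2) := by omega
      rw [hk2, zpow_mul, hu2', one_zpow] at hk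
      have : u = 1 := by
        have h2 : g * u * g⁻¹ = 1 := hk.symm
        calc u = g⁻¹ * (g * u * g⁻¹) * g := by group
          _ = 1 := by rw [h2]; group
      exact hu1 this
    · have hk2 : k = 2 * (k / 2) + 1 := by omega
      rw [hk2, zpow_add, zpow_mul, hu2', one_zpow, one_mul, zpow_one] at hk
      calc g * u = g * u * g⁻¹ * g := by group
        _ = u * g := by rw [← hk]
  · intro hg
    rw [Subgroup.mem_normalizer_iff]
    intro h
    have hconj : ∀ x : G, g * x * g⁻¹ ∈ Subgroup.zpowers u ↔ x ∈ Subgroup.zpowers u := by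
      intro x
      have hgc : g ∈ Subgroup.centralizer ((Subgroup.zpowers u : Subgroup G) : Set G) := by
        rw [Subgroup.mem_centralizer_iff]
        intro y hy
        obtain ⟨k, rfl⟩ := Subgroup.mem_zpowers_iff.mp hy
        have : Commute g u := hg
        exact (this.zpow_right k).eq.symm
      have hgn := Subgroup.centralizer_le_normalizer _ hgc
      exact (Subgroup.mem_normalizer_iff.mp hgn x).symm
    exact (hconj h).symm


/-- an element of odd order which is a `2`-element is trivial -/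
theorem eq_one_of_odd_of_two {x : G} {m k : ℕ} (hm : Odd m) (hxm : x ^ m = 1) (hxk : x ^ 2 ^ k = 1) :
    x = 1 := by
  have h1 : orderOf x ∣ m := orderOf_dvd_of_pow_eq_one hxm
  have h2 : orderOf x ∣ 2 ^ k := orderOf_dvd_of_pow_eq_one hxk
  have hcop : Nat.Coprime m (2 ^ k) := (Nat.Coprime.pow_right k hm.coprime_two_right)
  have : orderOf x = 1 := Nat.eq_one_of_dvd_coprimes hcop h1 h2
  exact orderOf_eq_one_iff.mp this

/-- **Key lemma.** -/
theorem centralizes_of_conj_mem [Finite G]
    (u : G) (hu2 : u * u = 1) (hu1 : u ≠ 1)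
    (hchar : Cfsg.IsOfCharacteristicTwo
      ↥(Subgroup.normalizer ((Subgroup.zpowers u : Subgroup G) : Set G)))
    (S : Subgroup G) (hS2 : IsPGroup 2 S) (hSu : ∀ s ∈ S, s * u = u * s)
    (hSmax : ∀ T : Subgroup G, IsPGroup 2 T → (∀ t ∈ T, t * u = u * t) → S ≤ T → T = S)
    (a : G) (ha2 : a * a = 1) (hau : a * u = u * a)
    (hSa : ∀ s ∈ S, s * a * s⁻¹ = a ∨ s * a * s⁻¹ = a * u)
    (Y : Subgroup G) (hY : Odd (Nat.card Y)) (hYu : ∀ y ∈ Y, y * u = u * y)
    (haY : ∀ y ∈ Y, a * y * a⁻¹ ∈ Y) :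
    ∀ y ∈ Y, a * y = y * a := by
  classical
  set N : Subgroup G := Subgroup.normalizer ((Subgroup.zpowers u : Subgroup G) : Set G) with hN
  have hmemN : ∀ g : G, g ∈ N ↔ g * u = u * g := mem_normalizer_zpowers_iff hu2 hu1
  set Q : Subgroup G := (Cfsg.pCore 2 ↥N).map N.subtype with hQ
  have hQN : Q ≤ N := by
    rw [hQ]
    intro x hx
    obtain ⟨y, _, rfl⟩ := Subgroup.mem_map.mp hx
    exact y.2
  have hQ2 : IsPGroup 2 Q := by
    rw [hQ]
    exact (pCore_isPGroup' 2 ↥N).map _
  -- `N` normalizes `Q`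
  have hNQ : ∀ g ∈ N, ∀ q ∈ Q, g * q * g⁻¹ ∈ Q := by
    intro g hg q hq
    obtain ⟨y, hy, rfl⟩ := Subgroup.mem_map.mp hq
    have hn := pCore_normal' 2 ↥N
    have h1 : (⟨g, hg⟩ : ↥N) * y * (⟨g, hg⟩ : ↥N)⁻¹ ∈ Cfsg.pCore 2 ↥N := hn.conj_mem y hy _
    exact Subgroup.mem_map.mpr ⟨_, h1, rfl⟩
  -- `Q ≤ S`
  have hQS : Q ≤ S := by
    have hSN : S ≤ N := fun s hs => (hmemN s).mpr (hSu s hs)
    have hSnQ : S ≤ Subgroup.normalizer (Q : Set G) := by
      intro s hs
      rw [Subgroup.mem_normalizer_iff]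
      intro q
      constructor
      · intro hq
        exact hNQ s (hSN hs) q hq
      · intro hq
        have := hNQ s⁻¹ (N.inv_mem (hSN hs)) _ hq
        simpa [mul_assoc] using this
    have hT2 : IsPGroup 2 ↥(S ⊔ Q) := IsPGroup.to_sup_of_normal_right' hS2 hQ2 hSnQ
    have hTu : ∀ t ∈ S ⊔ Q, t * u = u * t := by
      intro t ht
      have : S ⊔ Q ≤ N := sup_le hSN hQN
      exact (hmemN t).mp (this ht)
    have := hSmax (S ⊔ Q) hT2 hTu le_sup_left
    rw [← this]
    exact le_sup_right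
  -- the property `Tr`
  let Tr : G → Prop := fun g => ∀ q ∈ Q, g * q * g⁻¹ = q ∨ g * q * g⁻¹ = q * u
  have hQu : ∀ q ∈ Q, q * u = u * q := fun q hq => hSu q (hQS hq)
  have hTr_mul : ∀ g h : G, g * u = u * g → Tr g → Tr h → Tr (g * h) := by
    intro g h hgu hg hh q hq
    have e : g * h * q * (g * h)⁻¹ = g * (h * q * h⁻¹) * g⁻¹ := by group
    rw [e]
    rcases hh q hq with h1 | h1
    · rw [h1]; exact hg q hq
    · rw [h1]
      have e2 : g * (q * u) * g⁻¹ = g * q * g⁻¹ * u := by
        calc g * (q * u) * g⁻¹ = g * q * (u * g⁻¹) := by group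
          _ = g * q * (g⁻¹ * u) := by
              congr 1
              calc u * g⁻¹ = g⁻¹ * (g * u) * g⁻¹ := by group
                _ = g⁻¹ * (u * g) * g⁻¹ := by rw [hgu]
                _ = g⁻¹ * u := by group
          _ = g * q * g⁻¹ * u := by group
      rw [e2]
      rcases hg q hq with h2 | h2
      · right; rw [h2]
      · left; rw [h2, mul_assoc, hu2, mul_one]
  have hainv : a⁻¹ = a := by
    rw [inv_eq_iff_mul_eq_one]; exact ha2
  have hTr_a : Tr a := by
    intro q hq
    have hqS := hQS hq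
    rcases hSa q hqS with h1 | h1
    · left
      calc a * q * a⁻¹ = (q * a * q⁻¹) * q * a⁻¹ := by rw [h1]
        _ = q := by group
    · right
      -- q a q⁻¹ = a u  ⇒  a⁻¹ q a = u q... we compute a q a⁻¹ = a⁻¹ q a
      have h2 : q * a = a * u * q := by
        calc q * a = (q * a * q⁻¹) * q := by group
          _ = a * u * q := by rw [h1]
      calc a * q * a⁻¹ = a⁻¹ * q * a := by rw [hainv]
        _ = a⁻¹ * (q * a) := by group
        _ = a⁻¹ * (a * u * q) := by rw [h2]
        _ = u * q := by group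
        _ = q * u := (hQu q hq).symm
  intro y hy
  -- the commutator element `x`
  set x : G := y⁻¹ * (a * y * a⁻¹) with hx
  have hxY : x ∈ Y := Y.mul_mem (Y.inv_mem hy) (haY y hy)
  have hxa : a * x * a⁻¹ = x⁻¹ := by
    rw [hx]
    have : a * (y⁻¹ * (a * y * a⁻¹)) * a⁻¹ = (a * y * a⁻¹)⁻¹ * (a * a * y * (a * a)⁻¹) := by group
    rw [this, ha2]
    group
  have hxu : x * u = u * x := hYu x hxY
  have hxN : x ∈ N := (hmemN x).mpr hxu
  -- `Tr (x a x⁻¹)`
  have hTr_xa : Tr (x * a * x⁻¹) := by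
    intro q hq
    have hq' : x⁻¹ * q * x ∈ Q := by
      have := hNQ x⁻¹ (N.inv_mem hxN) q hq
      simpa using this
    have e : x * a * x⁻¹ * q * (x * a * x⁻¹)⁻¹ = x * (a * (x⁻¹ * q * x) * a⁻¹) * x⁻¹ := by group
    rw [e]
    rcases hTr_a _ hq' with h1 | h1
    · left; rw [h1]; group
    · right
      rw [h1]
      calc x * (x⁻¹ * q * x * u) * x⁻¹ = q * (x * u) * x⁻¹ := by group
        _ = q * (u * x) * x⁻¹ := by rw [hxu]
        _ = q * u := by group
  have hxau : x * a * x⁻¹ * u = u * (x * a * x⁻¹) := by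
    calc x * a * x⁻¹ * u = x * a * (x⁻¹ * u) := by group
      _ = x * a * (u * x⁻¹) := by
          congr 1
          calc x⁻¹ * u = x⁻¹ * (u * x) * x⁻¹ := by group
            _ = x⁻¹ * (x * u) * x⁻¹ := by rw [hxu]
            _ = u * x⁻¹ := by group
      _ = x * (a * u) * x⁻¹ := by group
      _ = x * (u * a) * x⁻¹ := by rw [hau]
      _ = (x * u) * a * x⁻¹ := by group
      _ = (u * x) * a * x⁻¹ := by rw [hxu]
      _ = u * (x * a * x⁻¹) := by group
  -- `x² = (x a x⁻¹) a`
  have hx2 : x * x = x * a * x⁻¹ * a := by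
    have h1 : a * x⁻¹ * a⁻¹ = x := by
      calc a * x⁻¹ * a⁻¹ = (a * x * a⁻¹)⁻¹ := by group
        _ = x := by rw [hxa, inv_inv]
    calc x * x = x * (a * x⁻¹ * a⁻¹) := by rw [h1]
      _ = x * a * x⁻¹ * a⁻¹ := by group
      _ = x * a * x⁻¹ * a := by rw [hainv]
  have hTr_x2 : Tr (x * x) := by
    rw [hx2]
    exact hTr_mul _ _ hxau hTr_xa hTr_a
  -- `x * x` centralizes `Q`
  set w : G := x * x with hw
  have hwu : w * u = u * w := by
    rw [hw]
    calc x * x * u = x * (x * u) := by group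
      _ = x * (u * x) := by rw [hxu]
      _ = (x * u) * x := by group
      _ = (u * x) * x := by rw [hxu]
      _ = u * (x * x) := by group
  have hwY : w ∈ Y := Y.mul_mem hxY hxY
  obtain ⟨m, hm⟩ := hY
  have hwm : w ^ (2 * m + 1) = 1 := by
    have : (⟨w, hwY⟩ : Y) ^ Nat.card Y = 1 := pow_card_eq_one'
    rw [hm] at this
    exact congrArg Subtype.val this
  have hxm : x ^ (2 * m + 1) = 1 := by
    have : (⟨x, hxY⟩ : Y) ^ Nat.card Y = 1 := pow_card_eq_one'
    rw [hm] at this
    exact congrArg Subtype.val this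
  have hwQ : ∀ q ∈ Q, w * q * w⁻¹ = q := by
    intro q hq
    rcases hTr_x2 q hq with h1 | h1
    · exact h1
    · exfalso
      have hpow : ∀ j : ℕ, w ^ j * q * (w ^ j)⁻¹ = q * u ^ j := by
        intro j
        induction j with
        | zero => simp
        | succ j ih =>
          have hwu' : w * u ^ j = u ^ j * w := by
            have : Commute w u := hwu
            exact (this.pow_right j).eq
          calc w ^ (j + 1) * q * (w ^ (j + 1))⁻¹ = w * (w ^ j * q * (w ^ j)⁻¹) * w⁻¹ := by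
                rw [pow_succ']; group
            _ = w * (q * u ^ j) * w⁻¹ := by rw [ih]
            _ = (w * q * w⁻¹) * (w * u ^ j) * w⁻¹ := by group
            _ = (q * u) * (u ^ j * w) * w⁻¹ := by rw [h1, hwu']
            _ = q * u ^ (j + 1) := by rw [pow_succ']; group
      have h2 := hpow (2 * m + 1)
      rw [hwm] at h2
      have h3 : u ^ (2 * m + 1) = 1 := by
        have : q = q * u ^ (2 * m + 1) := by simpa using h2
        exact (mul_eq_left.mp this.symm)
      have h4 : u ^ (2 * m + 1) = u := by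
        rw [pow_succ, pow_mul, pow_two, hu2, one_pow, one_mul]
      exact hu1 (h4 ▸ h3)
  -- hence `x` centralizes `Q`
  have hxw : x = w ^ (m + 1) := by
    rw [hw, ← pow_two, ← pow_mul]
    have : 2 * (m + 1) = (2 * m + 1) + 1 := by ring
    rw [this, pow_succ, hxm, one_mul]
  have hxQ : ∀ q ∈ Q, x * q * x⁻¹ = q := by
    intro q hq
    have hpow : ∀ j : ℕ, w ^ j * q * (w ^ j)⁻¹ = q := by
      intro j
      induction j with
      | zero => simp
      | succ j ih =>
        calc w ^ (j + 1) * q * (w ^ (j + 1))⁻¹ = w * (w ^ j * q * (w ^ j)⁻¹) * w⁻¹ := by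
              rw [pow_succ']; group
          _ = q := by rw [ih, hwQ q hq]
    rw [hxw]; exact hpow _
  -- `x` lies in `O_2(N)`
  have hxc : (⟨x, hxN⟩ : ↥N) ∈ Subgroup.centralizer ((Cfsg.pCore 2 ↥N : Subgroup ↥N) : Set ↥N) := by
    rw [Subgroup.mem_centralizer_iff]
    intro q hq
    have hqQ : (q : G) ∈ Q := Subgroup.mem_map.mpr ⟨q, hq, rfl⟩
    have := hxQ _ hqQ
    apply Subtype.ext
    simp only [Subgroup.coe_mul]
    calc (q : G) * x = (x * q * x⁻¹) * x := by rw [this]
      _ = x * q := by group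
  have hxp : (⟨x, hxN⟩ : ↥N) ∈ Cfsg.pCore 2 ↥N := hchar hxc
  obtain ⟨k, hk⟩ := (pCore_isPGroup' 2 ↥N) ⟨_, hxp⟩
  have hxk : x ^ 2 ^ k = 1 := by
    have := congrArg (fun t : ↥(Cfsg.pCore 2 ↥N) => ((t : ↥N) : G)) hk
    simpa using this
  have hx1 : x = 1 := eq_one_of_odd_of_two ⟨m, rfl⟩ hxm hxk
  -- conclusion
  rw [hx] at hx1
  have h5 : a * y * a⁻¹ = y := by
    calc a * y * a⁻¹ = y * (y⁻¹ * (a * y * a⁻¹)) := by group
      _ = y := by rw [hx1, mul_one]
  calc a * y = (a * y * a⁻¹) * a := by group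
    _ = y * a := by rw [h5]


/-- a cyclic group has at most one involution -/
theorem eq_of_sq_eq_one_of_isCyclic {C : Type*} [Group C] [Finite C] [IsCyclic C] {x y : C}
    (hx : x * x = 1) (hx1 : x ≠ 1) (hy : y * y = 1) (hy1 : y ≠ 1) : x = y := by
  classical
  haveI := Fintype.ofFinite C
  by_contra hxy
  have h := IsCyclic.card_pow_eq_one_le (α := C) (n := 2) (by norm_num)
  have hsub : ({1, x, y} : Finset C) ⊆ Finset.univ.filter (fun a => a ^ 2 = 1) := by
    intro t ht
    simp only [Finset.mem_insert, Finset.mem_singleton] at ht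
    simp only [Finset.mem_filter, Finset.mem_univ, true_and]
    rcases ht with rfl | rfl | rfl
    · simp
    · rw [pow_two]; exact hx
    · rw [pow_two]; exact hy
  have hcard : ({1, x, y} : Finset C).card = 3 := by
    rw [Finset.card_insert_of_notMem, Finset.card_insert_of_notMem, Finset.card_singleton]
    · simpa using hxy
    · simp only [Finset.mem_insert, Finset.mem_singleton, not_or]
      exact ⟨Ne.symm hx1, Ne.symm hy1⟩
  have := Finset.card_le_card hsub
  omega

theorem card_mul_relIndex' {H K : Subgroup G} (h : H ≤ K) :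
    Nat.card H * H.relIndex K = Nat.card K := by
  have h1 : Nat.card (H.subgroupOf K) = Nat.card H :=
    Nat.card_congr (Subgroup.subgroupOfEquivOfLe h).toEquiv
  have h2 := (H.subgroupOf K).card_mul_index
  rw [h1] at h2
  exact h2

/-- membership in `⟨u⟩` for an involution -/
theorem mem_zpowers_of_sq {u : G} (hu2 : u * u = 1) (x : G) :
    x ∈ Subgroup.zpowers u ↔ x = 1 ∨ x = u := by
  constructor
  · intro hx
    obtain ⟨k, rfl⟩ := Subgroup.mem_zpowers_iff.mp hx
    have hu2' : u ^ (2 : ℤ) = 1 := by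
      rw [zpow_two]; exact hu2
    rcases Int.emod_two_eq_zero_or_one k with h0 | h0
    · left
      have hk2 : k = 2 * (k / 2) := by omega
      rw [hk2, zpow_mul, hu2', one_zpow]
    · right
      have hk2 : k = 2 * (k / 2) + 1 := by omega
      rw [hk2, zpow_add, zpow_mul, hu2', one_zpow, one_mul, zpow_one]
  · rintro (rfl | rfl)
    · exact Subgroup.one_mem _
    · exact Subgroup.mem_zpowers _

theorem card_zpowers_of_sq {u : G} (hu2 : u * u = 1) (hu1 : u ≠ 1) :
    Nat.card (Subgroup.zpowers u) = 2 := by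
  rw [Nat.card_zpowers]
  exact orderOf_eq_prime (by rw [pow_two]; exact hu2) hu1

end Cfsg.Agent.Lib.Helper39.FourCent
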