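import Cfsg.Agent.Lib.Helper39.FourCent
import Cfsg.Agent.Lib.Helper39.PGroupBasic

/-!
# Normal four-subgroups of a Sylow 2-subgroup

`exists_good`: for a four-group `U` normal in a Sylow 2-subgroup `P` (central if `Z(P)` is not cyclic) and an
involution `u ∈ U`, there is a Sylow 2-subgroup `S` of `C(u)` with `s a s⁻¹ ∈ {a, a u}` for `s ∈ S`, `a ∈ U`.
-/

set_option autoImplicit false

namespace Cfsg.Agent.Lib.Helper39.FourCent

variable {G : Type*} [Group G]

section Four

variable {U : Subgroup G} (hU4 : IsKleinFour ↥U)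
include hU4

theorem four_sq {a : G} (ha : a ∈ U) : a * a = 1 := by
  have h := Monoid.pow_exponent_eq_one (⟨a, ha⟩ : U)
  rw [hU4.exponent_two, pow_two] at h
  exact congrArg Subtype.val h

theorem four_inv {a : G} (ha : a ∈ U) : a⁻¹ = a := by
  rw [inv_eq_iff_mul_eq_one]; exact four_sq hU4 ha

theorem four_comm {a b : G} (ha : a ∈ U) (hb : b ∈ U) : a * b = b * a := by
  have h1 := four_sq hU4 (U.mul_mem ha hb)
  have h2 := four_inv hU4 ha
  have h3 := four_inv hU4 hb
  calc a * b = (a * b)⁻¹ := (inv_eq_iff_mul_eq_one.mpr h1).symm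
    _ = b⁻¹ * a⁻¹ := mul_inv_rev a b
    _ = b * a := by rw [h2, h3]

/-- the index-two property of `⟨u⟩` in `U` -/
theorem four_index {u : G} (hu : u ∈ U) (hu1 : u ≠ 1) {a b : G} (ha : a ∈ U) (hb : b ∈ U)
    (ha' : a ∉ Subgroup.zpowers u) (hb' : b ∉ Subgroup.zpowers u) :
    a⁻¹ * b ∈ Subgroup.zpowers u := by
  have hu2 := four_sq hU4 hu
  have hle : Subgroup.zpowers u ≤ U := by
    rw [Subgroup.zpowers_le]; exact hu
  have hc := card_mul_relIndex' hle
  rw [card_zpowers_of_sq hu2 hu1, hU4.card_four] at hc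
  have hidx : ((Subgroup.zpowers u).subgroupOf U).index = 2 := by
    have : (Subgroup.zpowers u).relIndex U = 2 := by omega
    exact this
  have h := Subgroup.mul_mem_iff_of_index_two hidx (a := (⟨a⁻¹, U.inv_mem ha⟩ : U)) (b := ⟨b, hb⟩)
  simp only [Subgroup.mem_subgroupOf, Subgroup.coe_mul] at h
  rw [h]
  constructor
  · intro h1
    exact absurd (by simpa using (Subgroup.zpowers u).inv_mem h1) ha'
  · intro h1
    exact absurd h1 hb'

theorem four_ne_bot : U ≠ ⊥ := by
  intro h
  have := hU4.card_four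
  rw [h] at this
  simp at this

end Four


/-- conjugation formula used repeatedly: if `s x s⁻¹ = y` then ... -/
theorem conj_eq_of_comm {s x : G} (h : s * x = x * s) : s * x * s⁻¹ = x := by
  rw [h]; group

theorem comm_of_conj_eq {s x : G} (h : s * x * s⁻¹ = x) : s * x = x * s := by
  calc s * x = s * x * s⁻¹ * s := by group
    _ = x * s := by rw [h]

/-- The case of a non-central involution `u` of the four-group. -/
theorem exists_good_aux [Finite G] (P : Sylow 2 G) (U : Subgroup G) (hUP : U ≤ (P : Subgroup G))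
    (hU4 : IsKleinFour ↥U)
    (UI_P : ∀ x y : G, x ∈ (P : Subgroup G) → (∀ s ∈ (P : Subgroup G), s * x = x * s) → x * x = 1 → x ≠ 1 →
      y ∈ (P : Subgroup G) → (∀ s ∈ (P : Subgroup G), s * y = y * s) → y * y = 1 → y ≠ 1 → x = y)
    (z : G) (hzU : z ∈ U) (hz1 : z ≠ 1) (hzc : ∀ s ∈ (P : Subgroup G), s * z = z * s)
    (hconjP : ∀ s ∈ (P : Subgroup G), ∀ a ∈ U, s * a * s⁻¹ = a ∨ s * a * s⁻¹ = a * z)
    (hB : ¬ U ≤ Subgroup.centralizer ((P : Subgroup G) : Set G))
    (u : G) (huU : u ∈ U) (hu1 : u ≠ 1) (huz : u ≠ z) :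
    ∃ S : Subgroup G, IsPGroup 2 S ∧ (∀ s ∈ S, s * u = u * s) ∧
      (∀ T : Subgroup G, IsPGroup 2 T → (∀ t ∈ T, t * u = u * t) → S ≤ T → T = S) ∧
      ∀ a ∈ U, ∀ s ∈ S, s * a * s⁻¹ = a ∨ s * a * s⁻¹ = a * u := by
  classical
  have hP2 : IsPGroup 2 ↥(P : Subgroup G) := P.isPGroup'
  have hz2 : z * z = 1 := four_sq hU4 hzU
  have hu2 : u * u = 1 := four_sq hU4 huU
  have hzP : z ∈ (P : Subgroup G) := hUP hzU
  have huP : u ∈ (P : Subgroup G) := hUP huU
  have hzinv : z⁻¹ = z := four_inv hU4 hzU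
  have huinv : u⁻¹ = u := four_inv hU4 huU
  have huzc : u * z = z * u := four_comm hU4 huU hzU
  have hunz : u ∉ Subgroup.zpowers z := by
    rw [mem_zpowers_of_sq hz2]; push Not; exact ⟨hu1, huz⟩
  have hznu : z ∉ Subgroup.zpowers u := by
    rw [mem_zpowers_of_sq hu2]; push Not; exact ⟨hz1, Ne.symm huz⟩
  -- `P0 = C_P(u)`
  set P0 : Subgroup G := (P : Subgroup G) ⊓ Subgroup.centralizer {u} with hP0
  have memP0 : ∀ s : G, s ∈ P0 ↔ s ∈ (P : Subgroup G) ∧ s * u = u * s := by
    intro s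
    rw [hP0, Subgroup.mem_inf, Subgroup.mem_centralizer_singleton_iff]
  have hzP0 : z ∈ P0 := (memP0 z).mpr ⟨hzP, huzc.symm⟩
  have huP0 : u ∈ P0 := (memP0 u).mpr ⟨huP, rfl⟩
  -- `P0` centralizes `U`
  have hP0U : ∀ s ∈ P0, ∀ a ∈ U, s * a = a * s := by
    intro s hs a ha
    obtain ⟨hsP, hsu⟩ := (memP0 s).mp hs
    by_cases haz : a ∈ Subgroup.zpowers z
    · rcases (mem_zpowers_of_sq hz2 a).mp haz with rfl | rfl
      · simp
      · exact hzc s hsP
    · have h1 := four_index hU4 hzU hz1 huU ha hunz haz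
      rcases (mem_zpowers_of_sq hz2 _).mp h1 with h2 | h2
      · have : a = u := by
          calc a = u * (u⁻¹ * a) := by group
            _ = u := by rw [h2, mul_one]
        rw [this]; exact hsu
      · have : a = u * z := by
          calc a = u * (u⁻¹ * a) := by group
            _ = u * z := by rw [h2]
        rw [this]
        calc s * (u * z) = (s * u) * z := by group
          _ = (u * s) * z := by rw [hsu]
          _ = u * (s * z) := by group
          _ = u * (z * s) := by rw [hzc s hsP]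
          _ = u * z * s := by group
  -- Sylow 2-subgroup of `C(u)` containing `P0`
  set C : Subgroup G := Subgroup.centralizer ({u} : Set G) with hC
  have hP0C : P0 ≤ C := inf_le_right
  have hP0_2 : IsPGroup 2 ↥P0 := hP2.to_le inf_le_left
  have hP0' : IsPGroup 2 ↥(P0.subgroupOf C) := hP0_2.comap_subtype
  obtain ⟨Q, hQ⟩ := hP0'.exists_le_sylow
  set S : Subgroup G := (Q : Subgroup ↥C).map C.subtype with hS
  have hS2 : IsPGroup 2 ↥S := Q.isPGroup'.map _
  have hSC : S ≤ C := by
    intro x hx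
    obtain ⟨y, _, rfl⟩ := Subgroup.mem_map.mp hx
    exact y.2
  have hSu : ∀ s ∈ S, s * u = u * s := fun s hs =>
    Subgroup.mem_centralizer_singleton_iff.mp (hSC hs)
  have hP0S : P0 ≤ S := by
    intro s hs
    have h1 : (⟨s, hP0C hs⟩ : ↥C) ∈ P0.subgroupOf C := Subgroup.mem_subgroupOf.mpr hs
    exact Subgroup.mem_map.mpr ⟨_, hQ h1, rfl⟩
  have hSmax : ∀ T : Subgroup G, IsPGroup 2 T → (∀ t ∈ T, t * u = u * t) → S ≤ T → T = S := by
    intro T hT2 hTu hST
    have hTC : T ≤ C := fun t ht => Subgroup.mem_centralizer_singleton_iff.mpr (hTu t ht)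
    have h1 : IsPGroup 2 ↥(T.subgroupOf C) := hT2.comap_subtype
    have h2 : (Q : Subgroup ↥C) ≤ T.subgroupOf C := by
      intro q hq
      rw [Subgroup.mem_subgroupOf]
      exact hST (Subgroup.mem_map.mpr ⟨q, hq, rfl⟩)
    have h3 := Q.is_maximal' h1 h2
    rw [hS, ← h3, Subgroup.map_subgroupOf_eq_of_le hTC]
  refine ⟨S, hS2, hSu, hSmax, ?_⟩
  by_cases hSP0 : S = P0
  · intro a ha s hs
    left
    rw [hSP0] at hs
    exact conj_eq_of_comm (hP0U s hs a ha)
  -- now `P0 < S`
  have hlt : P0 < S := lt_of_le_of_ne hP0S (Ne.symm hSP0)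
  -- an element of `P` outside `P0`
  obtain ⟨s₀, hs₀P, hs₀⟩ : ∃ s₀ ∈ (P : Subgroup G), s₀ ∉ P0 := by
    by_contra hcon
    push Not at hcon
    apply hB
    intro a ha
    rw [Subgroup.mem_centralizer_iff]
    intro s hs
    exact hP0U s (hcon s hs) a ha
  -- conjugation of `u` by elements of `P` outside `P0`
  have hconj_u : ∀ s ∈ (P : Subgroup G), s ∉ P0 → s * u * s⁻¹ = u * z := by
    intro s hs hs0
    rcases hconjP s hs u huU with h1 | h1
    · exact absurd ((memP0 s).mpr ⟨hs, comm_of_conj_eq h1⟩) hs0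
    · exact h1
  have hidxP : P0.relIndex (P : Subgroup G) = 2 := by
    rw [Subgroup.relIndex_eq_two_iff_exists_notMem_and]
    refine ⟨s₀, hs₀P, hs₀, fun b hb => ?_⟩
    by_cases hb0 : b ∈ P0
    · right; exact hb0
    · left
      rw [memP0]
      refine ⟨(P : Subgroup G).mul_mem hb hs₀P, ?_⟩
      apply comm_of_conj_eq
      have e : b * s₀ * u * (b * s₀)⁻¹ = b * (s₀ * u * s₀⁻¹) * b⁻¹ := by group
      rw [e, hconj_u s₀ hs₀P hs₀]
      have e2 : b * (u * z) * b⁻¹ = (b * u * b⁻¹) * (b * z * b⁻¹) := by group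
      rw [e2, hconj_u b hb hb0, conj_eq_of_comm (hzc b hb), mul_assoc, hz2, mul_one]
  have hcardP : Nat.card P0 * 2 = Nat.card (P : Subgroup G) := by
    have := card_mul_relIndex' (inf_le_left : P0 ≤ (P : Subgroup G))
    rw [hidxP] at this
    exact this
  -- `S` is a Sylow 2-subgroup of `G`
  obtain ⟨P', hP'⟩ := hS2.exists_le_sylow
  have hcardP' : Nat.card (P' : Subgroup G) = Nat.card (P : Subgroup G) := by
    rw [Sylow.card_eq_multiplicity, Sylow.card_eq_multiplicity]
  have hcardS1 : Nat.card S ≤ Nat.card (P : Subgroup G) := by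
    rw [← hcardP']
    exact Subgroup.card_le_of_le hP'
  have hcardS2 : Nat.card P0 * 2 ≤ Nat.card S := by
    obtain ⟨k, hk⟩ := Subgroup.card_dvd_of_le hP0S
    have hk1 : k ≠ 1 := by
      intro h1
      rw [h1, mul_one] at hk
      exact hSP0 (Subgroup.eq_of_le_of_card_ge hP0S (le_of_eq hk)).symm
    have hk0 : k ≠ 0 := by
      intro h0
      rw [h0, mul_zero] at hk
      have : 0 < Nat.card S := Nat.card_pos
      omega
    have : 2 ≤ k := by omega
    rw [hk]
    exact Nat.mul_le_mul_left _ this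
  have hcardS : Nat.card S = Nat.card P0 * 2 := by omega
  have hSP' : S = (P' : Subgroup G) := by
    apply Subgroup.eq_of_le_of_card_ge hP'
    rw [hcardP']; omega
  have hidxS : (P0.subgroupOf S).index = 2 := by
    have := card_mul_relIndex' hP0S
    rw [hcardS] at this
    have hpos : 0 < Nat.card P0 := Nat.card_pos
    have : P0.relIndex S = 2 := Nat.eq_of_mul_eq_mul_left hpos this
    exact this
  -- conjugating element
  obtain ⟨g, hg⟩ := MulAction.exists_smul_eq G P P'
  have hmemS : ∀ x : G, x ∈ S ↔ g⁻¹ * x * g ∈ (P : Subgroup G) := by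
    intro x
    rw [hSP', ← hg, Sylow.smul_def, Sylow.pointwise_smul_def,
      Subgroup.mem_pointwise_smul_iff_inv_smul_mem, MulAut.smul_def, ← map_inv, MulAut.conj_apply,
      inv_inv]
  -- unique central involution of `S`
  have UI_S : ∀ x y : G, x ∈ S → (∀ s ∈ S, s * x = x * s) → x * x = 1 → x ≠ 1 →
      y ∈ S → (∀ s ∈ S, s * y = y * s) → y * y = 1 → y ≠ 1 → x = y := by
    intro x y hx hxc hx2 hx1 hy hyc hy2 hy1
    have key : ∀ t : G, t ∈ S → (∀ s ∈ S, s * t = t * s) → t * t = 1 → t ≠ 1 →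
        (g⁻¹ * t * g ∈ (P : Subgroup G) ∧ (∀ s ∈ (P : Subgroup G), s * (g⁻¹ * t * g) = (g⁻¹ * t * g) * s) ∧
          (g⁻¹ * t * g) * (g⁻¹ * t * g) = 1 ∧ g⁻¹ * t * g ≠ 1) := by
      intro t ht htc ht2 ht1
      refine ⟨(hmemS t).mp ht, ?_, ?_, ?_⟩
      · intro s hs
        have hs' : g * s * g⁻¹ ∈ S := by
          rw [hmemS]
          have : g⁻¹ * (g * s * g⁻¹) * g = s := by group
          rw [this]; exact hs
        have := htc _ hs'
        calc s * (g⁻¹ * t * g) = g⁻¹ * ((g * s * g⁻¹) * t) * g := by group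
          _ = g⁻¹ * (t * (g * s * g⁻¹)) * g := by rw [this]
          _ = g⁻¹ * t * g * s := by group
      · calc g⁻¹ * t * g * (g⁻¹ * t * g) = g⁻¹ * (t * t) * g := by group
          _ = 1 := by rw [ht2]; group
      · intro h1
        apply ht1
        calc t = g * (g⁻¹ * t * g) * g⁻¹ := by group
          _ = 1 := by rw [h1]; group
    obtain ⟨a1, a2, a3, a4⟩ := key x hx hxc hx2 hx1
    obtain ⟨b1, b2, b3, b4⟩ := key y hy hyc hy2 hy1
    have := UI_P _ _ a1 a2 a3 a4 b1 b2 b3 b4
    calc x = g * (g⁻¹ * x * g) * g⁻¹ := by group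
      _ = g * (g⁻¹ * y * g) * g⁻¹ := by rw [this]
      _ = y := by group
  -- index two consequences
  have mulmem : ∀ s t : G, s ∈ S → t ∈ S → (s * t ∈ P0 ↔ (s ∈ P0 ↔ t ∈ P0)) := by
    intro s t hs ht
    have := Subgroup.mul_mem_iff_of_index_two hidxS (a := (⟨s, hs⟩ : S)) (b := ⟨t, ht⟩)
    simpa only [Subgroup.mem_subgroupOf, Subgroup.coe_mul] using this
  have hnormal : ∀ h ∈ S, ∀ t ∈ P0, h * t * h⁻¹ ∈ P0 := by
    intro h hh t ht
    have hn := Subgroup.normal_of_index_eq_two hidxS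
    have := hn.conj_mem (⟨t, hP0S ht⟩ : S) (Subgroup.mem_subgroupOf.mpr ht) ⟨h, hh⟩
    simpa only [Subgroup.mem_subgroupOf, Subgroup.coe_mul, Subgroup.coe_inv] using this
  obtain ⟨h, hhS, hh0⟩ := SetLike.exists_of_lt hlt
  have hhu : h * u = u * h := hSu h hhS
  have hhinvS : h⁻¹ ∈ S := S.inv_mem hhS
  have hhinv0 : h⁻¹ ∉ P0 := fun hc => hh0 (by simpa using P0.inv_mem hc)
  -- decomposition of elements of `S`
  have hdecomp : ∀ s ∈ S, s ∉ P0 → s * h⁻¹ ∈ P0 := by
    intro s hs hs0
    rw [mulmem s h⁻¹ hs hhinvS]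
    exact ⟨fun h1 => absurd h1 hs0, fun h1 => absurd h1 hhinv0⟩
  set zh : G := h * z * h⁻¹ with hzh
  have hzS : z ∈ S := hP0S hzP0
  have hzhS : zh ∈ S := S.mul_mem (S.mul_mem hhS hzS) hhinvS
  have hzh_c : ∀ t ∈ P0, t * zh = zh * t := by
    intro t ht
    have ht' : h⁻¹ * t * h ∈ P0 := by
      have := hnormal h⁻¹ hhinvS t ht
      simpa using this
    have hc := hzc _ ((memP0 _).mp ht').1
    calc t * zh = h * ((h⁻¹ * t * h) * z) * h⁻¹ := by rw [hzh]; group
      _ = h * (z * (h⁻¹ * t * h)) * h⁻¹ := by rw [hc]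
      _ = zh * t := by rw [hzh]; group
  have hz_zh : z * zh = zh * z := hzh_c z hzP0
  have hzh2 : zh * zh = 1 := by
    rw [hzh]
    calc h * z * h⁻¹ * (h * z * h⁻¹) = h * (z * z) * h⁻¹ := by group
      _ = 1 := by rw [hz2]; group
  obtain ⟨w, hw⟩ : ∃ w : G, w = z * zh := ⟨_, rfl⟩
  have hwS : w ∈ S := hw ▸ S.mul_mem hzS hzhS
  have hw2 : w * w = 1 := by
    rw [hw]
    calc z * zh * (z * zh) = z * (zh * z) * zh := by group
      _ = z * (z * zh) * zh := by rw [hz_zh]
      _ = (z * z) * (zh * zh) := by group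
      _ = 1 := by rw [hz2, hzh2, one_mul]
  have hw_c0 : ∀ t ∈ P0, t * w = w * t := by
    intro t ht
    have h1 := hzc t ((memP0 t).mp ht).1
    have h2 := hzh_c t ht
    rw [hw]
    calc t * (z * zh) = (t * z) * zh := by group
      _ = (z * t) * zh := by rw [h1]
      _ = z * (t * zh) := by group
      _ = z * (zh * t) := by rw [h2]
      _ = z * zh * t := by group
  have hhh0 : h * h ∈ P0 := by
    rw [mulmem h h hhS hhS]
  have hw_h : h * w = w * h := by
    apply comm_of_conj_eq
    have hc := hzc _ ((memP0 _).mp hhh0).1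
    have e : h * zh * h⁻¹ = z := by
      rw [hzh]
      calc h * (h * z * h⁻¹) * h⁻¹ = (h * h) * z * (h * h)⁻¹ := by group
        _ = z := conj_eq_of_comm hc
    calc h * w * h⁻¹ = (h * z * h⁻¹) * (h * zh * h⁻¹) := by rw [hw]; group
      _ = zh * z := by rw [e]
      _ = w := by rw [hw, hz_zh]
  have hw_c : ∀ s ∈ S, s * w = w * s := by
    intro s hs
    by_cases hs0 : s ∈ P0
    · exact hw_c0 s hs0
    · have ht := hdecomp s hs hs0
      have h1 := hw_c0 _ ht
      calc s * w = (s * h⁻¹) * (h * w) := by group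
        _ = (s * h⁻¹) * (w * h) := by rw [hw_h]
        _ = ((s * h⁻¹) * w) * h := by group
        _ = (w * (s * h⁻¹)) * h := by rw [h1]
        _ = w * s := by group
  have huS : u ∈ S := hP0S huP0
  have huc : ∀ s ∈ S, s * u = u * s := hSu
  have hw1 : w ≠ 1 := by
    intro hw1
    -- then `h` centralizes `z`, so `z` is central in `S`
    have hzhz : zh = z := by
      have : z * zh = 1 := hw ▸ hw1
      calc zh = z⁻¹ * (z * zh) := by group
        _ = z := by rw [this, mul_one, hzinv]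
    have hhz : h * z = z * h := by
      apply comm_of_conj_eq
      exact hzhz
    have hzcS : ∀ s ∈ S, s * z = z * s := by
      intro s hs
      by_cases hs0 : s ∈ P0
      · exact hzc s ((memP0 s).mp hs0).1
      · have ht := hdecomp s hs hs0
        have h1 := hzc _ ((memP0 _).mp ht).1
        calc s * z = (s * h⁻¹) * (h * z) := by group
          _ = (s * h⁻¹) * (z * h) := by rw [hhz]
          _ = ((s * h⁻¹) * z) * h := by group
          _ = (z * (s * h⁻¹)) * h := by rw [h1]
          _ = z * s := by group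
    exact huz (UI_S u z huS huc hu2 hu1 hzS hzcS hz2 hz1)
  have hwu : w = u := UI_S w u hwS hw_c hw2 hw1 huS huc hu2 hu1
  have hzh_eq : h * z * h⁻¹ = z * u := by
    have : z * zh = u := hw ▸ hwu
    calc h * z * h⁻¹ = z⁻¹ * (z * zh) := by rw [hzh]; group
      _ = z * u := by rw [this, hzinv]
  have hconjS_z : ∀ s ∈ S, s * z * s⁻¹ = z ∨ s * z * s⁻¹ = z * u := by
    intro s hs
    by_cases hs0 : s ∈ P0
    · left; exact conj_eq_of_comm (hzc s ((memP0 s).mp hs0).1)
    · right
      have ht := hdecomp s hs hs0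
      obtain ⟨htP, htu⟩ := (memP0 _).mp ht
      have h1 := hzc _ htP
      calc s * z * s⁻¹ = (s * h⁻¹) * (h * z * h⁻¹) * (s * h⁻¹)⁻¹ := by group
        _ = (s * h⁻¹) * (z * u) * (s * h⁻¹)⁻¹ := by rw [hzh_eq]
        _ = ((s * h⁻¹) * z * (s * h⁻¹)⁻¹) * ((s * h⁻¹) * u * (s * h⁻¹)⁻¹) := by group
        _ = z * u := by rw [conj_eq_of_comm h1, conj_eq_of_comm htu]
  intro a ha s hs
  have hsu := hSu s hs
  by_cases hau : a ∈ Subgroup.zpowers u
  · left
    rcases (mem_zpowers_of_sq hu2 a).mp hau with rfl | rfl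
    · simp
    · exact conj_eq_of_comm hsu
  · have h1 := four_index hU4 huU hu1 hzU ha hznu hau
    rcases (mem_zpowers_of_sq hu2 _).mp h1 with h2 | h2
    · have haz : a = z := by
        calc a = z * (z⁻¹ * a) := by group
          _ = z := by rw [h2, mul_one]
      rw [haz]
      exact hconjS_z s hs
    · have haz : a = z * u := by
        calc a = z * (z⁻¹ * a) := by group
          _ = z * u := by rw [h2]
      rw [haz]
      have e : s * (z * u) * s⁻¹ = (s * z * s⁻¹) * (s * u * s⁻¹) := by group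
      rw [e, conj_eq_of_comm hsu]
      rcases hconjS_z s hs with h3 | h3
      · left; rw [h3]
      · right; rw [h3]


/-- Existence of a good Sylow 2-subgroup of `C(u)`. -/
theorem exists_good [Finite G] (P : Sylow 2 G) (U : Subgroup G) (hUP : U ≤ (P : Subgroup G))
    (hUn : (P : Subgroup G) ≤ Subgroup.normalizer (U : Set G)) (hU4 : IsKleinFour ↥U)
    (hUZ : ¬ IsCyclic ↥((P : Subgroup G) ⊓ Subgroup.centralizer ((P : Subgroup G) : Set G)) →
      U ≤ Subgroup.centralizer ((P : Subgroup G) : Set G))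
    (u : G) (huU : u ∈ U) (hu1 : u ≠ 1) :
    ∃ S : Subgroup G, IsPGroup 2 S ∧ (∀ s ∈ S, s * u = u * s) ∧
      (∀ T : Subgroup G, IsPGroup 2 T → (∀ t ∈ T, t * u = u * t) → S ≤ T → T = S) ∧
      ∀ a ∈ U, ∀ s ∈ S, s * a * s⁻¹ = a ∨ s * a * s⁻¹ = a * u := by
  classical
  have hP2 : IsPGroup 2 ↥(P : Subgroup G) := P.isPGroup'
  by_cases hA : U ≤ Subgroup.centralizer ((P : Subgroup G) : Set G)
  · refine ⟨P, hP2, ?_, ?_, ?_⟩
    · intro s hs
      exact (Subgroup.mem_centralizer_iff.mp (hA huU) s hs)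
    · intro T hT _ hPT
      exact P.is_maximal' hT hPT
    · intro a ha s hs
      left
      exact conj_eq_of_comm (Subgroup.mem_centralizer_iff.mp (hA ha) s hs)
  · have hcyc : IsCyclic ↥((P : Subgroup G) ⊓ Subgroup.centralizer ((P : Subgroup G) : Set G)) := by
      by_contra h
      exact hA (hUZ h)
    -- unique central involution of `P`
    have UI_P : ∀ x y : G, x ∈ (P : Subgroup G) → (∀ s ∈ (P : Subgroup G), s * x = x * s) → x * x = 1 →
        x ≠ 1 → y ∈ (P : Subgroup G) → (∀ s ∈ (P : Subgroup G), s * y = y * s) → y * y = 1 → y ≠ 1 →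
        x = y := by
      intro x y hx hxc hx2 hx1 hy hyc hy2 hy1
      have hxZ : x ∈ (P : Subgroup G) ⊓ Subgroup.centralizer ((P : Subgroup G) : Set G) :=
        ⟨hx, Subgroup.mem_centralizer_iff.mpr hxc⟩
      have hyZ : y ∈ (P : Subgroup G) ⊓ Subgroup.centralizer ((P : Subgroup G) : Set G) :=
        ⟨hy, Subgroup.mem_centralizer_iff.mpr hyc⟩
      have := eq_of_sq_eq_one_of_isCyclic
        (x := (⟨x, hxZ⟩ : ↥((P : Subgroup G) ⊓ Subgroup.centralizer ((P : Subgroup G) : Set G))))
        (y := ⟨y, hyZ⟩) (Subtype.ext hx2) (fun h => hx1 (congrArg Subtype.val h))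
        (Subtype.ext hy2) (fun h => hy1 (congrArg Subtype.val h))
      exact congrArg Subtype.val this
    -- a central involution `z` in `U`
    haveI : Fact (Nat.Prime 2) := ⟨Nat.prime_two⟩
    haveI hnorm : (U.subgroupOf (P : Subgroup G)).Normal :=
      (Subgroup.normal_subgroupOf_iff_le_normalizer hUP).mpr hUn
    have hne : U.subgroupOf (P : Subgroup G) ≠ ⊥ := by
      intro h
      rw [Subgroup.subgroupOf_eq_bot] at h
      have : U = ⊥ := by
        have := h.eq_bot
        rwa [inf_eq_left.mpr hUP] at this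
      exact four_ne_bot hU4 this
    obtain ⟨z', hz'U, hz'c, hz'1⟩ :=
      Cfsg.Agent.Lib.Helper39.exists_mem_center_of_normal_ne_bot hP2 (U.subgroupOf (P : Subgroup G)) hne
    have hzU : (z' : G) ∈ U := Subgroup.mem_subgroupOf.mp hz'U
    have hz1 : (z' : G) ≠ 1 := fun h => hz'1 (Subtype.ext h)
    have hzc : ∀ s ∈ (P : Subgroup G), s * (z' : G) = (z' : G) * s := by
      intro s hs
      have := Subgroup.mem_center_iff.mp hz'c ⟨s, hs⟩
      exact congrArg Subtype.val this
    have hz2 : (z' : G) * (z' : G) = 1 := four_sq hU4 hzU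
    have hconjP : ∀ s ∈ (P : Subgroup G), ∀ a ∈ U,
        s * a * s⁻¹ = a ∨ s * a * s⁻¹ = a * (z' : G) := by
      intro s hs a ha
      by_cases haz : a ∈ Subgroup.zpowers (z' : G)
      · left
        rcases (mem_zpowers_of_sq hz2 a).mp haz with rfl | rfl
        · simp
        · exact conj_eq_of_comm (hzc s hs)
      · have hb : s * a * s⁻¹ ∈ U := (Subgroup.mem_normalizer_iff.mp (hUn hs) a).mp ha
        have hb' : s * a * s⁻¹ ∉ Subgroup.zpowers (z' : G) := by
          intro hc
          apply haz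
          rcases (mem_zpowers_of_sq hz2 _).mp hc with h1 | h1
          · have : a = 1 := by
              calc a = s⁻¹ * (s * a * s⁻¹) * s := by group
                _ = 1 := by rw [h1]; group
            rw [this]; exact Subgroup.one_mem _
          · have : a = (z' : G) := by
              calc a = s⁻¹ * (s * a * s⁻¹) * s := by group
                _ = s⁻¹ * ((z' : G) * s) := by rw [h1]; group
                _ = s⁻¹ * (s * (z' : G)) := by rw [hzc s hs]
                _ = (z' : G) := by group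
            rw [this]; exact Subgroup.mem_zpowers _
        have h1 := four_index hU4 hzU hz1 ha hb haz hb'
        rcases (mem_zpowers_of_sq hz2 _).mp h1 with h2 | h2
        · left
          calc s * a * s⁻¹ = a * (a⁻¹ * (s * a * s⁻¹)) := by group
            _ = a := by rw [h2, mul_one]
        · right
          calc s * a * s⁻¹ = a * (a⁻¹ * (s * a * s⁻¹)) := by group
            _ = a * (z' : G) := by rw [h2]
    by_cases huz : u = (z' : G)
    · refine ⟨P, hP2, ?_, ?_, ?_⟩
      · intro s hs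
        rw [huz]; exact hzc s hs
      · intro T hT _ hPT
        exact P.is_maximal' hT hPT
      · intro a ha s hs
        rw [huz]; exact hconjP s hs a ha
    · exact exists_good_aux P U hUP hU4 UI_P (z' : G) hzU hz1 hzc hconjP hA u huU hu1 huz

/-- **Main theorem**: in a group all of whose 2-locals have characteristic 2, a four-group `U` normal in a Sylow
2-subgroup `P` (and central in `P` when `Z(P)` is not cyclic) centralizes every odd-order subgroup it normalizes. -/
theorem four_centralizes [Finite G]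
    (hchar : ∀ T : Subgroup G, IsPGroup 2 T → T ≠ ⊥ →
      Cfsg.IsOfCharacteristicTwo ↥(Subgroup.normalizer (T : Set G)))
    (P : Sylow 2 G) (U : Subgroup G) (hUP : U ≤ (P : Subgroup G))
    (hUn : (P : Subgroup G) ≤ Subgroup.normalizer (U : Set G)) (hU4 : IsKleinFour ↥U)
    (hUZ : ¬ IsCyclic ↥((P : Subgroup G) ⊓ Subgroup.centralizer ((P : Subgroup G) : Set G)) →
      U ≤ Subgroup.centralizer ((P : Subgroup G) : Set G))
    (K : Subgroup G) (hK : Odd (Nat.card K)) (hUK : U ≤ Subgroup.normalizer (K : Set G))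
    (hgen : (⨆ a ∈ {a : G | a ∈ U ∧ a ≠ 1}, K ⊓ Subgroup.centralizer {a}) = K) :
    U ≤ Subgroup.centralizer (K : Set G) := by
  classical
  intro a haU
  rw [Subgroup.mem_centralizer_iff]
  intro k hk
  have ha2 : a * a = 1 := four_sq hU4 haU
  -- it suffices to treat `k ∈ C_K(u)`
  have hle : K ≤ Subgroup.centralizer ({a} : Set G) := by
    rw [← hgen]
    apply iSup₂_le
    rintro u ⟨huU, hu1⟩
    intro y hy
    rw [Subgroup.mem_centralizer_singleton_iff]
    obtain ⟨hyK, hyu⟩ := Subgroup.mem_inf.mp hy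
    have hu2 : u * u = 1 := four_sq hU4 huU
    have hau : a * u = u * a := four_comm hU4 haU huU
    obtain ⟨S, hS2, hSu, hSmax, hSa⟩ := exists_good P U hUP hUn hU4 hUZ u huU hu1
    have hz2 : IsPGroup 2 ↥(Subgroup.zpowers u) := by
      apply IsPGroup.of_card (n := 1)
      rw [card_zpowers_of_sq hu2 hu1, pow_one]
    have hzne : Subgroup.zpowers u ≠ ⊥ := by
      intro h
      rw [Subgroup.zpowers_eq_bot] at h
      exact hu1 h
    have hc := hchar (Subgroup.zpowers u) hz2 hzne
    set Y : Subgroup G := K ⊓ Subgroup.centralizer ({u} : Set G) with hY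
    have hYodd : Odd (Nat.card Y) := by
      have hdvd : Nat.card Y ∣ Nat.card K := Subgroup.card_dvd_of_le inf_le_left
      exact hK.of_dvd_nat hdvd
    have hYu : ∀ y ∈ Y, y * u = u * y := fun y hy =>
      Subgroup.mem_centralizer_singleton_iff.mp (Subgroup.mem_inf.mp hy).2
    have haY : ∀ y ∈ Y, a * y * a⁻¹ ∈ Y := by
      intro y hy
      obtain ⟨h1, h2⟩ := Subgroup.mem_inf.mp hy
      refine Subgroup.mem_inf.mpr ⟨?_, ?_⟩
      · exact (Subgroup.mem_normalizer_iff.mp (hUK haU) y).mp h1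
      · rw [Subgroup.mem_centralizer_singleton_iff]
        have h3 := Subgroup.mem_centralizer_singleton_iff.mp h2
        have hainv : a⁻¹ * u = u * a⁻¹ := by
          calc a⁻¹ * u = a⁻¹ * (u * a) * a⁻¹ := by group
            _ = a⁻¹ * (a * u) * a⁻¹ := by rw [hau]
            _ = u * a⁻¹ := by group
        calc a * y * a⁻¹ * u = a * y * (a⁻¹ * u) := by group
          _ = a * y * (u * a⁻¹) := by rw [hainv]
          _ = a * (y * u) * a⁻¹ := by group
          _ = a * (u * y) * a⁻¹ := by rw [h3]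
          _ = (a * u) * y * a⁻¹ := by group
          _ = (u * a) * y * a⁻¹ := by rw [hau]
          _ = u * (a * y * a⁻¹) := by group
    have := centralizes_of_conj_mem u hu2 hu1 hc S hS2 hSu hSmax a ha2 hau (hSa a haU) Y hYodd hYu haY
      y hy
    exact this.symm
  have := Subgroup.mem_centralizer_singleton_iff.mp (hle hk)
  exact this

end Cfsg.Agent.Lib.Helper39.FourCent
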