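import Mathlib

set_option autoImplicit false

/-!
# K-G42 pack (S2553), leaf L10: `GL_4(2)` has no simple subgroup of order 1344

A simple group of order 1344 acts trivially on every set with at most 7 elements (`1344 ∤ 7!`).  Orbits on the 15
nonzero vectors: a fixed vector `v`.  Then the 7 nonzero functionals vanishing at `v` are fixed, so `h w - w ∈ {0, v}`
for all `h, w`, hence `h² = 1` for all `h`, contradicting Cauchy for the prime 7.
-/

namespace Cfsg.Agent.Lib.Helper39.G42

open Matrix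

/-- the space `(ZMod 2)^4` -/
abbrev V4 := Fin 4 → ZMod 2

/-- a simple group of order 1344 acts trivially on sets with at most 7 elements -/
theorem l10_small {H : Type*} [Group H] [Finite H] (hs : IsSimpleGroup H) (hc : Nat.card H = 1344)
    {X : Type*} [Finite X] (hX : Nat.card X ≤ 7) (φ : H →* Equiv.Perm X) (h : H) : φ h = 1 := by
  rcases hs.eq_bot_or_eq_top_of_normal φ.ker inferInstance with hk | hk
  · exfalso
    have hinj : Function.Injective φ := (MonoidHom.ker_eq_bot_iff φ).mp hk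
    have hdvd := Subgroup.card_dvd_of_injective φ hinj
    rw [hc, Nat.card_perm] at hdvd
    have h7 : (Nat.card X).factorial ∣ (7 : ℕ).factorial := Nat.factorial_dvd_factorial hX
    have := hdvd.trans h7
    norm_num [Nat.factorial] at this
  · have : h ∈ φ.ker := by rw [hk]; trivial
    exact MonoidHom.mem_ker.mp this

/-- the action of `GL_4(2)` on vectors -/
def l10_rho : GL (Fin 4) (ZMod 2) →* Equiv.Perm V4 where
  toFun g :=
    { toFun := fun w => (g : Matrix (Fin 4) (Fin 4) (ZMod 2)) *ᵥ w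
      invFun := fun w => ((g⁻¹ : GL (Fin 4) (ZMod 2)) : Matrix (Fin 4) (Fin 4) (ZMod 2)) *ᵥ w
      left_inv := by
        intro w
        simp only [Matrix.mulVec_mulVec]
        rw [← Matrix.GeneralLinearGroup.coe_mul, inv_mul_cancel]
        simp
      right_inv := by
        intro w
        simp only [Matrix.mulVec_mulVec]
        rw [← Matrix.GeneralLinearGroup.coe_mul, mul_inv_cancel]
        simp }
  map_one' := by
    ext w
    simp
  map_mul' := by
    intro g h
    ext w
    simp [Matrix.mulVec_mulVec]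

theorem l10_rho_apply (g : GL (Fin 4) (ZMod 2)) (w : V4) :
    l10_rho g w = (g : Matrix (Fin 4) (Fin 4) (ZMod 2)) *ᵥ w := rfl

/-- the dual action of `GL_4(2)` on functionals (row vectors) -/
def l10_rho' : GL (Fin 4) (ZMod 2) →* Equiv.Perm V4 where
  toFun g :=
    { toFun := fun a => a ᵥ* ((g⁻¹ : GL (Fin 4) (ZMod 2)) : Matrix (Fin 4) (Fin 4) (ZMod 2))
      invFun := fun a => a ᵥ* (g : Matrix (Fin 4) (Fin 4) (ZMod 2))
      left_inv := by
        intro a
        simp only [Matrix.vecMul_vecMul]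
        rw [← Matrix.GeneralLinearGroup.coe_mul, inv_mul_cancel]
        simp
      right_inv := by
        intro a
        simp only [Matrix.vecMul_vecMul]
        rw [← Matrix.GeneralLinearGroup.coe_mul, mul_inv_cancel]
        simp }
  map_one' := by
    ext a
    simp
  map_mul' := by
    intro g h
    ext a
    simp [Matrix.vecMul_vecMul]

theorem l10_rho'_apply (g : GL (Fin 4) (ZMod 2)) (a : V4) :
    l10_rho' g a = a ᵥ* ((g⁻¹ : GL (Fin 4) (ZMod 2)) : Matrix (Fin 4) (Fin 4) (ZMod 2)) := rfl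

theorem l10_card_nonzero : Nat.card {w : V4 // w ≠ 0} = 15 := by
  rw [Nat.card_eq_fintype_card]
  decide

theorem l10_card_ann : ∀ v : V4, v ≠ 0 → Fintype.card {a : V4 // a ≠ 0 ∧ a ⬝ᵥ v = 0} = 7 := by
  decide

theorem l10_double_ann : ∀ v u : V4, v ≠ 0 →
    (∀ a : V4, a ⬝ᵥ v = 0 → a ⬝ᵥ u = 0) → u = 0 ∨ u = v := by
  decide

theorem l10_add_self : ∀ v : V4, v + v = 0 := by
  decide

/-- with a fixed nonzero vector every element of `H` is an involution -/
theorem l10_sq (H : Subgroup (GL (Fin 4) (ZMod 2))) (hs : IsSimpleGroup ↥H) (hc : Nat.card ↥H = 1344)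
    (v : V4) (hv : v ≠ 0)
    (hfix : ∀ h ∈ H, (h : Matrix (Fin 4) (Fin 4) (ZMod 2)) *ᵥ v = v) : ∀ h ∈ H, h * h = 1 := by
  have hinv : ∀ h ∈ H, ((h⁻¹ : GL (Fin 4) (ZMod 2)) : Matrix (Fin 4) (Fin 4) (ZMod 2)) *ᵥ v = v :=
    fun h hh => hfix h⁻¹ (H.inv_mem hh)
  let p : V4 → Prop := fun a => a ≠ 0 ∧ a ⬝ᵥ v = 0
  have key : ∀ g ∈ H, ∀ a, p a → p (l10_rho' g a) := by
    rintro g hg a ⟨ha0, hav⟩
    refine ⟨?_, ?_⟩
    · intro h0
      apply ha0
      have h1 : l10_rho' g a = l10_rho' g 0 := by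
        rw [h0, l10_rho'_apply, Matrix.zero_vecMul]
      exact (l10_rho' g).injective h1
    · rw [l10_rho'_apply, ← Matrix.dotProduct_mulVec, hinv g hg, hav]
  have hp : ∀ h : ↥H, ∀ a, p a ↔ p (l10_rho' (h : GL (Fin 4) (ZMod 2)) a) := by
    intro h a
    constructor
    · exact key h h.2 a
    · intro hpa
      have := key (h : GL (Fin 4) (ZMod 2))⁻¹ (H.inv_mem h.2) _ hpa
      rwa [← Equiv.Perm.mul_apply, ← map_mul, inv_mul_cancel, map_one, Equiv.Perm.one_apply] at this
  let φ : ↥H →* Equiv.Perm {a : V4 // p a} :=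
    { toFun := fun h => (l10_rho' (h : GL (Fin 4) (ZMod 2))).subtypePerm (fun a => (hp h a).symm)
      map_one' := by
        apply Equiv.ext
        intro a
        apply Subtype.ext
        simp only [Equiv.Perm.subtypePerm_apply, Subgroup.coe_one, map_one, Equiv.Perm.one_apply]
      map_mul' := by
        intro g h
        apply Equiv.ext
        intro a
        apply Subtype.ext
        simp only [Equiv.Perm.subtypePerm_apply, Subgroup.coe_mul, map_mul, Equiv.Perm.mul_apply] }
  have hX : Nat.card {a : V4 // p a} ≤ 7 := by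
    rw [Nat.card_eq_fintype_card, l10_card_ann v hv]
  have hfixa : ∀ h ∈ H, ∀ a : V4, a ⬝ᵥ v = 0 →
      a ᵥ* (h : Matrix (Fin 4) (Fin 4) (ZMod 2)) = a := by
    intro h hh a hav
    by_cases ha0 : a = 0
    · rw [ha0, Matrix.zero_vecMul]
    · have h1 := l10_small hs hc hX φ ⟨h⁻¹, H.inv_mem hh⟩
      have h2 := congrArg (fun σ => ((σ ⟨a, ha0, hav⟩ : {a : V4 // p a}) : V4)) h1
      simp only [Equiv.Perm.one_apply] at h2
      have h3 : l10_rho' (h⁻¹ : GL (Fin 4) (ZMod 2)) a = a := h2
      rwa [l10_rho'_apply, inv_inv] at h3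
  intro h hh
  apply Units.ext
  apply Matrix.mulVec_injective
  funext w
  rw [Units.val_mul, Units.val_one, Matrix.one_mulVec, ← Matrix.mulVec_mulVec]
  have hw : ∀ w : V4, (h : Matrix (Fin 4) (Fin 4) (ZMod 2)) *ᵥ w = w ∨
      (h : Matrix (Fin 4) (Fin 4) (ZMod 2)) *ᵥ w = v + w := by
    intro w
    have := l10_double_ann v ((h : Matrix (Fin 4) (Fin 4) (ZMod 2)) *ᵥ w - w) hv (by
      intro a hav
      rw [dotProduct_sub, Matrix.dotProduct_mulVec, hfixa h hh a hav, sub_self])
    rcases this with h0 | h0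
    · left
      exact sub_eq_zero.mp h0
    · right
      exact sub_eq_iff_eq_add.mp h0
  rcases hw w with h1 | h1
  · rw [h1, h1]
  · rw [h1, Matrix.mulVec_add, hfix h hh, h1, ← add_assoc, l10_add_self, zero_add]

/-- a simple subgroup of order 1344 of `GL_4(2)` fixes a nonzero vector -/
theorem l10_fixed (H : Subgroup (GL (Fin 4) (ZMod 2))) (hs : IsSimpleGroup ↥H) (hc : Nat.card ↥H = 1344) :
    ∃ v : V4, v ≠ 0 ∧ ∀ h ∈ H, (h : Matrix (Fin 4) (Fin 4) (ZMod 2)) *ᵥ v = v := by
  let q : V4 → Prop := fun w => w ≠ 0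
  have keyq : ∀ g : GL (Fin 4) (ZMod 2), ∀ w, q w → q (l10_rho g w) := by
    intro g w hw h0
    apply hw
    have h1 : l10_rho g w = l10_rho g 0 := by
      rw [h0, l10_rho_apply, Matrix.mulVec_zero]
    exact (l10_rho g).injective h1
  have hq : ∀ h : ↥H, ∀ w, q (l10_rho (h : GL (Fin 4) (ZMod 2)) w) ↔ q w := by
    intro h w
    constructor
    · intro hpa
      have := keyq (h : GL (Fin 4) (ZMod 2))⁻¹ _ hpa
      rwa [← Equiv.Perm.mul_apply, ← map_mul, inv_mul_cancel, map_one, Equiv.Perm.one_apply] at this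
    · exact keyq h w
  let ψ : ↥H →* Equiv.Perm {w : V4 // q w} :=
    { toFun := fun h => (l10_rho (h : GL (Fin 4) (ZMod 2))).subtypePerm (hq h)
      map_one' := by
        apply Equiv.ext
        intro a
        apply Subtype.ext
        simp only [Equiv.Perm.subtypePerm_apply, Subgroup.coe_one, map_one, Equiv.Perm.one_apply]
      map_mul' := by
        intro g h
        apply Equiv.ext
        intro a
        apply Subtype.ext
        simp only [Equiv.Perm.subtypePerm_apply, Subgroup.coe_mul, map_mul, Equiv.Perm.mul_apply] }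
  let _ : MulAction ↥H {w : V4 // q w} := MulAction.compHom _ ψ
  have hsmul : ∀ (h : ↥H) (x : {w : V4 // q w}),
      ((h • x : {w : V4 // q w}) : V4)
        = ((h : GL (Fin 4) (ZMod 2)) : Matrix (Fin 4) (Fin 4) (ZMod 2)) *ᵥ (x : V4) := by
    intro h x
    rfl
  by_contra hno
  push Not at hno
  have hbig : ∀ x : {w : V4 // q w}, 8 ≤ (MulAction.orbit ↥H x).ncard := by
    intro x
    by_contra hlt
    push Not at hlt
    have hX : Nat.card (MulAction.orbit ↥H x) ≤ 7 := by
      rw [Nat.card_coe_set_eq]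
      omega
    obtain ⟨h, hh, hne⟩ := hno x.1 x.2
    apply hne
    have h1 := l10_small hs hc hX (MulAction.toPermHom ↥H (MulAction.orbit ↥H x)) ⟨h, hh⟩
    have h2 := congrArg (fun σ => (((σ ⟨x, MulAction.mem_orbit_self x⟩ : MulAction.orbit ↥H x)
      : {w : V4 // q w}) : V4)) h1
    simp only [Equiv.Perm.one_apply] at h2
    exact h2
  have hdvd : ∀ x : {w : V4 // q w}, (MulAction.orbit ↥H x).ncard ∣ 1344 := by
    intro x
    rw [← MulAction.index_stabilizer, ← hc]
    exact Subgroup.index_dvd_card _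
  have hcardX : Nat.card {w : V4 // q w} = 15 := l10_card_nonzero
  let x0 : {w : V4 // q w} := ⟨Pi.single 0 1, by decide⟩
  have hO1 : MulAction.orbit ↥H x0 ≠ Set.univ := by
    intro h
    have := hdvd x0
    rw [h, Set.ncard_univ, hcardX] at this
    norm_num at this
  obtain ⟨x1, hx1⟩ := (Set.ne_univ_iff_exists_notMem _).mp hO1
  have hdisj : Disjoint (MulAction.orbit ↥H x0) (MulAction.orbit ↥H x1) := by
    rw [Set.disjoint_left]
    intro y hy0 hy1
    apply hx1
    have e0 : MulAction.orbit ↥H y = MulAction.orbit ↥H x0 := MulAction.orbit_eq_iff.mpr hy0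
    have e1 : MulAction.orbit ↥H y = MulAction.orbit ↥H x1 := MulAction.orbit_eq_iff.mpr hy1
    rw [← e0, e1]
    exact MulAction.mem_orbit_self x1
  have hun := Set.ncard_union_eq hdisj (Set.toFinite _) (Set.toFinite _)
  have hle : (MulAction.orbit ↥H x0 ∪ MulAction.orbit ↥H x1).ncard ≤ Nat.card {w : V4 // q w} :=
    Set.ncard_le_card _
  have := hbig x0
  have := hbig x1
  omega

/-- LEAF L10 of pack K-G42 -/
theorem no_simple_1344 (H : Subgroup (GL (Fin 4) (ZMod 2))) (hs : IsSimpleGroup ↥H) (hc : Nat.card ↥H = 1344) :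
    False := by
  obtain ⟨v, hv, hfix⟩ := l10_fixed H hs hc
  have hsq := l10_sq H hs hc v hv hfix
  have : Fact (Nat.Prime 7) := ⟨by norm_num⟩
  obtain ⟨g, hg⟩ := exists_prime_orderOf_dvd_card' (G := ↥H) 7 (by rw [hc]; norm_num)
  have h1 : g * g = 1 := by
    apply Subtype.ext
    exact hsq g g.2
  have h2 : orderOf g ∣ 2 := by
    apply orderOf_dvd_of_pow_eq_one
    rw [pow_two, h1]
  rw [hg] at h2
  norm_num at h2

end Cfsg.Agent.Lib.Helper39.G42
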