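import Mathlib
import Cfsg.Prelude.Def_QuasithinSetup
import Cfsg.Agent.Lib.Helper02.RelSubnormal
import Cfsg.Agent.Lib.Helper54.PReduced
import Cfsg.Agent.Lib.Helper39.PGroupBasic

set_option autoImplicit false

namespace Cfsg.Agent.Lib.Helper39.Lf

open Cfsg Cfsg.Agent.Lib.Helper02 Cfsg.Agent.Lib.Helper54
open scoped commutatorElement

variable {G : Type*} [Group G]

/-- conjugating `a` by powers of `y` when `d = [a, y]` commutes with `y` -/
theorem conj_pow_eq_of_commute (a y : G) (hd : Commute ⁅a, y⁆ y) (k : ℕ) :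
    y ^ k * a * (y ^ k)⁻¹ = (⁅a, y⁆ ^ k)⁻¹ * a := by
  induction k with
  | zero => simp
  | succ k ih =>
    have h1 : y * a * y⁻¹ = ⁅a, y⁆⁻¹ * a := by
      simp [commutatorElement_def, mul_assoc]
    have h2 : y * (⁅a, y⁆ ^ k)⁻¹ * y⁻¹ = (⁅a, y⁆ ^ k)⁻¹ := by
      have hc : Commute y ((⁅a, y⁆ ^ k)⁻¹) := ((hd.pow_left k).inv_left).symm
      rw [hc.eq]; simp
    calc y ^ (k + 1) * a * (y ^ (k + 1))⁻¹
        = y * (y ^ k * a * (y ^ k)⁻¹) * y⁻¹ := by
          rw [pow_succ', mul_inv_rev]; simp only [mul_assoc]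
      _ = y * ((⁅a, y⁆ ^ k)⁻¹ * a) * y⁻¹ := by rw [ih]
      _ = (y * (⁅a, y⁆ ^ k)⁻¹ * y⁻¹) * (y * a * y⁻¹) := by simp only [mul_assoc, inv_mul_cancel_left]
      _ = (⁅a, y⁆ ^ k)⁻¹ * (⁅a, y⁆⁻¹ * a) := by rw [h1, h2]
      _ = (⁅a, y⁆ ^ (k + 1))⁻¹ * a := by
          rw [pow_succ', mul_inv_rev]; simp only [mul_assoc]

/-- if `[a, y]` commutes with `y` then `[a, y] ^ o(y) = 1` -/
theorem commutator_pow_orderOf_eq_one (a y : G) (hd : Commute ⁅a, y⁆ y) :
    ⁅a, y⁆ ^ orderOf y = 1 := by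
  have h := conj_pow_eq_of_commute a y hd (orderOf y)
  rw [pow_orderOf_eq_one] at h
  simp only [one_mul, inv_one, mul_one] at h
  have h2 : (⁅a, y⁆ ^ orderOf y)⁻¹ = 1 := by
    have := congrArg (· * a⁻¹) h
    simpa using this.symm
  exact inv_eq_one.1 h2

/-- if moreover `[a, y]² = 1` and `y` has odd order, then `[a, y] = 1` -/
theorem commutator_eq_one_of_odd (a y : G) (hd : Commute ⁅a, y⁆ y) (h2 : ⁅a, y⁆ ^ 2 = 1)
    (hy : Odd (orderOf y)) : ⁅a, y⁆ = 1 := by
  have h1 := commutator_pow_orderOf_eq_one a y hd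
  have hd1 : orderOf ⁅a, y⁆ ∣ orderOf y := orderOf_dvd_of_pow_eq_one h1
  have hd2 : orderOf ⁅a, y⁆ ∣ 2 := orderOf_dvd_of_pow_eq_one h2
  have hcop : Nat.Coprime (orderOf y) 2 := Nat.coprime_two_right.2 hy
  have : orderOf ⁅a, y⁆ = 1 := Nat.eq_one_of_dvd_coprimes hcop hd1 hd2
  exact orderOf_eq_one_iff.1 this


/-- `O_p` is monotone along relative subnormality -/
theorem pCoreOf_le_of_rsn [Finite G] {p : ℕ} {Y H : Subgroup G} (h : RSn Y H) :
    pCoreOf p Y ≤ pCoreOf p H := by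
  induction h with
  | refl => exact le_rfl
  | step M K _ hMK hKN ih =>
    refine ih.trans ?_
    apply le_pCoreOf ((pCoreOf_le p M).trans hMK)
    · exact hKN.trans (normalizer_le_normalizer_pCoreOf p M)
    · exact isPGroup_pCoreOf p M

/-- `O_p(H)` normalizes every relatively subnormal `Y` with `Y = O^p(Y)` -/
theorem pCoreOf_le_normalizer_of_rsn [Finite G] {p : ℕ} [Fact p.Prime] {Y H : Subgroup G}
    (h : RSn Y H) : (pResidual p ↥Y).map Y.subtype = Y →
    pCoreOf p H ≤ Subgroup.normalizer (Y : Set G) := by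
  induction h with
  | refl => intro _; exact (pCoreOf_le p _).trans Subgroup.le_normalizer
  | step M K hYM hMK hKN ih =>
    intro hY
    have ih' := ih hY
    intro r hr
    apply mem_normalizer_of_map_conj_eq
    apply map_conj_eq_of_le
    rename_i Y
    set X := Y ⊔ pCoreOf p M with hX
    have hYr : Y.map (MulAut.conj r).toMonoidHom ≤ X := by
      rintro _ ⟨a, ha, rfl⟩
      have haM : a ∈ M := hYM.le ha
      have haK : a ∈ K := hMK haM
      have hrK : r ∈ K := pCoreOf_le p K hr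
      have hc1 : ⁅r, a⁆ ∈ pCoreOf p K := by
        have h0 : a * r⁻¹ * a⁻¹ ∈ pCoreOf p K :=
          (Subgroup.mem_normalizer_iff.1 (le_normalizer_pCoreOf p K haK) r⁻¹).1 (inv_mem hr)
        have h' : ⁅r, a⁆ = r * (a * r⁻¹ * a⁻¹) := by simp [commutatorElement_def, mul_assoc]
        rw [h']; exact mul_mem hr h0
      have hc2 : ⁅r, a⁆ ∈ M := by
        have h0 : r * a * r⁻¹ ∈ M := (Subgroup.mem_normalizer_iff.1 (hKN hrK) a).1 haM
        have h' : ⁅r, a⁆ = (r * a * r⁻¹) * a⁻¹ := by simp [commutatorElement_def, mul_assoc]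
        rw [h']; exact mul_mem h0 (inv_mem haM)
      have hc3 : ⁅r, a⁆ ∈ pCoreOf p M := by
        have hle : pCoreOf p K ⊓ M ≤ pCoreOf p M := by
          apply le_pCoreOf inf_le_right
          · refine le_trans ?_ Subgroup.inf_normalizer_le_normalizer_inf
            exact le_inf (hMK.trans (le_normalizer_pCoreOf p K)) Subgroup.le_normalizer
          · exact (isPGroup_pCoreOf p K).to_le inf_le_left
        exact hle ⟨hc1, hc2⟩
      have h3 : (MulAut.conj r).toMonoidHom a = ⁅r, a⁆ * a := by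
        simp [commutatorElement_def, mul_assoc]
      rw [h3]
      exact mul_mem (Subgroup.mem_sup_right hc3) (Subgroup.mem_sup_left ha)
    have h1 := map_pResidual_subtype_le_of_sup (p := p) hX ih' (isPGroup_pCoreOf p M)
    have h2 := map_conj_map_pResidual_subtype p Y r
    rw [hY] at h2
    rw [h2]
    exact (map_pResidual_subtype_mono p hYr).trans h1

/-- iterated commutators with a fixed `y ∈ Y` eventually land in the relatively subnormal `Y` -/
theorem exists_iterate_mem_of_rsn {Y H : Subgroup G} (h : RSn Y H) {y : G} :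
    y ∈ Y → ∀ v ∈ H, ∃ k : ℕ, (fun v => ⁅v, y⁆)^[k] v ∈ Y := by
  induction h with
  | refl => intro _ v hv; exact ⟨0, hv⟩
  | step M K hYM hMK hKN ih =>
    intro hy v hv
    have hyM : y ∈ M := hYM.le hy
    have h1 : ⁅v, y⁆ ∈ M := by
      have h0 : v * y * v⁻¹ ∈ M := (Subgroup.mem_normalizer_iff.1 (hKN hv) y).1 hyM
      have h' : ⁅v, y⁆ = (v * y * v⁻¹) * y⁻¹ := by simp [commutatorElement_def]
      rw [h']; exact mul_mem h0 (inv_mem hyM)
    obtain ⟨k, hk⟩ := ih hy _ h1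
    exact ⟨k + 1, by rw [Function.iterate_succ_apply]; exact hk⟩

end Cfsg.Agent.Lib.Helper39.Lf
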