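import Cfsg.Agent.Lib.Helper39.LfUp

set_option autoImplicit false

namespace Cfsg.Agent.Lib.Helper39.Lf

open Cfsg Cfsg.Agent.Lib.Helper02 Cfsg.Agent.Lib.Helper54
open scoped commutatorElement

variable {G : Type*} [Group G]

/-- the set of commutators `[a, y]`, `a ∈ P`, as a subgroup, for `P` abelian of exponent 2
normalized by `y` -/
def commSub (P : Subgroup G) (y : G) (hPc : ∀ a ∈ P, ∀ b ∈ P, a * b = b * a)
    (hP2 : ∀ a ∈ P, a ^ 2 = 1) (hyP : y ∈ Subgroup.normalizer (P : Set G)) : Subgroup G where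
  carrier := {d | ∃ a ∈ P, d = ⁅a, y⁆}
  one_mem' := ⟨1, one_mem P, by simp⟩
  mul_mem' := by
    rintro _ _ ⟨a, ha, rfl⟩ ⟨b, hb, rfl⟩
    refine ⟨a * b, mul_mem ha hb, ?_⟩
    have hbP : ⁅b, y⁆ ∈ P := commutator_mem_of_mem_normalizer hb hyP
    have haP : ⁅a, y⁆ ∈ P := commutator_mem_of_mem_normalizer ha hyP
    have h1 : ⁅a * b, y⁆ = (a * ⁅b, y⁆ * a⁻¹) * ⁅a, y⁆ := by
      simp [commutatorElement_def, mul_assoc]
    have h2 : a * ⁅b, y⁆ * a⁻¹ = ⁅b, y⁆ := by
      rw [hPc a ha _ hbP]; simp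
    rw [h1, h2]
    exact hPc _ haP _ hbP
  inv_mem' := by
    rintro _ ⟨a, ha, rfl⟩
    refine ⟨a, ha, ?_⟩
    have haP : ⁅a, y⁆ ∈ P := commutator_mem_of_mem_normalizer ha hyP
    have h1 := hP2 _ haP
    rw [pow_two] at h1
    exact inv_eq_of_mul_eq_one_left h1

/-- A×B lemma for an abelian group `P` of exponent 2, a 2-group `R` and an odd-order element `y`
that commute modulo `C(P)`. -/
theorem axb_abelian [Finite G] (P R : Subgroup G) (y : G)
    (hPc : ∀ a ∈ P, ∀ b ∈ P, a * b = b * a) (hP2 : ∀ a ∈ P, a ^ 2 = 1)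
    (hyP : y ∈ Subgroup.normalizer (P : Set G)) (hRP : R ≤ Subgroup.normalizer (P : Set G))
    (hR : IsPGroup 2 ↥R) (hy : Odd (orderOf y))
    (hRy : ∀ r ∈ R, ⁅r, y⁆ ∈ Subgroup.centralizer (P : Set G))
    (hfix : ∀ a ∈ P, (∀ r ∈ R, r * a = a * r) → a * y = y * a) :
    ∀ a ∈ P, a * y = y * a := by
  have : Fact (Nat.Prime 2) := ⟨Nat.prime_two⟩
  set D := commSub P y hPc hP2 hyP with hD
  have hDmem : ∀ d, d ∈ D ↔ ∃ a ∈ P, d = ⁅a, y⁆ := fun d => Iff.rfl
  have hDP : D ≤ P := by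
    rintro _ ⟨a, ha, rfl⟩
    exact commutator_mem_of_mem_normalizer ha hyP
  -- R normalizes D
  have hRD : R ≤ Subgroup.normalizer (D : Set G) := by
    apply le_normalizer_of_map_conj_le
    rintro r hr _ ⟨_, ⟨a, ha, rfl⟩, rfl⟩
    have ha' : r * a * r⁻¹ ∈ P := (Subgroup.mem_normalizer_iff.1 (hRP hr) a).1 ha
    refine ⟨r * a * r⁻¹, ha', ?_⟩
    set c := ⁅r, y⁆ with hc
    have hcP := hRy r hr
    have hry : r * y * r⁻¹ = c * y := by simp [hc, commutatorElement_def, mul_assoc]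
    have h1 : (MulAut.conj r).toMonoidHom ⁅a, y⁆ = ⁅r * a * r⁻¹, r * y * r⁻¹⁆ := by
      simp [commutatorElement_def, mul_assoc]
    rw [h1, hry]
    set a' := r * a * r⁻¹ with ha'def
    have hca : c * a' = a' * c := (Subgroup.mem_centralizer_iff.1 hcP a' ha').symm
    have hcd : c * ⁅a', y⁆ = ⁅a', y⁆ * c :=
      (Subgroup.mem_centralizer_iff.1 hcP _ (commutator_mem_of_mem_normalizer ha' hyP)).symm
    have h2 : ⁅a', c * y⁆ = c * ⁅a', y⁆ * c⁻¹ := by
      have h3 : a' * c = c * a' := hca.symm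
      calc ⁅a', c * y⁆ = a' * c * y * a'⁻¹ * y⁻¹ * c⁻¹ := by
            simp [commutatorElement_def, mul_assoc]
        _ = c * a' * y * a'⁻¹ * y⁻¹ * c⁻¹ := by rw [h3]
        _ = c * ⁅a', y⁆ * c⁻¹ := by simp [commutatorElement_def, mul_assoc]
    rw [h2, hcd]; simp
  -- D = ⊥
  have hDbot : D = ⊥ := by
    by_contra hne
    set E := D ⊔ R with hE
    have hDp : IsPGroup 2 ↥D := by
      intro ⟨d, hd⟩
      refine ⟨1, ?_⟩
      apply Subtype.ext
      simpa using hP2 d (hDP hd)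
    have hEp : IsPGroup 2 ↥E := IsPGroup.to_sup_of_normal_left' hDp hR hRD
    have hDE : D ≤ E := le_sup_left
    have hEN : E ≤ Subgroup.normalizer (D : Set G) := sup_le Subgroup.le_normalizer hRD
    have hn : (D.subgroupOf E).Normal := (Subgroup.normal_subgroupOf_iff_le_normalizer hDE).2 hEN
    have hne' : D.subgroupOf E ≠ ⊥ := by
      intro h0
      apply hne
      rw [Subgroup.subgroupOf_eq_bot] at h0
      rw [disjoint_iff, inf_of_le_left hDE] at h0
      exact h0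
    obtain ⟨z, hzD, hzc, hz1⟩ := exists_mem_center_of_normal_ne_bot hEp (D.subgroupOf E) hne'
    have hzD' : (z : G) ∈ D := Subgroup.mem_subgroupOf.1 hzD
    obtain ⟨a, ha, hza⟩ := (hDmem _).1 hzD'
    have hzR : ∀ r ∈ R, r * (z : G) = (z : G) * r := by
      intro r hr
      have h1 := (Subgroup.mem_center_iff.1 hzc) ⟨r, (le_sup_right : R ≤ E) hr⟩
      exact congrArg Subtype.val h1
    have hzy : (z : G) * y = y * (z : G) := hfix _ (hDP hzD') hzR
    have hcomm : Commute ⁅a, y⁆ y := by rw [← hza]; exact hzy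
    have h2 : ⁅a, y⁆ ^ 2 = 1 := hP2 _ (commutator_mem_of_mem_normalizer ha hyP)
    have h3 := commutator_eq_one_of_odd a y hcomm h2 hy
    apply hz1
    apply Subtype.ext
    rw [hza, h3]; rfl
  intro a ha
  have h1 : ⁅a, y⁆ ∈ D := ⟨a, ha, rfl⟩
  rw [hDbot, Subgroup.mem_bot] at h1
  have h3 : a * y * a⁻¹ * y⁻¹ = 1 := by rw [← commutatorElement_def]; exact h1
  have h4 : a * y * a⁻¹ = y := mul_inv_eq_one.1 h3
  exact mul_inv_eq_iff_eq_mul.1 h4


/-- `O²(Y) = Y` in the form used by the `pResidual` library -/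
theorem map_pResidual_eq_of_oddGenerated {Y : Subgroup G} (hY : oddGenerated Y = Y) :
    (pResidual 2 ↥Y).map Y.subtype = Y := by
  rw [map_pResidual_subtype]
  conv_rhs => rw [← hY]
  unfold oddGenerated
  congr 1
  ext g
  simp only [Set.mem_ofPred_eq, Nat.coprime_two_right]

theorem normalizer_pCoreOf_le_normalizer_wO2 [Finite G] (Y : Subgroup G) :
    Subgroup.normalizer (Y : Set G) ≤
      Subgroup.normalizer ((omegaOne 2 (zO2 Y) : Subgroup G) : Set G) := by
  refine le_trans ?_ (normalizer_le_normalizer_omegaOne 2 _)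
  have h1 := normalizer_le_normalizer_pCoreOf 2 Y
  refine le_trans ?_ Subgroup.inf_normalizer_le_normalizer_inf
  exact le_inf h1 (h1.trans (normalizer_le_normalizer_centralizer' _))

/-- **Going down**: if `Y = O²(Y)` is relatively subnormal in `H` and centralizes
`Ω₁(Z(O₂(H)))`, then `V(Y) = 1`. -/
theorem moduleV_eq_bot_of_rsn [Finite G] {Y H : Subgroup G} (h : RSn Y H)
    (hY : oddGenerated Y = Y) (hbot : ⁅omegaOne 2 (zO2 H), Y⁆ = ⊥) : moduleV Y = ⊥ := by
  have : Fact (Nat.Prime 2) := ⟨Nat.prime_two⟩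
  have hYH : Y ≤ H := h.le
  set R := pCoreOf 2 H with hR
  set P := omegaOne 2 (zO2 Y) with hP
  have hRN : R ≤ Subgroup.normalizer (Y : Set G) :=
    pCoreOf_le_normalizer_of_rsn h (map_pResidual_eq_of_oddGenerated hY)
  have hQR : pCoreOf 2 Y ≤ R := pCoreOf_le_of_rsn h
  have hW : omegaOne 2 (zO2 H) ≤ Subgroup.centralizer (Y : Set G) :=
    Subgroup.commutator_eq_bot_iff_le_centralizer.1 hbot
  have hPz : P ≤ zO2 Y := omegaOne_le 2 _
  have hPc : ∀ a ∈ P, ∀ b ∈ P, a * b = b * a := fun a ha b hb =>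
    zO2_comm Y a (hPz ha) b (hPz hb)
  have hP2 : ∀ a ∈ P, a ^ 2 = 1 := fun a ha => sq_eq_one_of_mem_wO2 Y ha
  -- odd-order elements of Y centralize P
  have hodd : ∀ y ∈ Y, Odd (orderOf y) → ∀ a ∈ P, a * y = y * a := by
    intro y hyY hyo
    apply axb_abelian P R y hPc hP2 (le_normalizer_wO2 Y hyY)
      (hRN.trans (normalizer_pCoreOf_le_normalizer_wO2 Y)) (isPGroup_pCoreOf 2 H) hyo
    · intro r hr
      have hc1 : ⁅r, y⁆ ∈ R := by
        have h0 : y * r⁻¹ * y⁻¹ ∈ R :=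
          (Subgroup.mem_normalizer_iff.1 (le_normalizer_pCoreOf 2 H (hYH hyY)) r⁻¹).1 (inv_mem hr)
        have h' : ⁅r, y⁆ = r * (y * r⁻¹ * y⁻¹) := by simp [commutatorElement_def, mul_assoc]
        rw [h']; exact mul_mem hr h0
      have hc2 : ⁅r, y⁆ ∈ Y := by
        have h0 : r * y * r⁻¹ ∈ Y := (Subgroup.mem_normalizer_iff.1 (hRN hr) y).1 hyY
        have h' : ⁅r, y⁆ = (r * y * r⁻¹) * y⁻¹ := by simp [commutatorElement_def, mul_assoc]
        rw [h']; exact mul_mem h0 (inv_mem hyY)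
      have hc3 : ⁅r, y⁆ ∈ pCoreOf 2 Y := by
        have hle : R ⊓ Y ≤ pCoreOf 2 Y := by
          apply le_pCoreOf inf_le_right
          · refine le_trans ?_ Subgroup.inf_normalizer_le_normalizer_inf
            exact le_inf (hYH.trans (le_normalizer_pCoreOf 2 H)) Subgroup.le_normalizer
          · exact (isPGroup_pCoreOf 2 H).to_le inf_le_left
        exact hle ⟨hc1, hc2⟩
      rw [Subgroup.mem_centralizer_iff]
      intro a ha
      exact ((Subgroup.mem_centralizer_iff.1 (hPz ha).2) _ hc3).symm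
    · intro a ha hfix
      have haW : a ∈ omegaOne 2 (zO2 H) := by
        apply mem_omegaOne _ (hP2 a ha)
        refine ⟨hQR (hPz ha).1, ?_⟩
        show a ∈ Subgroup.centralizer ((pCoreOf 2 H : Subgroup G) : Set G)
        rw [Subgroup.mem_centralizer_iff]
        intro r hr
        exact hfix r hr
      exact ((Subgroup.mem_centralizer_iff.1 (hW haW)) y hyY).symm
  -- all of Y centralizes P
  have hYc : Y ≤ Subgroup.centralizer (P : Set G) := by
    conv_lhs => rw [← hY]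
    unfold oddGenerated
    rw [Subgroup.closure_le]
    rintro y ⟨hyY, hyo⟩
    rw [SetLike.mem_coe, Subgroup.mem_centralizer_iff]
    intro a ha
    exact hodd y hyY hyo a ha
  rw [moduleV_eq, Subgroup.commutator_comm]
  exact Subgroup.commutator_eq_bot_iff_le_centralizer.2 hYc

end Cfsg.Agent.Lib.Helper39.Lf
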