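import Cfsg.Agent.Lib.Helper39.LfDown
import Cfsg.Agent.Lib.Helper56.CharPIso
import Cfsg.Agent.Lib.Helper56.CharPRel
import Cfsg.Agent.Lib.Helper56.CharPFStar
import Cfsg.Agent.Lib.Helper03.PResidual

set_option autoImplicit false

namespace Cfsg.Agent.Lib.Helper39.Lf

open Cfsg Cfsg.Agent.Lib.Helper02 Cfsg.Agent.Lib.Helper54
open scoped commutatorElement

variable {G : Type*} [Group G]

/-- In a group of even characteristic, `⟨K, T⟩` has characteristic 2 for `K ∈ ℒ(G, T)`. -/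
theorem charTwo_sup_of_calL [Finite G] (hE : IsOfEvenCharacteristic G) (T : Sylow 2 G)
    {K : Subgroup G} (hK : K ∈ calL (T : Subgroup G)) :
    Subgroup.centralizer (pCore 2 ↥(K ⊔ (T : Subgroup G)) : Set ↥(K ⊔ (T : Subgroup G))) ≤
      pCore 2 ↥(K ⊔ (T : Subgroup G)) := by
  have : Fact (Nat.Prime 2) := ⟨Nat.prime_two⟩
  set H := K ⊔ (T : Subgroup G) with hH
  set N := Subgroup.normalizer ((pCoreOf 2 H : Subgroup G) : Set G) with hN
  have hHN : H ≤ N := le_normalizer_pCoreOf 2 H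
  have hTN : (T : Subgroup G) ≤ N := le_sup_right.trans hHN
  have hne : pCoreOf 2 H ≠ ⊥ := by
    intro h0
    apply hK.2.2
    unfold pCoreOf at h0
    exact (Subgroup.map_eq_bot_iff_of_injective _ H.subtype_injective).1 h0
  have hloc : IsTwoLocal N := ⟨pCoreOf 2 H, isPGroup_pCoreOf 2 H, hne, rfl⟩
  have hNc : IsOfCharacteristicTwo ↥N := hE N hloc ⟨T, hTN⟩
  unfold IsOfCharacteristicTwo at hNc
  have hnorm : pCore 2 ↥N ≤ Subgroup.normalizer ((H.subgroupOf N : Subgroup ↥N) : Set ↥N) := by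
    have h2 : pCore 2 ↥N ≤ ((T.subtype hTN : Sylow 2 ↥N) : Subgroup ↥N) := pCore_le_sylow _
    rw [sylow_subtype_coe] at h2
    refine h2.trans (le_trans ?_ Subgroup.le_normalizer)
    exact Subgroup.comap_mono le_sup_right
  have h1 := Cfsg.Agent.Lib.Helper56.charP_of_pCore_le_normalizer hNc (H.subgroupOf N) hnorm
  exact Cfsg.Agent.Lib.Helper56.charP_of_subgroupOf hHN h1

/-- members of `ℒ(G, T)` lie in `ℋ^e` when `G` has even characteristic -/
theorem mem_calHe_of_calL [Finite G] (hE : IsOfEvenCharacteristic G) (T : Sylow 2 G)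
    {K : Subgroup G} (hK : K ∈ calL (T : Subgroup G)) : K ∈ calHe G := by
  have : Fact (Nat.Prime 2) := ⟨Nat.prime_two⟩
  have hsn : (K.subgroupOf (K ⊔ (T : Subgroup G))).IsSubnormal := hK.1.2.2.1
  have h1 := Cfsg.Agent.Lib.Helper56.charP_of_isSubnormal (charTwo_sup_of_calL hE T hK) _ hsn
  have h2 := Cfsg.Agent.Lib.Helper56.charP_of_subgroupOf
    (le_sup_left : K ≤ K ⊔ (T : Subgroup G)) h1
  show generalizedFittingSubgroup ↥K = pCore 2 ↥K
  exact Cfsg.Agent.Lib.Helper56.genFitting_eq_pCore_iff.2 h2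

/-- characteristic 2 in ambient form -/
theorem mem_pCoreOf_of_mem_centralizer {H : Subgroup G}
    (hc : Subgroup.centralizer (pCore 2 ↥H : Set ↥H) ≤ pCore 2 ↥H) {x : G} (hx : x ∈ H)
    (hxc : x ∈ Subgroup.centralizer ((pCoreOf 2 H : Subgroup G) : Set G)) : x ∈ pCoreOf 2 H := by
  have h1 : (⟨x, hx⟩ : ↥H) ∈ Subgroup.centralizer (pCore 2 ↥H : Set ↥H) := by
    rw [Subgroup.mem_centralizer_iff]
    intro q hq
    apply Subtype.ext
    have hq' : (q : G) ∈ pCoreOf 2 H := ⟨q, hq, rfl⟩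
    exact (Subgroup.mem_centralizer_iff.1 hxc) _ hq'
  exact ⟨⟨x, hx⟩, hc h1, rfl⟩

/-- members of `ℒ(G, T)` are perfect, hence generated by their elements of odd order -/
theorem oddGenerated_eq_of_calL [Finite G] (T : Subgroup G) {K : Subgroup G}
    (hK : K ∈ calL T) : oddGenerated K = K := by
  have : Fact (Nat.Prime 2) := ⟨Nat.prime_two⟩
  set H := K ⊔ T with hH
  have hKH : K ≤ H := le_sup_left
  have hperf' : ⁅K.subgroupOf H, K.subgroupOf H⁆ = K.subgroupOf H := hK.1.2.1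
  have hperf : ⁅K, K⁆ = K := by
    have h0 := congrArg (Subgroup.map H.subtype) hperf'
    rwa [Subgroup.map_commutator, Subgroup.map_subgroupOf_eq_of_le hKH] at h0
  have hKtop : commutator ↥K = ⊤ := by
    rw [commutator_def, eq_top_iff]
    intro x _
    have hx : (x : G) ∈ ⁅K, K⁆ := by rw [hperf]; exact x.2
    have hmap : Subgroup.map K.subtype ⁅(⊤ : Subgroup ↥K), (⊤ : Subgroup ↥K)⁆ = ⁅K, K⁆ := by
      rw [Subgroup.map_commutator, ← MonoidHom.range_eq_map, Subgroup.range_subtype]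
    rw [← hmap] at hx
    obtain ⟨z, hz, hzx⟩ := hx
    have hzx' : z = x := Subtype.ext hzx
    rwa [hzx'] at hz
  have P : Sylow 2 ↥K := default
  have h3 := Cfsg.Agent.Lib.Helper03.pResidual_eq_top_of_sylow_le_commutator P
    (by rw [hKtop]; exact le_top)
  have h4 : oddGenerated K = (pResidual 2 ↥K).map K.subtype := by
    rw [map_pResidual_subtype]
    unfold oddGenerated
    congr 1
    ext g
    simp only [Set.mem_ofPred_eq, Nat.coprime_two_right]
  rw [h4, h3, ← MonoidHom.range_eq_map, Subgroup.range_subtype]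

/-- `Ω₁ Z(O₂(⟨L, T⟩)) ≤ Ω₁ Z(O₂(⟨K, T⟩))` for `L ≤ K` when `⟨K, T⟩` has characteristic 2 and
`T` is a Sylow 2-subgroup of it. -/
theorem wO2_mono [Finite G] (T : Subgroup G) {L K : Subgroup G} (hLK : L ≤ K)
    (hsyl : ∃ P : Sylow 2 ↥(K ⊔ T), (P : Subgroup ↥(K ⊔ T)) = T.subgroupOf (K ⊔ T))
    (hc : Subgroup.centralizer (pCore 2 ↥(K ⊔ T) : Set ↥(K ⊔ T)) ≤ pCore 2 ↥(K ⊔ T)) :
    omegaOne 2 (zO2 (L ⊔ T)) ≤ omegaOne 2 (zO2 (K ⊔ T)) := by
  have : Fact (Nat.Prime 2) := ⟨Nat.prime_two⟩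
  set HL := L ⊔ T with hHL
  set HK := K ⊔ T with hHK
  have hle : HL ≤ HK := sup_le_sup_right hLK T
  have hRT : pCoreOf 2 HK ≤ T := by
    obtain ⟨P, hP⟩ := hsyl
    rintro _ ⟨q, hq, rfl⟩
    have h1 : q ∈ (P : Subgroup ↥HK) := pCore_le_sylow P hq
    rw [hP] at h1
    exact Subgroup.mem_subgroupOf.1 h1
  have hRR : pCoreOf 2 HK ≤ pCoreOf 2 HL := by
    apply le_pCoreOf (hRT.trans le_sup_right) (hle.trans (le_normalizer_pCoreOf 2 HK))
    exact isPGroup_pCoreOf 2 HK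
  apply omegaOne_mono
  rintro x ⟨hx1, hx2⟩
  have hx2' : x ∈ Subgroup.centralizer ((pCoreOf 2 HK : Subgroup G) : Set G) :=
    Subgroup.centralizer_le hRR hx2
  exact ⟨mem_pCoreOf_of_mem_centralizer hc (hle (pCoreOf_le 2 HL hx1)) hx2', hx2'⟩

end Cfsg.Agent.Lib.Helper39.Lf
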