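import Cfsg.Agent.Lib.Helper39.LfBase

set_option autoImplicit false

namespace Cfsg.Agent.Lib.Helper39.Lf

open Cfsg Cfsg.Agent.Lib.Helper02 Cfsg.Agent.Lib.Helper54
open scoped commutatorElement

variable {G : Type*} [Group G]

/-- `Z(O₂(H))` as a subgroup of the ambient group -/
def zO2 (H : Subgroup G) : Subgroup G :=
  pCoreOf 2 H ⊓ Subgroup.centralizer ((pCoreOf 2 H : Subgroup G) : Set G)

theorem moduleV_eq (Y : Subgroup G) : moduleV Y = ⁅omegaOne 2 (zO2 Y), Y⁆ := rfl

theorem zO2_le (H : Subgroup G) : zO2 H ≤ H := inf_le_left.trans (pCoreOf_le 2 H)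

theorem zO2_comm (H : Subgroup G) : ∀ a ∈ zO2 H, ∀ b ∈ zO2 H, a * b = b * a := by
  intro a ha b hb
  exact ((Subgroup.mem_centralizer_iff.1 hb.2) a ha.1)

theorem le_normalizer_zO2 (H : Subgroup G) :
    H ≤ Subgroup.normalizer ((zO2 H : Subgroup G) : Set G) := by
  refine le_trans ?_ Subgroup.inf_normalizer_le_normalizer_inf
  exact le_inf (le_normalizer_pCoreOf 2 H)
    ((le_normalizer_pCoreOf 2 H).trans (normalizer_le_normalizer_centralizer' _))

theorem normalizer_le_normalizer_omegaOne (p : ℕ) (Z : Subgroup G) :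
    Subgroup.normalizer (Z : Set G) ≤ Subgroup.normalizer ((omegaOne p Z : Subgroup G) : Set G) := by
  apply le_normalizer_of_map_conj_le
  intro g hg
  unfold omegaOne
  rw [MonoidHom.map_closure, Subgroup.closure_le]
  rintro _ ⟨x, ⟨hxZ, hxp⟩, rfl⟩
  apply Subgroup.subset_closure
  refine ⟨?_, ?_⟩
  · have := (Subgroup.mem_normalizer_iff.1 hg x).1 hxZ
    simpa using this
  · show ((MulAut.conj g).toMonoidHom x) ^ p = 1
    rw [← map_pow, hxp, map_one]

theorem le_normalizer_wO2 (H : Subgroup G) :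
    H ≤ Subgroup.normalizer ((omegaOne 2 (zO2 H) : Subgroup G) : Set G) :=
  (le_normalizer_zO2 H).trans (normalizer_le_normalizer_omegaOne 2 _)

theorem sq_eq_one_of_mem_wO2 (H : Subgroup G) {x : G} (hx : x ∈ omegaOne 2 (zO2 H)) :
    x ^ 2 = 1 :=
  pow_eq_one_of_mem_omegaOne (zO2_comm H) hx

/-- commutator with a normalizing element stays inside -/
theorem commutator_mem_of_mem_normalizer {W : Subgroup G} {v y : G} (hv : v ∈ W)
    (hy : y ∈ Subgroup.normalizer (W : Set G)) : ⁅v, y⁆ ∈ W := by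
  have h0 : y * v⁻¹ * y⁻¹ ∈ W := (Subgroup.mem_normalizer_iff.1 hy v⁻¹).1 (inv_mem hv)
  have h' : ⁅v, y⁆ = v * (y * v⁻¹ * y⁻¹) := by simp [commutatorElement_def, mul_assoc]
  rw [h']; exact mul_mem hv h0

/-- if `Y = O²(Y)` does not centralize `w`, some odd-order element of `Y` does not -/
theorem exists_odd_not_commute {Y : Subgroup G} (hY : oddGenerated Y = Y) {w : G}
    (hw : ¬ ∀ y ∈ Y, y * w = w * y) :
    ∃ y ∈ Y, Odd (orderOf y) ∧ y * w ≠ w * y := by
  by_contra hcon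
  push Not at hcon
  apply hw
  have hle : Y ≤ Subgroup.centralizer ({w} : Set G) := by
    conv_lhs => rw [← hY]
    unfold oddGenerated
    rw [Subgroup.closure_le]
    rintro y ⟨hyY, hyo⟩
    rw [SetLike.mem_coe, Subgroup.mem_centralizer_iff]
    intro x hx
    rw [Set.mem_singleton_iff] at hx
    subst hx
    exact (hcon y hyY hyo).symm
  intro y hy
  have := (Subgroup.mem_centralizer_iff.1 (hle hy)) w (Set.mem_singleton w)
  exact this.symm

/-- **Going up**: if `Y = O²(Y)` is relatively subnormal in `H` and does not centralize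
`Ω₁(Z(O₂(H)))`, then `V(Y) ≠ 1`. -/
theorem moduleV_ne_bot_of_rsn [Finite G] {Y H : Subgroup G} (h : RSn Y H)
    (hY : oddGenerated Y = Y) (hne : ⁅omegaOne 2 (zO2 H), Y⁆ ≠ ⊥) : moduleV Y ≠ ⊥ := by
  have : Fact (Nat.Prime 2) := ⟨Nat.prime_two⟩
  set W := omegaOne 2 (zO2 H) with hW
  have hYH : Y ≤ H := h.le
  have hWH : W ≤ H := (omegaOne_le 2 _).trans (zO2_le H)
  -- an element of W not centralized by Y
  have h1 : ¬ W ≤ Subgroup.centralizer (Y : Set G) := by
    intro hle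
    exact hne (Subgroup.commutator_eq_bot_iff_le_centralizer.2 hle)
  obtain ⟨w, hwW, hwc⟩ := SetLike.not_le_iff_exists.1 h1
  have h2 : ¬ ∀ y ∈ Y, y * w = w * y := by
    intro hall
    apply hwc
    rw [Subgroup.mem_centralizer_iff]
    intro y hy
    exact hall y hy
  obtain ⟨y, hyY, hyo, hyw⟩ := exists_odd_not_commute hY h2
  have hyN : y ∈ Subgroup.normalizer (W : Set G) := le_normalizer_wO2 H (hYH hyY)
  -- iterate
  have key : ∀ k : ℕ, (fun v => ⁅v, y⁆)^[k] w ∈ W ∧ (fun v => ⁅v, y⁆)^[k + 1] w ≠ 1 := by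
    intro k
    induction k with
    | zero =>
      refine ⟨hwW, ?_⟩
      simp only [zero_add, Function.iterate_one]
      intro h0
      apply hyw
      have h3 : w * y * w⁻¹ * y⁻¹ = 1 := by rw [← commutatorElement_def]; exact h0
      have h4 : w * y * w⁻¹ = y := mul_inv_eq_one.1 h3
      exact (mul_inv_eq_iff_eq_mul.1 h4).symm
    | succ k ih =>
      obtain ⟨ih1, ih2⟩ := ih
      refine ⟨?_, ?_⟩
      · rw [Function.iterate_succ_apply']
        exact commutator_mem_of_mem_normalizer ih1 hyN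
      · rw [Function.iterate_succ_apply']
        intro h0
        apply ih2
        rw [Function.iterate_succ_apply']
        set v := (fun v => ⁅v, y⁆)^[k] w with hv
        have hvW : ⁅v, y⁆ ∈ W := commutator_mem_of_mem_normalizer ih1 hyN
        -- ⁅⁅v,y⁆, y⁆ = 1 means ⁅v,y⁆ commutes with y
        have hcomm : Commute ⁅v, y⁆ y := by
          have h3 : ⁅v, y⁆ * y * ⁅v, y⁆⁻¹ * y⁻¹ = 1 := by
            rw [← commutatorElement_def]
            rw [Function.iterate_succ_apply'] at h0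
            exact h0
          have h4 : ⁅v, y⁆ * y * ⁅v, y⁆⁻¹ = y := mul_inv_eq_one.1 h3
          exact mul_inv_eq_iff_eq_mul.1 h4
        exact commutator_eq_one_of_odd v y hcomm (sq_eq_one_of_mem_wO2 H hvW) hyo
  obtain ⟨k, hk⟩ := exists_iterate_mem_of_rsn h hyY w (hWH hwW)
  set v := (fun v => ⁅v, y⁆)^[k] w with hv
  obtain ⟨hvW, hv1⟩ := key k
  rw [Function.iterate_succ_apply'] at hv1
  -- v ∈ Ω₁ Z(O₂(Y))
  have hvz : v ∈ zO2 H := omegaOne_le 2 _ hvW
  have hvQ : v ∈ pCoreOf 2 Y := by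
    have hle : pCoreOf 2 H ⊓ Y ≤ pCoreOf 2 Y := by
      apply le_pCoreOf inf_le_right
      · refine le_trans ?_ Subgroup.inf_normalizer_le_normalizer_inf
        exact le_inf (hYH.trans (le_normalizer_pCoreOf 2 H)) Subgroup.le_normalizer
      · exact (isPGroup_pCoreOf 2 H).to_le inf_le_left
    exact hle ⟨hvz.1, hk⟩
  have hvC : v ∈ Subgroup.centralizer ((pCoreOf 2 Y : Subgroup G) : Set G) :=
    Subgroup.centralizer_le (pCoreOf_le_of_rsn (p := 2) h) hvz.2
  have hvΩ : v ∈ omegaOne 2 (zO2 Y) :=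
    mem_omegaOne ⟨hvQ, hvC⟩ (sq_eq_one_of_mem_wO2 H hvW)
  rw [moduleV_eq]
  intro hbot
  apply hv1
  have : ⁅v, y⁆ ∈ ⁅omegaOne 2 (zO2 Y), Y⁆ := Subgroup.commutator_mem_commutator hvΩ hyY
  rw [hbot, Subgroup.mem_bot] at this
  exact this

end Cfsg.Agent.Lib.Helper39.Lf
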