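import Mathlib
import Cfsg.Agent.Lib.Helper74.MinIdxDefs

/-!
# S2140 keystone K20: there is no `H`-invariant line system
-/

set_option autoImplicit false

namespace Cfsg.Agent.Lib.Helper39.MinIdx

open Matrix Cfsg.Agent.Lib.Helper74.MinIdx

variable {ι : Type*} [Fintype ι] [DecidableEq ι] {F : Type*} [Field F]

/-- separation of a vector from a subspace by a dot-product functional -/
lemma exists_dot_sep (W : Submodule F (ι → F)) (x : ι → F) (hx : x ∉ W) :
    ∃ φ : ι → F, (∀ w ∈ W, φ ⬝ᵥ w = 0) ∧ φ ⬝ᵥ x = 1 := by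
  obtain ⟨f, hfx, hfW⟩ := Submodule.exists_le_ker_of_notMem hx
  have key : ∀ y : ι → F, f y = (fun i => f (fun j => if i = j then 1 else 0)) ⬝ᵥ y := by
    intro y
    rw [LinearMap.pi_apply_eq_sum_univ f y]
    simp only [dotProduct, smul_eq_mul]
    exact Finset.sum_congr rfl (fun i _ => mul_comm _ _)
  refine ⟨(f x)⁻¹ • (fun i => f (fun j => if i = j then 1 else 0)), ?_, ?_⟩
  · intro w hw
    rw [smul_dotProduct, ← key, LinearMap.mem_ker.mp (hfW hw), smul_zero]
  · rw [smul_dotProduct, ← key, smul_eq_mul, inv_mul_cancel₀ hfx]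

lemma mem_span_pair_of_dot (a b x : ι → F)
    (h : ∀ φ : ι → F, φ ⬝ᵥ a = 0 → φ ⬝ᵥ b = 0 → φ ⬝ᵥ x = 0) :
    x ∈ Submodule.span F {a, b} := by
  by_contra hx
  obtain ⟨φ, hφ, hφx⟩ := exists_dot_sep _ x hx
  have := h φ (hφ a (Submodule.subset_span (by simp))) (hφ b (Submodule.subset_span (by simp)))
  rw [this] at hφx
  exact zero_ne_one hφx

lemma dot_eq_zero_of_mem_span_pair {a b x φ : ι → F} (hx : x ∈ Submodule.span F {a, b})
    (ha : φ ⬝ᵥ a = 0) (hb : φ ⬝ᵥ b = 0) : φ ⬝ᵥ x = 0 := by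
  obtain ⟨α, β, rfl⟩ := Submodule.mem_span_pair.mp hx
  simp [dotProduct_add, dotProduct_smul, ha, hb]

lemma sl_inv_mulVec (h : SpecialLinearGroup ι F) (x : ι → F) :
    ((h⁻¹ : SpecialLinearGroup ι F) : Matrix ι ι F) *ᵥ ((h : Matrix ι ι F) *ᵥ x) = x := by
  rw [Matrix.mulVec_mulVec, ← Matrix.SpecialLinearGroup.coe_mul, inv_mul_cancel,
    Matrix.SpecialLinearGroup.coe_one, Matrix.one_mulVec]

lemma sl_mulVec_ne_zero (h : SpecialLinearGroup ι F) {x : ι → F} (hx : x ≠ 0) :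
    (h : Matrix ι ι F) *ᵥ x ≠ 0 := by
  intro h0
  apply hx
  have := sl_inv_mulVec h x
  rw [h0, Matrix.mulVec_zero] at this
  exact this.symm

/-- the line attached to `v` -/
def Lin (u : (ι → F) → (ι → F)) (v : ι → F) : Submodule F (ι → F) := Submodule.span F {v, u v}

lemma self_mem_Lin (u : (ι → F) → (ι → F)) (v : ι → F) : v ∈ Lin u v :=
  Submodule.subset_span (by simp)

lemma u_mem_Lin (u : (ι → F) → (ι → F)) (v : ι → F) : u v ∈ Lin u v :=
  Submodule.subset_span (by simp)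

/-- The hypotheses of K20. -/
structure LineSys (H : Subgroup (SpecialLinearGroup ι F)) (u : (ι → F) → (ι → F)) : Prop where
  htrans : ∀ v w : ι → F, v ≠ 0 → w ≠ 0 →
      ∃ h ∈ H, ∃ c : F, (h : Matrix ι ι F) *ᵥ v = c • w
  hu : ∀ v, v ≠ 0 → u v ∉ Submodule.span F {v}
  hH : ∀ v, v ≠ 0 → ∀ (φ : ι → F) (h : φ ⬝ᵥ v = 0), tv v φ h ∈ H ↔ φ ⬝ᵥ u v = 0

variable {H : Subgroup (SpecialLinearGroup ι F)} {u : (ι → F) → (ι → F)}

lemma lin_map (S : LineSys H u)
    {g : SpecialLinearGroup ι F} (hg : g ∈ H) {v : ι → F} (hv : v ≠ 0) {x : ι → F}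
    (hx : x ∈ Lin u v) : (g : Matrix ι ι F) *ᵥ x ∈ Lin u ((g : Matrix ι ι F) *ᵥ v) := by
  apply mem_span_pair_of_dot
  intro ψ hψ1 hψ2
  have hgv := sl_mulVec_ne_zero g hv
  have hmem : tv _ ψ hψ1 ∈ H := (S.hH _ hgv ψ hψ1).mpr hψ2
  have hφv : (ψ ᵥ* (g : Matrix ι ι F)) ⬝ᵥ v = 0 := by
    rw [← Matrix.dotProduct_mulVec]; exact hψ1
  have heq : tv v (ψ ᵥ* (g : Matrix ι ι F)) hφv = g⁻¹ * tv _ ψ hψ1 * g := by
    apply Subtype.ext
    simp only [Matrix.SpecialLinearGroup.coe_mul, coe_tv]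
    have hAB : ((g⁻¹ : SpecialLinearGroup ι F) : Matrix ι ι F) * (g : Matrix ι ι F) = 1 := by
      rw [← Matrix.SpecialLinearGroup.coe_mul, inv_mul_cancel, Matrix.SpecialLinearGroup.coe_one]
    rw [mul_tvM_mul _ _ hAB, sl_inv_mulVec]
  have hmem2 : tv v (ψ ᵥ* (g : Matrix ι ι F)) hφv ∈ H := by
    rw [heq]; exact H.mul_mem (H.mul_mem (H.inv_mem hg) hmem) hg
  have h3 := (S.hH v hv _ hφv).mp hmem2
  have h4 := dot_eq_zero_of_mem_span_pair hx hφv h3
  rw [Matrix.dotProduct_mulVec]; exact h4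

lemma lin_smul (S : LineSys H u) {c : F} (hc : c ≠ 0) {v : ι → F} (hv : v ≠ 0) {x : ι → F}
    (hx : x ∈ Lin u v) : x ∈ Lin u (c • v) := by
  apply mem_span_pair_of_dot
  intro φ h1 h2
  have hcv : c • v ≠ 0 := smul_ne_zero hc hv
  have hφv : φ ⬝ᵥ v = 0 := by
    rw [dotProduct_smul, smul_eq_mul] at h1
    rcases mul_eq_zero.mp h1 with h | h
    · exact absurd h hc
    · exact h
  have hmem : tv (c • v) φ h1 ∈ H := (S.hH _ hcv φ h1).mpr h2
  have hcφ : (c • φ) ⬝ᵥ v = 0 := by rw [smul_dotProduct, hφv, smul_zero]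
  have heq : tv (c • v) φ h1 = tv v (c • φ) hcφ := by
    apply Subtype.ext
    simp only [coe_tv]
    exact tvM_smul_left c v φ
  rw [heq] at hmem
  have h3 := (S.hH v hv _ hcφ).mp hmem
  rw [smul_dotProduct, smul_eq_mul] at h3
  have h4 : φ ⬝ᵥ u v = 0 := by
    rcases mul_eq_zero.mp h3 with h | h
    · exact absurd h hc
    · exact h
  exact dot_eq_zero_of_mem_span_pair hx hφv h4

lemma core (S : LineSys H u) {v v' : ι → F} (hv : v ≠ 0) (hv' : v' ≠ 0)
    (h1 : v' ∉ Lin u v) (h2 : v ∉ Lin u v') :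
    ∃ z : ι → F, z ∉ Submodule.span F {v, v'} ∧
      (∀ a b : F, (a ≠ 0 ∨ b ≠ 0) → z ∈ Lin u (a • v + b • v')) := by
  obtain ⟨φ₀, hφ₀, hφ₀v⟩ := exists_dot_sep (Lin u v') v h2
  have hφ₀v' : φ₀ ⬝ᵥ v' = 0 := hφ₀ v' (self_mem_Lin u v')
  have hφ₀u : φ₀ ⬝ᵥ u v' = 0 := hφ₀ _ (u_mem_Lin u v')
  have claim1 : ∀ φ' : ι → F, φ' ⬝ᵥ v' = 0 → φ' ⬝ᵥ u v' = 0 → ∀ x ∈ Lin u v,
      x + (φ' ⬝ᵥ x) • v' ∈ Lin u (v + (φ' ⬝ᵥ v) • v') := by
    intro φ' hφ'1 hφ'2 x hx
    have hmem : tv v' φ' hφ'1 ∈ H := (S.hH v' hv' φ' hφ'1).mpr hφ'2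
    have := lin_map S hmem hv hx
    rwa [coe_tv, tvM_mulVec, tvM_mulVec] at this
  have claim2 : ∀ ψ : ι → F, ψ ⬝ᵥ v' = 0 → ψ ⬝ᵥ u v' = 0 → ψ ⬝ᵥ v = 0 → ψ ⬝ᵥ u v = 0 := by
    intro ψ h1' h2' h3'
    have huv : u v ∈ Lin u v := u_mem_Lin u v
    have h4 := claim1 ψ h1' h2' (u v) huv
    rw [h3', zero_smul, add_zero] at h4
    by_contra hne
    apply h1
    have h5 : (ψ ⬝ᵥ u v) • v' ∈ Lin u v := by
      have := (Lin u v).sub_mem h4 huv
      simpa using this
    have := (Lin u v).smul_mem (ψ ⬝ᵥ u v)⁻¹ h5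
    rwa [smul_smul, inv_mul_cancel₀ hne, one_smul] at this
  set s := φ₀ ⬝ᵥ u v with hs
  set z := u v - s • v with hz
  have hzL : z ∈ Lin u v :=
    (Lin u v).sub_mem (u_mem_Lin u v) ((Lin u v).smul_mem _ (self_mem_Lin u v))
  have hφ₀z : φ₀ ⬝ᵥ z = 0 := by
    rw [hz, dotProduct_sub, dotProduct_smul, hφ₀v, smul_eq_mul, mul_one, sub_self]
  have hindep : ∀ c : F, v + c • v' ≠ 0 := by
    intro c hc
    apply h2
    have : v = (-c) • v' := by
      rw [neg_smul]; exact eq_neg_of_add_eq_zero_left hc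
    rw [this]
    exact (Lin u v').smul_mem _ (self_mem_Lin u v')
  refine ⟨z, ?_, ?_⟩
  · intro hmem
    obtain ⟨a, b, hab⟩ := Submodule.mem_span_pair.mp hmem
    have hb : b = 0 := by
      by_contra hb
      apply h1
      have h5 : b • v' ∈ Lin u v := by
        have : b • v' = z - a • v := by rw [← hab]; abel
        rw [this]
        exact (Lin u v).sub_mem hzL ((Lin u v).smul_mem _ (self_mem_Lin u v))
      have := (Lin u v).smul_mem b⁻¹ h5
      rwa [smul_smul, inv_mul_cancel₀ hb, one_smul] at this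
    apply S.hu v hv
    rw [Submodule.mem_span_singleton]
    refine ⟨a + s, ?_⟩
    rw [hb, zero_smul, add_zero] at hab
    rw [add_smul, hab, hz]; abel
  · intro a b hab
    by_cases ha : a = 0
    · have hb : b ≠ 0 := by
        rcases hab with h | h
        · exact absurd ha h
        · exact h
      have hzL' : z ∈ Lin u v' := by
        apply mem_span_pair_of_dot
        intro φ' h1' h2'
        have hψv : (φ' - (φ' ⬝ᵥ v) • φ₀) ⬝ᵥ v = 0 := by
          rw [sub_dotProduct, smul_dotProduct, hφ₀v, smul_eq_mul, mul_one, sub_self]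
        have hψ := claim2 (φ' - (φ' ⬝ᵥ v) • φ₀)
          (by rw [sub_dotProduct, smul_dotProduct, hφ₀v', h1', smul_zero, sub_zero])
          (by rw [sub_dotProduct, smul_dotProduct, hφ₀u, h2', smul_zero, sub_zero]) hψv
        have hψz := dot_eq_zero_of_mem_span_pair hzL hψv hψ
        have : φ' ⬝ᵥ z = (φ' - (φ' ⬝ᵥ v) • φ₀) ⬝ᵥ z + (φ' ⬝ᵥ v) * (φ₀ ⬝ᵥ z) := by
          rw [sub_dotProduct, smul_dotProduct, smul_eq_mul]; ring
        rw [this, hψz, hφ₀z, mul_zero, add_zero]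
      rw [ha, zero_smul, zero_add]
      exact lin_smul S hb hv' hzL'
    · have h6 := claim1 ((b / a) • φ₀) (by rw [smul_dotProduct, hφ₀v', smul_zero])
        (by rw [smul_dotProduct, hφ₀u, smul_zero]) z hzL
      simp only [smul_dotProduct, hφ₀z, hφ₀v, zero_smul, add_zero, smul_eq_mul,
        mul_one, mul_zero] at h6
      have := lin_smul S ha (hindep (b / a)) h6
      rwa [smul_add, smul_smul, mul_div_cancel₀ b ha] at this

lemma card_span_pair [Fintype F] (x y : ι → F) (hx : x ≠ 0) (hy : y ∉ Submodule.span F {x})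
    [DecidablePred (fun w : ι → F => w ∈ Submodule.span F {x, y})] :
    (Finset.univ.filter (fun w : ι → F => w ∈ Submodule.span F {x, y})).card
      = Fintype.card F ^ 2 := by
  classical
  have himg : Finset.univ.filter (fun w : ι → F => w ∈ Submodule.span F {x, y}) =
      Finset.univ.image (fun p : F × F => p.1 • x + p.2 • y) := by
    ext w
    simp only [Finset.mem_filter, Finset.mem_univ, true_and, Finset.mem_image,
      Submodule.mem_span_pair, Prod.exists]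
  rw [himg, Finset.card_image_of_injective, Finset.card_univ, Fintype.card_prod, sq]
  rintro ⟨a, b⟩ ⟨a', b'⟩ hab
  simp only at hab
  have hb : b = b' := by
    by_contra hb
    apply hy
    rw [Submodule.mem_span_singleton]
    refine ⟨(b' - b)⁻¹ * (a - a'), ?_⟩
    have hb' : b' - b ≠ 0 := sub_ne_zero.mpr (Ne.symm hb)
    have h1 : (a - a') • x = (b' - b) • y := by
      rw [sub_smul, sub_smul, sub_eq_sub_iff_add_eq_add, hab, add_comm]
    rw [mul_smul, h1, smul_smul, inv_mul_cancel₀ hb', one_smul]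
  subst hb
  have ha : a = a' := by
    have h1 : (a - a') • x = 0 := by
      rw [sub_smul, sub_eq_zero]; exact add_right_cancel hab
    rcases smul_eq_zero.mp h1 with h | h
    · exact sub_eq_zero.mp h
    · exact absurd h hx
  rw [ha]

lemma card_A_le [Fintype F] (S : LineSys H u) {z z' : ι → F} (hz : z ≠ 0) (hz' : z' ≠ 0)
    [DecidablePred (fun v : ι → F => v ≠ 0 ∧ z ∈ Lin u v)]
    [DecidablePred (fun v : ι → F => v ≠ 0 ∧ z' ∈ Lin u v)] :
    (Finset.univ.filter (fun v : ι → F => v ≠ 0 ∧ z ∈ Lin u v)).card ≤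
    (Finset.univ.filter (fun v : ι → F => v ≠ 0 ∧ z' ∈ Lin u v)).card := by
  classical
  obtain ⟨h, hh, c, hc⟩ := S.htrans z z' hz hz'
  have hc0 : c ≠ 0 := by
    rintro rfl
    rw [zero_smul] at hc
    exact sl_mulVec_ne_zero h hz hc
  apply Finset.card_le_card_of_injOn (fun v => (h : Matrix ι ι F) *ᵥ v)
  · intro v hv
    simp only [Finset.coe_filter, Finset.mem_univ, true_and, Set.mem_ofPred_eq] at hv ⊢
    refine ⟨sl_mulVec_ne_zero h hv.1, ?_⟩
    have h1 := lin_map S hh hv.1 hv.2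
    rw [hc] at h1
    have := (Lin u _).smul_mem c⁻¹ h1
    rwa [smul_smul, inv_mul_cancel₀ hc0, one_smul] at this
  · intro v _ w _ hvw
    have := congrArg (fun x => ((h⁻¹ : SpecialLinearGroup ι F) : Matrix ι ι F) *ᵥ x) hvw
    simp only [sl_inv_mulVec] at this
    exact this

/-- K20: there is no `H`-invariant "line system". -/
theorem K20_no_line_system [Fintype F] (hn : 3 ≤ Fintype.card ι)
    (H : Subgroup (SpecialLinearGroup ι F))
    (htrans : ∀ v w : ι → F, v ≠ 0 → w ≠ 0 →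
      ∃ h ∈ H, ∃ c : F, (h : Matrix ι ι F) *ᵥ v = c • w)
    (u : (ι → F) → (ι → F))
    (hu : ∀ v, v ≠ 0 → u v ∉ Submodule.span F {v})
    (hH : ∀ v, v ≠ 0 → ∀ (φ : ι → F) (h : φ ⬝ᵥ v = 0), tv v φ h ∈ H ↔ φ ⬝ᵥ u v = 0) :
    False := by
  classical
  have S : LineSys H u := ⟨htrans, hu, hH⟩
  obtain ⟨q, hq⟩ : ∃ q : ℕ, q = Fintype.card F := ⟨_, rfl⟩
  have hq2 : 2 ≤ q := hq ▸ Fintype.one_lt_card
  have hcsp : ∀ x y : ι → F, x ≠ 0 → y ∉ Submodule.span F {x} →
      (Finset.univ.filter (fun w : ι → F => w ∈ Submodule.span F {x, y})).card = q ^ 2 := by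
    intro x y hx hy
    rw [hq]; exact card_span_pair x y hx hy
  have hqq : 0 < q ^ 2 := by positivity
  let A : (ι → F) → Finset (ι → F) :=
    fun z => Finset.univ.filter (fun v => v ≠ 0 ∧ z ∈ Lin u v)
  let B : (ι → F) → Finset (ι → F) :=
    fun v => Finset.univ.filter (fun z => z ≠ 0 ∧ z ∈ Lin u v)
  let nz : Finset (ι → F) := Finset.univ.filter (fun v => v ≠ 0)
  have hB : ∀ v, v ≠ 0 → (B v).card = q ^ 2 - 1 := by
    intro v hv
    have h1 : (Finset.univ.filter (fun w : ι → F => w ∈ Lin u v)).card = q ^ 2 :=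
      hcsp v (u v) hv (S.hu v hv)
    have h2 : B v =
        (Finset.univ.filter (fun w : ι → F => w ∈ Lin u v)).erase 0 := by
      ext w
      simp only [B, Finset.mem_filter, Finset.mem_univ, true_and, Finset.mem_erase]
    rw [h2, Finset.card_erase_of_mem (by simp), h1]
  obtain ⟨i₀⟩ : Nonempty ι := by
    rw [← Fintype.card_pos_iff]; omega
  have hv₀ : (Pi.single i₀ (1:F) : ι → F) ≠ 0 := by
    intro h; have := congrFun h i₀; simp at this
  set v₀ : ι → F := Pi.single i₀ 1 with hv₀def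
  have hAconst : ∀ z, z ≠ 0 → (A z).card = (A v₀).card :=
    fun z hz => le_antisymm (card_A_le S hz hv₀) (card_A_le S hv₀ hz)
  have hA' : ∀ z, (A z).card = ∑ v ∈ nz, if z ∈ Lin u v then 1 else 0 := by
    intro z
    rw [← Finset.card_filter]
    congr 1
    ext v; simp [A, nz]
  have hB' : ∀ v, (B v).card = ∑ z ∈ nz, if z ∈ Lin u v then 1 else 0 := by
    intro v
    rw [← Finset.card_filter]
    congr 1
    ext z; simp [B, nz]
  have hdc : ∑ z ∈ nz, (A z).card = ∑ v ∈ nz, (B v).card := by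
    simp_rw [hA', hB']
    exact Finset.sum_comm
  have hsumA : ∑ z ∈ nz, (A z).card = nz.card * (A v₀).card := by
    rw [Finset.sum_congr rfl (fun z hz => hAconst z (by simpa [nz] using hz)),
      Finset.sum_const, smul_eq_mul]
  have hsumB : ∑ v ∈ nz, (B v).card = nz.card * (q ^ 2 - 1) := by
    rw [Finset.sum_congr rfl (fun v hv => hB v (by simpa [nz] using hv)),
      Finset.sum_const, smul_eq_mul]
  have hnzpos : 0 < nz.card := Finset.card_pos.mpr ⟨v₀, by simp [nz, hv₀]⟩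
  have ha : (A v₀).card = q ^ 2 - 1 := by
    have := hdc
    rw [hsumA, hsumB] at this
    exact Nat.eq_of_mul_eq_mul_left hnzpos this
  have hex : ∃ v' : ι → F, v' ∉ Lin u v₀ ∧ ¬ (v' ≠ 0 ∧ v₀ ∈ Lin u v') := by
    by_contra hcon
    push Not at hcon
    have hsub : (Finset.univ : Finset (ι → F)) ⊆
        (Finset.univ.filter (fun w : ι → F => w ∈ Submodule.span F {v₀, u v₀})) ∪ A v₀ := by
      intro w _
      by_cases hw : w ∈ Lin u v₀
      · exact Finset.mem_union_left _ (by simpa [Lin] using hw)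
      · exact Finset.mem_union_right _ (by simpa [A] using hcon w hw)
    have h1 := Finset.card_le_card hsub
    have h2 := Finset.card_union_le
      (Finset.univ.filter (fun w : ι → F => w ∈ Submodule.span F {v₀, u v₀})) (A v₀)
    rw [hcsp v₀ (u v₀) hv₀ (S.hu v₀ hv₀), ha] at h2
    have hcardV : (Finset.univ : Finset (ι → F)).card = q ^ Fintype.card ι := by
      rw [Finset.card_univ, Fintype.card_fun, hq]
    rw [hcardV] at h1
    have h3 : q ^ 3 ≤ q ^ Fintype.card ι := Nat.pow_le_pow_right (by omega) hn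
    have h4 : 2 * q ^ 2 ≤ q ^ 3 := by nlinarith
    omega
  obtain ⟨v', hv'1, hv'2⟩ := hex
  have hv'0 : v' ≠ 0 := fun h => hv'1 (h ▸ (Lin u v₀).zero_mem)
  have hv'3 : v₀ ∉ Lin u v' := fun h => hv'2 ⟨hv'0, h⟩
  obtain ⟨z, hz1, hz2⟩ := core S hv₀ hv'0 hv'1 hv'3
  have hz0 : z ≠ 0 := fun h => hz1 (h ▸ Submodule.zero_mem _)
  have hv'span : v' ∉ Submodule.span F {v₀} :=
    fun h => hv'1 (Submodule.span_mono (by simp) h)
  have hcardS := hcsp v₀ v' hv₀ hv'span
  set Sset := Finset.univ.filter (fun w : ι → F => w ∈ Submodule.span F {v₀, v'}) with hSset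
  have hzS : z ∉ Sset := by simpa [Sset] using hz1
  have hTsub : insert z (Sset.erase 0) ⊆ A z := by
    intro w hw
    rw [Finset.mem_insert] at hw
    rcases hw with rfl | hw
    · simp only [A, Finset.mem_filter, Finset.mem_univ, true_and]
      exact ⟨hz0, self_mem_Lin u _⟩
    · rw [Finset.mem_erase] at hw
      obtain ⟨hw0, hwS⟩ := hw
      simp only [Sset, Finset.mem_filter, Finset.mem_univ, true_and] at hwS
      obtain ⟨a, b, rfl⟩ := Submodule.mem_span_pair.mp hwS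
      have hab : a ≠ 0 ∨ b ≠ 0 := by
        by_contra h
        push Not at h
        apply hw0
        rw [h.1, h.2]; simp
      simp only [A, Finset.mem_filter, Finset.mem_univ, true_and]
      exact ⟨hw0, hz2 a b hab⟩
  have hcardT : (insert z (Sset.erase 0)).card = q ^ 2 := by
    rw [Finset.card_insert_of_notMem (fun h => hzS (Finset.mem_of_mem_erase h)),
      Finset.card_erase_of_mem (by simp [Sset]), hcardS]
    omega
  have hfin := Finset.card_le_card hTsub
  rw [hcardT] at hfin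
  have h7 : (A z).card = q ^ 2 - 1 := by rw [hAconst z hz0, ha]
  rw [h7] at hfin
  omega

end Cfsg.Agent.Lib.Helper39.MinIdx
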