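import Mathlib
import Cfsg.Prelude.Def_GeometricClasses
import Cfsg.Agent.Lib.Helper36.SLMaxD2
import Cfsg.Agent.Lib.Helper66.SLMaxX8
import Cfsg.Agent.Lib.Helper46.AschOBasic

/-!
# K-OPlus10-X9c (helper39): `q = 4`, decomposition into hyperbolic planes lies in a subfield group over `F₂`

In a hyperbolic plane `⟨e, f⟩` over `F₄` (`Q (a e + b f) = a b`) the vectors of norm `1` are `e + f`, `ω e + ω² f`, `ω² e + ω f`; with
`0` they form an `F₂`-plane on which `Q` takes values in `F₂`.  The sum `V₀` of these planes is an `F₂`-form of the space preserved by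
every isometry permuting the planes.
-/

set_option autoImplicit false
set_option linter.unusedSectionVars false
set_option linter.unusedVariables false
set_option linter.style.haveILetI false

namespace Cfsg.Agent.Lib.Helper39.OPlus10

open Cfsg Cfsg.Geo Cfsg.Agent.Lib.Helper46.AschO
open Cfsg.Agent.Lib.Helper66.SLMax (F2 mem_F2 card_F2 two_eq_zero_of_card_four pow_four_of_card_four)
open scoped Matrix MatrixGroups

section field
variable {F : Type*} [Field F] [Fintype F]

/-- a primitive cube root of unity in the field with four elements -/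
theorem exists_omega (hq : Fintype.card F = 4) : ∃ ω : F, ω ^ 2 = ω + 1 := by
  have h2 := two_eq_zero_of_card_four hq
  have hne : ∃ x : F, x ^ 2 ≠ x := by
    by_contra hcon
    push Not at hcon
    have htop : F2 h2 = ⊤ := by
      rw [eq_top_iff]
      intro x _
      exact hcon x
    have hc := card_F2 (F := F) h2
    rw [htop] at hc
    have hc' : Nat.card (⊤ : Subfield F) = Nat.card F := Nat.card_congr (Subfield.topEquiv (K := F)).toEquiv
    rw [hc', Nat.card_eq_fintype_card, hq] at hc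
    omega
  obtain ⟨x, hx⟩ := hne
  have h4 := pow_four_of_card_four hq x
  have hy : (x ^ 2 + x) * (x ^ 2 + x + 1) = 0 := by
    linear_combination h4 + (x ^ 3 + x ^ 2 + x) * h2
  rcases mul_eq_zero.1 hy with h | h
  · exfalso
    apply hx
    linear_combination h - x * h2
  · refine ⟨x, ?_⟩
    linear_combination h - (x + 1) * h2

theorem cases_of_card_four (hq : Fintype.card F = 4) (ω : F) (hω : ω ^ 2 = ω + 1) (a : F) :
    a = 0 ∨ a = 1 ∨ a = ω ∨ a = ω + 1 := by
  have h2 := two_eq_zero_of_card_four hq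
  have h4 := pow_four_of_card_four hq a
  have hprod : a * ((a - 1) * ((a - ω) * (a - (ω + 1)))) = 0 := by
    linear_combination h4 + (a ^ 2 - a) * hω + (- a ^ 3 * (ω + 1) + a ^ 2 * (2 * ω + 1) - a * ω) * h2
  rcases mul_eq_zero.1 hprod with h | h
  · exact Or.inl h
  rcases mul_eq_zero.1 h with h | h
  · exact Or.inr (Or.inl (sub_eq_zero.1 h))
  rcases mul_eq_zero.1 h with h | h
  · exact Or.inr (Or.inr (Or.inl (sub_eq_zero.1 h)))
  · exact Or.inr (Or.inr (Or.inr (sub_eq_zero.1 h)))

end field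

section quad
variable {F : Type*} [Field F] [Fintype F] {n : ℕ}

local notation "V" => (Fin n → F)

theorem Q_add (Q : V → F) (x y : V) : Q (x + y) = Q x + Q y + QuadraticMap.polar Q x y := by
  unfold QuadraticMap.polar
  ring

theorem Q_zero {Q : V → F} (hQ : IsNondegenerateQuadraticForm Q) : Q 0 = 0 := by
  have := hQ.smul 0 0
  simpa using this

theorem polar_zero_left {Q : V → F} (hQ : IsNondegenerateQuadraticForm Q) (y : V) :
    QuadraticMap.polar Q 0 y = 0 := by
  have := hQ.polar_bilinear.smul_left 0 0 y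
  simpa using this

theorem polar_self {Q : V → F} (hQ : IsNondegenerateQuadraticForm Q) (h2 : (2 : F) = 0) (x : V) :
    QuadraticMap.polar Q x x = 0 := by
  rw [← two_mul_Q hQ, h2, zero_mul]

theorem Q_comb {Q : V → F} (hQ : IsNondegenerateQuadraticForm Q) (a b : F) (x y : V) :
    Q (a • x + b • y) = a ^ 2 * Q x + b ^ 2 * Q y + a * b * QuadraticMap.polar Q x y := by
  rw [Q_add Q, hQ.smul, hQ.smul, hQ.polar_bilinear.smul_left, hQ.polar_bilinear.smul_right]
  ring

theorem polar_comb_left {Q : V → F} (hQ : IsNondegenerateQuadraticForm Q) (a b : F) (x y z : V) :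
    QuadraticMap.polar Q (a • x + b • y) z = a * QuadraticMap.polar Q x z + b * QuadraticMap.polar Q y z := by
  rw [hQ.polar_bilinear.add_left, hQ.polar_bilinear.smul_left, hQ.polar_bilinear.smul_left]

/-- a hyperbolic pair spanning a plane of plus type (characteristic 2) -/
theorem exists_hyp_pair (h2 : (2 : F) = 0) (Q : V → F) (hQ : IsNondegenerateQuadraticForm Q)
    (W : Submodule F V) (hfr : Module.finrank F W = 2)
    (hnd : IsNondegenerateOn (QuadraticMap.polar Q) W) (hplus : IsPlusTypeOn Q W) :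
    ∃ e ∈ W, ∃ f ∈ W, Q e = 0 ∧ Q f = 0 ∧ QuadraticMap.polar Q e f = 1 ∧
      ∀ w ∈ W, ∃ a b : F, w = a • e + b • f := by
  obtain ⟨U, hUW, hUs, hUd⟩ := hplus
  have hU1 : Module.finrank F U = 1 := by omega
  obtain ⟨e, he, he0⟩ : ∃ e ∈ U, e ≠ 0 := by
    have hne : U ≠ ⊥ := by
      intro h
      rw [h, finrank_bot] at hU1
      omega
    exact (Submodule.ne_bot_iff U).1 hne
  have heW := hUW he
  have hQe := hUs e he
  obtain ⟨⟨x, hxW, hx⟩, _⟩ := hnd e heW he0
  have hx'e : QuadraticMap.polar Q ((QuadraticMap.polar Q x e)⁻¹ • x) e = 1 := by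
    rw [hQ.polar_bilinear.smul_left, inv_mul_cancel₀ hx]
  obtain ⟨x', hx'W, hx'e⟩ : ∃ x' ∈ W, QuadraticMap.polar Q x' e = 1 :=
    ⟨_, W.smul_mem _ hxW, hx'e⟩
  have hpee : QuadraticMap.polar Q e e = 0 := polar_self hQ h2 e
  have hfW : x' + Q x' • e ∈ W := W.add_mem hx'W (W.smul_mem _ heW)
  have hfe : QuadraticMap.polar Q (x' + Q x' • e) e = 1 := by
    rw [hQ.polar_bilinear.add_left, hQ.polar_bilinear.smul_left, hx'e, hpee, mul_zero, add_zero]
  have hef : QuadraticMap.polar Q e (x' + Q x' • e) = 1 := by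
    rw [QuadraticMap.polar_comm]
    exact hfe
  have hQf : Q (x' + Q x' • e) = 0 := by
    rw [Q_add Q, hQ.smul, hQe, hQ.polar_bilinear.smul_right, hx'e]
    linear_combination Q x' * h2
  have hpff : QuadraticMap.polar Q (x' + Q x' • e) (x' + Q x' • e) = 0 := polar_self hQ h2 _
  refine ⟨e, heW, x' + Q x' • e, hfW, hQe, hQf, hef, ?_⟩
  set f := x' + Q x' • e with hf
  have hli : LinearIndependent F ![e, f] := by
    rw [LinearIndependent.pair_iff]
    intro s t hst
    have h1 : QuadraticMap.polar Q (s • e + t • f) f = 0 := by rw [hst, polar_zero_left hQ]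
    have h3 : QuadraticMap.polar Q (s • e + t • f) e = 0 := by rw [hst, polar_zero_left hQ]
    rw [polar_comb_left hQ, hef, hpff] at h1
    rw [polar_comb_left hQ, hpee, hfe] at h3
    constructor
    · linear_combination h1
    · linear_combination h3
  have hspan_le : Submodule.span F (Set.range ![e, f]) ≤ W := by
    rw [Submodule.span_le]
    rintro _ ⟨i, rfl⟩
    fin_cases i
    · exact heW
    · exact hfW
  have hfr' : Module.finrank F (Submodule.span F (Set.range ![e, f])) = 2 := by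
    rw [finrank_span_eq_card hli]
    simp
  have heq := Submodule.eq_of_le_of_finrank_eq hspan_le (by rw [hfr', hfr])
  intro w hw
  rw [← heq] at hw
  rw [Submodule.mem_span_range_iff_exists_fun] at hw
  obtain ⟨c, hc⟩ := hw
  refine ⟨c 0, c 1, ?_⟩
  rw [← hc, Fin.sum_univ_two]
  rfl

theorem polar_sum_right {Q : V → F} (hQ : IsNondegenerateQuadraticForm Q) {κ : Type*} (s : Finset κ) (x : V)
    (w : κ → V) : QuadraticMap.polar Q x (∑ i ∈ s, w i) = ∑ i ∈ s, QuadraticMap.polar Q x (w i) := by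
  classical
  induction s using Finset.induction_on with
  | empty =>
    rw [Finset.sum_empty, Finset.sum_empty, QuadraticMap.polar_comm, polar_zero_left hQ]
  | insert a s ha ih =>
    rw [Finset.sum_insert ha, Finset.sum_insert ha, hQ.polar_bilinear.add_right, ih]

theorem Q_sum_orth {Q : V → F} (hQ : IsNondegenerateQuadraticForm Q) {κ : Type*} (s : Finset κ) (w : κ → V)
    (horth : ∀ i ∈ s, ∀ j ∈ s, i ≠ j → QuadraticMap.polar Q (w i) (w j) = 0) :
    Q (∑ i ∈ s, w i) = ∑ i ∈ s, Q (w i) := by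
  classical
  induction s using Finset.induction_on with
  | empty => rw [Finset.sum_empty, Finset.sum_empty, Q_zero hQ]
  | insert a s ha ih =>
    rw [Finset.sum_insert ha, Finset.sum_insert ha, Q_add Q, polar_sum_right hQ,
      ih (fun i hi j hj hij => horth i (Finset.mem_insert_of_mem hi) j (Finset.mem_insert_of_mem hj) hij)]
    have hz : ∑ j ∈ s, QuadraticMap.polar Q (w a) (w j) = 0 := by
      apply Finset.sum_eq_zero
      intro j hj
      apply horth a (Finset.mem_insert_self a s) j (Finset.mem_insert_of_mem hj)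
      rintro rfl
      exact ha hj
    rw [hz, add_zero]

/-- membership in a subfield subgroup from a matrix relation (any dimension; after `Helper66.SLMax.mem_subfieldSubgroup_of_rel`) -/
theorem mem_subfieldSubgroup_of_rel_gen (F₀ : Subfield F) (P g : GL (Fin n) F)
    (N : Matrix (Fin n) (Fin n) F) (hN : ∀ i j, N i j ∈ F₀)
    (h : g.1 * P.1 = P.1 * N) : g ∈ subfieldSubgroup F₀ P := by
  classical
  have hPinv : (P⁻¹).1 * P.1 = 1 := by rw [← Units.val_mul, inv_mul_cancel, Units.val_one]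
  have hNeq : N = ((P⁻¹ * g * P : GL (Fin n) F)).1 := by
    calc N = (P⁻¹).1 * (P.1 * N) := by rw [← mul_assoc, hPinv, one_mul]
      _ = (P⁻¹).1 * (g.1 * P.1) := by rw [h]
      _ = ((P⁻¹ * g * P : GL (Fin n) F)).1 := by
          rw [Units.val_mul, Units.val_mul, mul_assoc]
  let M : GL (Fin n) F := P⁻¹ * g * P
  have hdetM : M.1.det ≠ 0 := IsUnit.ne_zero ((Matrix.isUnit_iff_isUnit_det _).mp M.isUnit)
  have hdetN : N.det ≠ 0 := by
    rw [hNeq]
    exact hdetM
  let N₀ : Matrix (Fin n) (Fin n) F₀ := fun i j => ⟨N i j, hN i j⟩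
  have hmap : (F₀.subtype).mapMatrix N₀ = N := by ext i j; rfl
  have hdet0 : N₀.det ≠ 0 := by
    intro h0
    apply hdetN
    rw [← hmap, ← RingHom.map_det, h0, map_zero]
  let g₀ : Matrix.GeneralLinearGroup (Fin n) F₀ := Matrix.GeneralLinearGroup.mkOfDetNeZero N₀ hdet0
  let k₁ : GL (Fin n) F := Matrix.GeneralLinearGroup.map F₀.subtype g₀
  have hk₁ : k₁.1 = N := by
    ext i j
    rw [Matrix.GeneralLinearGroup.map_apply]
    rfl
  have hks : k₁ = M := by
    apply Units.ext
    rw [hk₁, hNeq]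
  have hk : k₁ ∈ (Matrix.GeneralLinearGroup.map (F₀.subtype : F₀ →+* F)).range ⊔
      Cfsg.Geo.scalars (Fin n) F :=
    Subgroup.mem_sup_left ⟨g₀, rfl⟩
  refine ⟨k₁, hk, ?_⟩
  rw [hks]
  show MulAut.conj P M = g
  rw [MulAut.conj_apply]
  simp only [M]
  group

end quad

section main
variable {F : Type*} [Field F] [Fintype F] {n : ℕ}

local notation "V" => (Fin n → F)

/-- the vectors `e + f` and `ω e + ω² f` of the `i`-th plane -/
def bvec (ω : F) {t : ℕ} (e f : Fin t → V) (p : Fin t × Fin 2) : V :=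
  if p.2 = 0 then e p.1 + f p.1 else ω • e p.1 + (ω + 1) • f p.1

theorem bvec_zero (ω : F) {t : ℕ} (e f : Fin t → V) (i : Fin t) : bvec ω e f (i, 0) = e i + f i := by
  simp [bvec]

theorem bvec_one (ω : F) {t : ℕ} (e f : Fin t → V) (i : Fin t) :
    bvec ω e f (i, 1) = ω • e i + (ω + 1) • f i := by
  simp [bvec]

/-- the matrix with columns `bvec` -/
def Pmat (ω : F) {t : ℕ} (e f : Fin t → V) (φ : Fin n ≃ Fin t × Fin 2) : Matrix (Fin n) (Fin n) F :=
  Matrix.of fun r j => bvec ω e f (φ j) r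

theorem Pmat_mulVec (ω : F) {t : ℕ} (e f : Fin t → V) (φ : Fin n ≃ Fin t × Fin 2) (u : V) :
    Pmat ω e f φ *ᵥ u =
      ∑ i : Fin t, (u (φ.symm (i, 0)) • bvec ω e f (i, 0) + u (φ.symm (i, 1)) • bvec ω e f (i, 1)) := by
  funext r
  simp only [Matrix.mulVec, dotProduct, Pmat, Matrix.of_apply, Finset.sum_apply, Pi.add_apply, Pi.smul_apply,
    smul_eq_mul]
  rw [← Equiv.sum_comp φ.symm, Fintype.sum_prod_type]
  apply Finset.sum_congr rfl
  intro i _
  rw [Fin.sum_univ_two]
  simp only [Equiv.apply_symm_apply]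
  ring

theorem Pmat_mulVec_single (ω : F) {t : ℕ} (e f : Fin t → V) (φ : Fin n ≃ Fin t × Fin 2) (p : Fin t × Fin 2) :
    Pmat ω e f φ *ᵥ Pi.single (φ.symm p) 1 = bvec ω e f p := by
  rw [Matrix.mulVec_single_one]
  funext r
  simp [Pmat]

/-- **K-OPlus10-X9c.** -/
theorem planes_four (hq : Fintype.card F = 4) (Q : (Fin n → F) → F) (hQ : IsNondegenerateQuadraticForm Q) {t : ℕ}
    (D : Fin t → Submodule F (Fin n → F)) (hD : IsOrthogonalMDecomposition Q 2 D) (hplus : ∀ i, IsPlusTypeOn Q (D i)) :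
    ∃ (F₀ : Subfield F) (P : GL (Fin n) F), Nat.card F₀ = 2 ∧
      IsQuadFormRationalStructure (fun v : Fin n → F => (1 : F) * Q v) F₀ P ∧
      decompositionStabilizer D ⊓ isometryGroup F Q ≤ subfieldSubgroup F₀ P := by
  classical
  have h2 := two_eq_zero_of_card_four hq
  obtain ⟨ω, hω⟩ := exists_omega hq
  have hdec : IsMDecomposition 2 D := hD.decomp.decomp
  have hn : t * 2 = n := Cfsg.Agent.Lib.Helper36.SLMax.mul_eq_of_isMDecomposition D hdec
  have hpair : ∀ i, ∃ e ∈ D i, ∃ f ∈ D i, Q e = 0 ∧ Q f = 0 ∧ QuadraticMap.polar Q e f = 1 ∧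
      ∀ w ∈ D i, ∃ a b : F, w = a • e + b • f :=
    fun i => exists_hyp_pair h2 Q hQ (D i) (hdec.finrank_eq i) (hD.decomp.nondegenerate i) (hplus i)
  choose e heD f hfD hQe hQf hef hspan using hpair
  let φ : Fin n ≃ Fin t × Fin 2 := (finCongr hn.symm).trans finProdFinEquiv.symm
  have hfe : ∀ i, QuadraticMap.polar Q (f i) (e i) = 1 := fun i => by
    rw [QuadraticMap.polar_comm]; exact hef i
  have hee : ∀ i, QuadraticMap.polar Q (e i) (e i) = 0 := fun i => polar_self hQ h2 _
  have hff : ∀ i, QuadraticMap.polar Q (f i) (f i) = 0 := fun i => polar_self hQ h2 _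
  -- the basic vectors
  have hb0 : ∀ i, bvec ω e f (i, 0) = (1 : F) • e i + (1 : F) • f i := fun i => by
    rw [bvec_zero, one_smul, one_smul]
  have hbD : ∀ p : Fin t × Fin 2, bvec ω e f p ∈ D p.1 := by
    rintro ⟨i, k⟩
    fin_cases k
    · show bvec ω e f (i, 0) ∈ D i
      rw [bvec_zero]
      exact (D i).add_mem (heD i) (hfD i)
    · show bvec ω e f (i, 1) ∈ D i
      rw [bvec_one]
      exact (D i).add_mem ((D i).smul_mem _ (heD i)) ((D i).smul_mem _ (hfD i))
  have hQb0 : ∀ i, Q (bvec ω e f (i, 0)) = 1 := fun i => by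
    rw [hb0, Q_comb hQ, hQe, hQf, hef]; ring
  have hQb1 : ∀ i, Q (bvec ω e f (i, 1)) = 1 := fun i => by
    rw [bvec_one, Q_comb hQ, hQe, hQf, hef]
    linear_combination hω + ω * h2
  have hb01 : ∀ i, QuadraticMap.polar Q (bvec ω e f (i, 0)) (bvec ω e f (i, 1)) = 1 := fun i => by
    rw [hb0, bvec_one, polar_comb_left hQ, hQ.polar_bilinear.add_right, hQ.polar_bilinear.add_right,
      hQ.polar_bilinear.smul_right, hQ.polar_bilinear.smul_right, hQ.polar_bilinear.smul_right,
      hQ.polar_bilinear.smul_right, hee, hff, hef, hfe]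
    linear_combination ω * h2
  have he_eq : ∀ i, e i = (ω + 1) • bvec ω e f (i, 0) + bvec ω e f (i, 1) := fun i => by
    rw [bvec_zero, bvec_one]
    have : (ω + 1) • (e i + f i) + (ω • e i + (ω + 1) • f i) = e i + ((2 : F) * ω) • e i + ((2 : F) * (ω + 1)) • f i := by
      module
    rw [this, h2, zero_mul, zero_mul, zero_smul, zero_smul, add_zero, add_zero]
  have hf_eq : ∀ i, f i = ω • bvec ω e f (i, 0) + bvec ω e f (i, 1) := fun i => by
    rw [bvec_zero, bvec_one]
    have : ω • (e i + f i) + (ω • e i + (ω + 1) • f i) = f i + ((2 : F) * ω) • e i + ((2 : F) * ω) • f i := by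
      module
    rw [this, h2, zero_mul, zero_smul, zero_smul, add_zero, add_zero]
  -- vectors of norm one
  have hnorm1 : ∀ i, ∀ w ∈ D i, Q w = 1 →
      w = bvec ω e f (i, 0) ∨ w = bvec ω e f (i, 1) ∨ w = bvec ω e f (i, 0) + bvec ω e f (i, 1) := by
    intro i w hw hQw
    obtain ⟨a, b, rfl⟩ := hspan i w hw
    rw [Q_comb hQ, hQe, hQf, hef] at hQw
    have hab : a * b = 1 := by linear_combination hQw
    rcases cases_of_card_four hq ω hω a with ha | ha | ha | ha
    · rw [ha, zero_mul] at hab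
      exact absurd hab zero_ne_one
    · left
      have hb : b = 1 := by rw [ha, one_mul] at hab; exact hab
      rw [ha, hb, hb0]
    · right; left
      have hb : b = ω + 1 := by
        have : b = (ω + 1) * (a * b) - (ω ^ 2 + ω - 1) * b := by rw [ha]; ring
        rw [this, hab, hω]
        linear_combination (-(b * ω)) * h2
      rw [ha, hb, bvec_one]
    · right; right
      have hb : b = ω := by
        have : b = ω * (a * b) - (ω ^ 2 + ω - 1) * b := by rw [ha]; ring
        rw [this, hab, hω]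
        linear_combination (-(b * ω)) * h2
      rw [ha, hb, bvec_zero, bvec_one]
      have : e i + f i + (ω • e i + (ω + 1) • f i) = (ω + 1) • e i + ω • f i + (2 : F) • f i := by
        module
      rw [this, h2, zero_smul, add_zero]
  -- the matrix is invertible
  have hsurj : Function.Surjective (Pmat ω e f φ).mulVec := by
    have hR : LinearMap.range (Matrix.mulVecLin (Pmat ω e f φ)) = ⊤ := by
      rw [eq_top_iff, ← hdec.iSup_eq_top, iSup_le_iff]
      intro i w hw
      have hb : ∀ p, bvec ω e f p ∈ LinearMap.range (Matrix.mulVecLin (Pmat ω e f φ)) := fun p =>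
        ⟨Pi.single (φ.symm p) 1, by rw [Matrix.mulVecLin_apply, Pmat_mulVec_single]⟩
      obtain ⟨a, b, rfl⟩ := hspan i w hw
      rw [he_eq i, hf_eq i]
      exact Submodule.add_mem _
        (Submodule.smul_mem _ _ (Submodule.add_mem _ (Submodule.smul_mem _ _ (hb _)) (hb _)))
        (Submodule.smul_mem _ _ (Submodule.add_mem _ (Submodule.smul_mem _ _ (hb _)) (hb _)))
    intro v
    have hv : v ∈ LinearMap.range (Matrix.mulVecLin (Pmat ω e f φ)) := by rw [hR]; trivial
    obtain ⟨u, hu⟩ := hv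
    exact ⟨u, by rw [← hu, Matrix.mulVecLin_apply]⟩
  have hunit : IsUnit (Pmat ω e f φ) := Matrix.mulVec_surjective_iff_isUnit.1 hsurj
  have hPval : ((hunit.unit : GL (Fin n) F) : Matrix (Fin n) (Fin n) F) = Pmat ω e f φ := IsUnit.unit_spec hunit
  refine ⟨F2 h2, hunit.unit, card_F2 h2, ?_, ?_⟩
  · -- rational structure
    intro u hu
    show (1 : F) * Q ((hunit.unit : GL (Fin n) F).1 *ᵥ u) ∈ F2 h2
    rw [one_mul, hPval, Pmat_mulVec]
    rw [Q_sum_orth hQ]
    · apply Subfield.sum_mem
      intro i _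
      rw [Q_comb hQ, hQb0, hQb1, hb01]
      have h0 := hu (φ.symm (i, 0))
      have h1 := hu (φ.symm (i, 1))
      exact Subfield.add_mem _ (Subfield.add_mem _ (Subfield.mul_mem _ (Subfield.pow_mem _ h0 2) (Subfield.one_mem _))
        (Subfield.mul_mem _ (Subfield.pow_mem _ h1 2) (Subfield.one_mem _)))
        (Subfield.mul_mem _ (Subfield.mul_mem _ h0 h1) (Subfield.one_mem _))
    · intro i _ j _ hij
      apply hD.decomp.orthogonal i j hij
      · exact (D i).add_mem ((D i).smul_mem _ (hbD (i, 0))) ((D i).smul_mem _ (hbD (i, 1)))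
      · exact (D j).add_mem ((D j).smul_mem _ (hbD (j, 0))) ((D j).smul_mem _ (hbD (j, 1)))
  · -- the stabiliser
    intro g hg
    obtain ⟨hgD, hgI⟩ := Subgroup.mem_inf.1 hg
    obtain ⟨σ, hσ⟩ := hgD
    rw [mem_isometryGroup_iff] at hgI
    have h01 : ∀ (j k : Fin n), (Pi.single j (1 : F) : Fin n → F) k ∈ F2 h2 := by
      intro j k
      rw [Pi.single_apply]
      split
      · exact Subfield.one_mem _
      · exact Subfield.zero_mem _
    have hcol : ∀ j : Fin n, ∃ ν : Fin n → F, (∀ k, ν k ∈ F2 h2) ∧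
        (g : Matrix (Fin n) (Fin n) F) *ᵥ bvec ω e f (φ j) = Pmat ω e f φ *ᵥ ν := by
      intro j
      have hmem : (g : Matrix (Fin n) (Fin n) F) *ᵥ bvec ω e f (φ j) ∈ D (σ (φ j).1) := by
        rw [← hσ (φ j).1]
        exact Submodule.mem_map.2 ⟨_, hbD (φ j), by rw [Matrix.toLin'_apply]⟩
      have hQ1 : Q ((g : Matrix (Fin n) (Fin n) F) *ᵥ bvec ω e f (φ j)) = 1 := by
        rw [hgI]
        obtain ⟨i, k⟩ := φ j
        fin_cases k
        · exact hQb0 i
        · exact hQb1 i
      rcases hnorm1 _ _ hmem hQ1 with h | h | h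
      · exact ⟨Pi.single (φ.symm (σ (φ j).1, 0)) 1, h01 _, by rw [h, Pmat_mulVec_single]⟩
      · exact ⟨Pi.single (φ.symm (σ (φ j).1, 1)) 1, h01 _, by rw [h, Pmat_mulVec_single]⟩
      · refine ⟨Pi.single (φ.symm (σ (φ j).1, 0)) 1 + Pi.single (φ.symm (σ (φ j).1, 1)) 1,
          fun k => Subfield.add_mem _ (h01 _ k) (h01 _ k), ?_⟩
        rw [h, Matrix.mulVec_add, Pmat_mulVec_single, Pmat_mulVec_single]
    choose ν hν hgν using hcol
    apply mem_subfieldSubgroup_of_rel_gen (F2 h2) hunit.unit g (Matrix.of fun k j => ν j k)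
    · intro i j
      exact hν j i
    · rw [hPval]
      ext r j
      have := congrFun (hgν j) r
      simpa [Matrix.mul_apply, Matrix.mulVec, dotProduct, Pmat] using this

end main

end Cfsg.Agent.Lib.Helper39.OPlus10
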