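import Cfsg.Agent.Lib.Helper50.SpinorIndex
import Cfsg.Agent.Lib.Helper50.GeoBridge

/-!
# K-OQF-O1 (597703): isometries of odd order lie in `Ω` (odd characteristic, dimension `≥ 2`)
-/

set_option autoImplicit false

namespace Cfsg.Agent.Lib.Helper39.OQF

open Cfsg Cfsg.Geo
open scoped Matrix MatrixGroups

variable {F : Type*} [Field F] {ι : Type} [Fintype ι] [DecidableEq ι]

/-- An element `x` of a group with `x ^ k = 1`, `k` odd, lies in every normal subgroup of index 4. -/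
theorem mem_of_odd_pow_of_index_four {G : Type*} [Group G] (N : Subgroup G) [N.Normal]
    (hN : N.index = 4) (x : G) (k : ℕ) (hk : Odd k) (hx : x ^ k = 1) : x ∈ N := by
  have h4 : x ^ 4 ∈ N := by
    rw [← hN]; exact Subgroup.pow_index_mem N x
  have h1 : ((x : G) : G ⧸ N) ^ k = 1 := by
    rw [← QuotientGroup.mk_pow, hx]; rfl
  have h2 : ((x : G) : G ⧸ N) ^ 4 = 1 := by
    rw [← QuotientGroup.mk_pow]
    exact (QuotientGroup.eq_one_iff _).mpr h4
  have h3 : ((x : G) : G ⧸ N) ^ Nat.gcd k 4 = 1 := pow_gcd_eq_one.mpr ⟨h1, h2⟩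
  have hcop : Nat.gcd k 4 = 1 := by
    have : Nat.Coprime k (2 ^ 2) := Nat.Coprime.pow_right 2 (Nat.coprime_two_right.mpr hk)
    exact this
  rw [hcop, pow_one] at h3
  exact (QuotientGroup.eq_one_iff _).mp h3

theorem mem_omegaGL_of_pow_eq_one [Fintype F] (h2 : (2 : F) ≠ 0) (Q : QuadraticForm F (ι → F))
    (hQ : (QuadraticMap.polarBilin Q).Nondegenerate) (hdim : 2 ≤ Fintype.card ι)
    (g : GL ι F) (hg : g ∈ Cfsg.isometryGroup F (⇑Q)) (k : ℕ) (hk : Odd k) (hgk : g ^ k = 1) :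
    g ∈ omegaGL (⇑Q) := by
  have hidx := Cfsg.Agent.Lib.Helper50.index_commutator h2 Q hQ hdim
  have hx : (⟨g, hg⟩ : ↥(Cfsg.isometryGroup F (⇑Q))) ^ k = 1 := by
    apply Subtype.ext
    rw [Subgroup.coe_pow]
    exact hgk
  have hmem := mem_of_odd_pow_of_index_four (commutator ↥(Cfsg.isometryGroup F (⇑Q))) hidx
    ⟨g, hg⟩ k hk hx
  exact Cfsg.Agent.Lib.Helper50.coe_mem_omegaGL (⇑Q) ⟨g, hg⟩ hmem

end Cfsg.Agent.Lib.Helper39.OQF
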