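import Mathlib
import Cfsg.Prelude.Def_Solvable
import Cfsg.Agent.S0039

set_option autoImplicit false

/-!
# K-OTF pack (S3999), leaf G2: the Schur–Zassenhaus complement is a Frobenius complement
-/

namespace Cfsg.Agent.Lib.Helper39.OTF

open Cfsg

theorem exists_frobenius_complement {G : Type*} [Group G] [Finite G] (k c : ℕ)
    (hcard : Nat.card G = k * c) (hco : Nat.Coprime k c) (hk : 1 < k) (hc : 1 < c)
    (N : Subgroup G) (hNn : N.Normal) (hN : Nat.card N = k)
    (hord : ∀ x : G, orderOf x ∣ k ∨ orderOf x ∣ c) :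
    ∃ D : Subgroup G, Cfsg.IsFrobeniusComplement D ∧ Nat.card D = c := by
  have hidx : N.index = c := by
    have h := Subgroup.index_mul_card N
    rw [hN, hcard, mul_comm] at h
    exact Nat.eq_of_mul_eq_mul_left (by omega) h
  obtain ⟨D, hD⟩ := Subgroup.exists_right_complement'_of_coprime (N := N) (by rw [hN, hidx]; exact hco)
  have hDc : Nat.card D = c := by
    have h := hD.card_mul_card
    rw [hN, hcard] at h
    exact Nat.eq_of_mul_eq_mul_left (by omega) h
  refine ⟨D, ?_, hDc⟩
  have hN1 : N ≠ ⊥ := by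
    intro h
    rw [h, Subgroup.card_bot] at hN
    omega
  have hD1 : D ≠ ⊥ := by
    intro h
    rw [h, Subgroup.card_bot] at hDc
    omega
  rw [Cfsg.Agent.S0039.result N D hD hN1 hD1]
  intro h hh hh1
  rw [eq_bot_iff]
  intro n hn
  obtain ⟨hnN, hnC⟩ := hn
  rw [Subgroup.mem_bot]
  have hcomm : Commute h n := by
    have := Subgroup.mem_centralizer_iff.mp hnC h (Set.mem_singleton h)
    exact this
  have hoh : orderOf h ∣ c := by
    rw [← hDc]
    have := orderOf_dvd_natCard (⟨h, hh⟩ : D)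
    rwa [Subgroup.orderOf_mk] at this
  have hon : orderOf n ∣ k := by
    rw [← hN]
    have := orderOf_dvd_natCard (⟨n, hnN⟩ : N)
    rwa [Subgroup.orderOf_mk] at this
  have hcop : Nat.Coprime (orderOf h) (orderOf n) :=
    Nat.Coprime.coprime_dvd_left hoh (Nat.Coprime.coprime_dvd_right hon hco.symm)
  have hmul := hcomm.orderOf_mul_eq_mul_orderOf_of_coprime hcop
  rcases hord (h * n) with hd | hd
  · exfalso
    rw [hmul] at hd
    have h1 : orderOf h ∣ k := (Dvd.intro _ rfl).trans hd
    have h2 : orderOf h ∣ Nat.gcd k c := Nat.dvd_gcd h1 hoh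
    rw [hco] at h2
    exact hh1 (orderOf_eq_one_iff.mp (Nat.dvd_one.mp h2))
  · rw [hmul] at hd
    have h1 : orderOf n ∣ c := (Dvd.intro_left _ rfl).trans hd
    have h2 : orderOf n ∣ Nat.gcd k c := Nat.dvd_gcd hon h1
    rw [hco] at h2
    exact orderOf_eq_one_iff.mp (Nat.dvd_one.mp h2)

end Cfsg.Agent.Lib.Helper39.OTF
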