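import Mathlib
import Cfsg.Agent.Lib.Helper39.PGroupBasic

set_option autoImplicit false

/-!
# A coprime-action lemma modulo the centralizer of a normal abelian 2-subgroup

`V` is a normal abelian `2`-subgroup of `X`, `C = C_X(V)`.  If `y` has odd order modulo `C`, is
inverted modulo `C` by `a`, commutes modulo `C` with the `2`-group `B`, and `a` centralizes `C_V(B)`,
then `y` centralizes `V`  (Thompson's `A × B` lemma in the only form we need).
-/

namespace Cfsg.Agent.Lib.Helper39.Offender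

variable {X : Type*} [Group X]

/-- if `y v y⁻¹ = v w` and `y` centralizes `w` then `yⁱ v y⁻ⁱ = v wⁱ` -/
theorem conj_pow_eq (y v w : X) (h1 : y * v * y⁻¹ = v * w) (h2 : y * w * y⁻¹ = w) (i : ℕ) :
    y ^ i * v * (y ^ i)⁻¹ = v * w ^ i := by
  induction i with
  | zero => simp
  | succ k ih =>
    calc y ^ (k + 1) * v * (y ^ (k + 1))⁻¹ = y * (y ^ k * v * (y ^ k)⁻¹) * y⁻¹ := by
          rw [pow_succ']; group
      _ = y * (v * w ^ k) * y⁻¹ := by rw [ih]
      _ = (y * v * y⁻¹) * (y * w * y⁻¹) ^ k := by rw [conj_pow]; group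
      _ = v * w * w ^ k := by rw [h1, h2]
      _ = v * w ^ (k + 1) := by rw [pow_succ', mul_assoc]

/-- A `p`-group normalizing a nontrivial `p`-group centralizes a nonidentity element of it. -/
theorem exists_fixed_ne_one [Finite X] {p : ℕ} [Fact p.Prime] {B W : Subgroup X}
    (hB : IsPGroup p B) (hW : IsPGroup p W) (hW1 : W ≠ ⊥)
    (h : B ≤ Subgroup.normalizer (W : Set X)) :
    ∃ w ∈ W, w ≠ 1 ∧ ∀ b ∈ B, b * w = w * b := by
  classical
  set T : Subgroup X := W ⊔ B with hT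
  have hTp : IsPGroup p T := IsPGroup.to_sup_of_normal_left' hW hB h
  have hWT : W ≤ T := le_sup_left
  have hBT : B ≤ T := le_sup_right
  have hTN : T ≤ Subgroup.normalizer (W : Set X) := sup_le Subgroup.le_normalizer h
  have hn : (W.subgroupOf T).Normal := Subgroup.normal_subgroupOf_of_le_normalizer hTN
  have hne : W.subgroupOf T ≠ ⊥ := by
    intro hbot
    apply hW1
    rw [Subgroup.subgroupOf_eq_bot, disjoint_iff, inf_eq_left.mpr hWT] at hbot
    exact hbot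
  obtain ⟨z, hzW, hzc, hz1⟩ :=
    Cfsg.Agent.Lib.Helper39.exists_mem_center_of_normal_ne_bot hTp (W.subgroupOf T) hne
  refine ⟨(z : X), Subgroup.mem_subgroupOf.mp hzW, ?_, ?_⟩
  · intro h1
    apply hz1
    exact Subtype.ext h1
  · intro b hb
    have := (Subgroup.mem_center_iff.mp hzc) ⟨b, hBT hb⟩
    exact congrArg Subtype.val this

/-- The main lemma of this file. -/
theorem centralizes_of_inverted [Finite X] (V : Subgroup X) [hVn : V.Normal]
    (hVc : ∀ a ∈ V, ∀ b ∈ V, a * b = b * a) (hV2 : IsPGroup 2 V)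
    (y a : X) (B : Subgroup X) (hB : IsPGroup 2 B) (n : ℕ) (hn : Odd n)
    (hyn : y ^ n ∈ Subgroup.centralizer (V : Set X))
    (hinv : a * y * a⁻¹ * y ∈ Subgroup.centralizer (V : Set X))
    (hcomm : ∀ b ∈ B, y * b * y⁻¹ * b⁻¹ ∈ Subgroup.centralizer (V : Set X))
    (hfix : V ⊓ Subgroup.centralizer (B : Set X) ≤ Subgroup.centralizer ({a} : Set X)) :
    y ∈ Subgroup.centralizer (V : Set X) := by
  classical
  have : Fact (Nat.Prime 2) := ⟨Nat.prime_two⟩
  have hC : ∀ c ∈ Subgroup.centralizer (V : Set X), ∀ v ∈ V, c * v = v * c := by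
    intro c hc v hv
    exact (Subgroup.mem_centralizer_iff.mp hc v hv).symm
  have hconj : ∀ g : X, ∀ v ∈ V, g * v * g⁻¹ ∈ V := fun g v hv => hVn.conj_mem v hv g
  have hconj' : ∀ g : X, ∀ v ∈ V, g⁻¹ * v * g ∈ V := by
    intro g v hv
    have := hVn.conj_mem v hv g⁻¹
    simpa using this
  -- Step 1: `B` commutes with conjugation by `y` on `V`
  have key1 : ∀ b ∈ B, ∀ v ∈ V, b * (y * v * y⁻¹) * b⁻¹ = y * (b * v * b⁻¹) * y⁻¹ := by
    intro b hb v hv
    have hc := hcomm b hb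
    have hw : b * (y * v * y⁻¹) * b⁻¹ ∈ V := hconj b _ (hconj y v hv)
    have h1 := hC _ hc _ hw
    calc b * (y * v * y⁻¹) * b⁻¹
        = (b * (y * v * y⁻¹) * b⁻¹) * (y * b * y⁻¹ * b⁻¹) * (y * b * y⁻¹ * b⁻¹)⁻¹ := by group
      _ = (y * b * y⁻¹ * b⁻¹) * (b * (y * v * y⁻¹) * b⁻¹) * (y * b * y⁻¹ * b⁻¹)⁻¹ := by rw [h1]
      _ = y * (b * v * b⁻¹) * y⁻¹ := by group
  -- Step 2: `y` centralizes `C_V(B)`
  have key2 : ∀ u ∈ V, (∀ b ∈ B, b * u = u * b) → y * u = u * y := by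
    intro u hu hub
    have hu' : y * u * y⁻¹ ∈ V := hconj y u hu
    have hu'B : y * u * y⁻¹ ∈ Subgroup.centralizer (B : Set X) := by
      rw [Subgroup.mem_centralizer_iff]
      intro b hb
      have h1 := key1 b hb u hu
      have h2 : b * u * b⁻¹ = u := by rw [hub b hb]; group
      rw [h2] at h1
      calc b * (y * u * y⁻¹) = b * (y * u * y⁻¹) * b⁻¹ * b := by group
        _ = y * u * y⁻¹ * b := by rw [h1]
    have huB : u ∈ Subgroup.centralizer (B : Set X) := by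
      rw [Subgroup.mem_centralizer_iff]
      intro b hb
      exact hub b hb
    have ha1 : a * u = u * a := by
      have := hfix ⟨hu, huB⟩
      rw [Subgroup.mem_centralizer_iff] at this
      exact this a rfl
    have ha2 : a * (y * u * y⁻¹) = (y * u * y⁻¹) * a := by
      have := hfix ⟨hu', hu'B⟩
      rw [Subgroup.mem_centralizer_iff] at this
      exact this a rfl
    have hv1 : y⁻¹ * u * y ∈ V := hconj' y u hu
    have h3 := hC _ hinv _ hv1
    have h4 : y * u * y⁻¹ = y⁻¹ * u * y := by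
      calc y * u * y⁻¹ = a * (y * u * y⁻¹) * a⁻¹ := by rw [ha2]; group
        _ = (a * y * a⁻¹ * y) * (y⁻¹ * (a * u * a⁻¹) * y) * (a * y * a⁻¹ * y)⁻¹ := by group
        _ = (a * y * a⁻¹ * y) * (y⁻¹ * u * y) * (a * y * a⁻¹ * y)⁻¹ := by
            rw [ha1]; group
        _ = (y⁻¹ * u * y) * (a * y * a⁻¹ * y) * (a * y * a⁻¹ * y)⁻¹ := by rw [h3]
        _ = y⁻¹ * u * y := by group
    have hc2 : Commute (y ^ 2) u := by
      show y ^ 2 * u = u * y ^ 2
      calc y ^ 2 * u = y * (y * u * y⁻¹) * y := by rw [pow_two]; group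
        _ = y * (y⁻¹ * u * y) * y := by rw [h4]
        _ = u * y ^ 2 := by rw [pow_two]; group
    have hcn : Commute (y ^ n) u := hC _ hyn u hu
    obtain ⟨m, hm⟩ := hn
    have hy : y = ((y ^ 2) ^ m)⁻¹ * y ^ n := by
      have h5 : y ^ n = (y ^ 2) ^ m * y := by rw [hm, pow_succ, pow_mul]
      rw [h5]; group
    have : Commute y u := by
      rw [hy]
      exact ((hc2.pow_left m).inv_left).mul_left hcn
    exact this
  -- Step 3
  by_contra hy
  rw [Subgroup.mem_centralizer_iff] at hy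
  push Not at hy
  obtain ⟨v₀, hv₀, hv₀y⟩ := hy
  -- the subgroup `W = [V, y]`
  let W : Subgroup X :=
    { carrier := {w | ∃ v ∈ V, w = v⁻¹ * (y * v * y⁻¹)}
      one_mem' := ⟨1, V.one_mem, by group⟩
      mul_mem' := by
        rintro _ _ ⟨v₁, hv₁, rfl⟩ ⟨v₂, hv₂, rfl⟩
        refine ⟨v₁ * v₂, V.mul_mem hv₁ hv₂, ?_⟩
        have h1 := hVc (y * v₁ * y⁻¹) (hconj y v₁ hv₁) v₂⁻¹ (V.inv_mem hv₂)
        calc v₁⁻¹ * (y * v₁ * y⁻¹) * (v₂⁻¹ * (y * v₂ * y⁻¹))
            = v₁⁻¹ * ((y * v₁ * y⁻¹) * v₂⁻¹) * (y * v₂ * y⁻¹) := by group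
          _ = v₁⁻¹ * (v₂⁻¹ * (y * v₁ * y⁻¹)) * (y * v₂ * y⁻¹) := by rw [h1]
          _ = (v₂⁻¹ * v₁⁻¹) * (y * (v₁ * v₂) * y⁻¹) := by
              rw [hVc v₂⁻¹ (V.inv_mem hv₂) v₁⁻¹ (V.inv_mem hv₁)]; group
          _ = (v₁ * v₂)⁻¹ * (y * (v₁ * v₂) * y⁻¹) := by group
      inv_mem' := by
        rintro _ ⟨v, hv, rfl⟩
        refine ⟨v⁻¹, V.inv_mem hv, ?_⟩
        have h1 := hVc (y * v⁻¹ * y⁻¹) (hconj y v⁻¹ (V.inv_mem hv)) v hv
        calc (v⁻¹ * (y * v * y⁻¹))⁻¹ = (y * v⁻¹ * y⁻¹) * v := by group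
          _ = v * (y * v⁻¹ * y⁻¹) := h1
          _ = v⁻¹⁻¹ * (y * v⁻¹ * y⁻¹) := by group }
  have hWV : W ≤ V := by
    rintro _ ⟨v, hv, rfl⟩
    exact V.mul_mem (V.inv_mem hv) (hconj y v hv)
  have hW2 : IsPGroup 2 W := hV2.to_le hWV
  have hW1 : W ≠ ⊥ := by
    intro hbot
    have hmem : v₀⁻¹ * (y * v₀ * y⁻¹) ∈ W := ⟨v₀, hv₀, rfl⟩
    rw [hbot, Subgroup.mem_bot] at hmem
    apply hv₀y
    calc v₀ * y = v₀ * (v₀⁻¹ * (y * v₀ * y⁻¹)) * y := by rw [hmem]; group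
      _ = y * v₀ := by group
  have hBW : B ≤ Subgroup.normalizer (W : Set X) := by
    intro b hb
    have hsub : ∀ c ∈ B, ∀ w ∈ W, c * w * c⁻¹ ∈ W := by
      rintro c hc _ ⟨v, hv, rfl⟩
      refine ⟨c * v * c⁻¹, hconj c v hv, ?_⟩
      have := key1 c hc v hv
      calc c * (v⁻¹ * (y * v * y⁻¹)) * c⁻¹ = (c * v * c⁻¹)⁻¹ * (c * (y * v * y⁻¹) * c⁻¹) := by group
        _ = (c * v * c⁻¹)⁻¹ * (y * (c * v * c⁻¹) * y⁻¹) := by rw [this]
    rw [Subgroup.mem_normalizer_iff]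
    intro w
    constructor
    · intro hw
      exact hsub b hb w hw
    · intro hw
      have := hsub b⁻¹ (B.inv_mem hb) _ hw
      have h2 : b⁻¹ * (b * w * b⁻¹) * b⁻¹⁻¹ = w := by group
      rwa [h2] at this
  obtain ⟨w, hwW, hw1, hwB⟩ := exists_fixed_ne_one hB hW2 hW1 hBW
  have hwy : y * w = w * y := key2 w (hWV hwW) hwB
  obtain ⟨v, hv, hwv⟩ := hwW
  have h1 : y * v * y⁻¹ = v * w := by rw [hwv]; group
  have h2 : y * w * y⁻¹ = w := by rw [hwy]; group
  have h3 := conj_pow_eq y v w h1 h2 n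
  have h4 : y ^ n * v * (y ^ n)⁻¹ = v := by rw [hC _ hyn v hv]; group
  rw [h4] at h3
  have hwn : w ^ n = 1 := by
    have : v * w ^ n = v * 1 := by rw [mul_one]; exact h3.symm
    exact mul_left_cancel this
  obtain ⟨k, hk⟩ := hV2 ⟨w, hWV ⟨v, hv, hwv⟩⟩
  have hk' : w ^ 2 ^ k = 1 := by
    have := congrArg Subtype.val hk
    simpa using this
  have hord1 : orderOf w ∣ n := orderOf_dvd_of_pow_eq_one hwn
  have hord2 : orderOf w ∣ 2 ^ k := orderOf_dvd_of_pow_eq_one hk'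
  have hcop : Nat.Coprime n (2 ^ k) := by
    apply Nat.Coprime.pow_right
    rcases hn with ⟨m, hm⟩
    rw [hm]
    simp
  have : orderOf w = 1 := Nat.eq_one_of_dvd_coprimes hcop hord1 hord2
  exact hw1 (orderOf_eq_one_iff.mp this)

end Cfsg.Agent.Lib.Helper39.Offender
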