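import Mathlib
import Cfsg.Prelude.Def_LocalEven
import Cfsg.Prelude.Def_Solvable
import Cfsg.Agent.Lib.Helper39.OffFinal
import Cfsg.Agent.Lib.Helper39.FourCent
import Cfsg.Agent.Lib.Helper06.BaerSuzuki
import Cfsg.Agent.Lib.Helper60.TransvectionPairFinal
import Cfsg.Agent.Lib.Helper30.Generation
import Cfsg.Agent.Lib.Helper13.Fitting
import Cfsg.Agent.Lib.Helper54.FStarGlue

set_option autoImplicit false

/-!
# Offenders on a normal elementary abelian 2-subgroup in `S₄`-free groups

`V ⊴ X` abelian `2`-group with `C_X(V) = O_2(X)`.  If `X` is `S₄`-free and the quotient `X / C_X(V)`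
has the "end-game" property (true for solvable groups), then no subgroup `E` which is elementary
abelian modulo `C_X(V)` is a nontrivial offender on `V`.
-/

namespace Cfsg.Agent.Lib.Helper39.Offender

open Cfsg

universe u

/-- The end-game property: every elementary abelian `2`-subgroup `F` of order at least four has a
hyperplane `B` and an element `a` inverting a nontrivial element of odd order centralized by `B`. -/
def EndGame (Y : Type*) [Group Y] : Prop :=
  ∀ F : Subgroup Y, (∀ x ∈ F, x ^ 2 = 1) → (∀ x ∈ F, ∀ y ∈ F, x * y = y * x) → 4 ≤ Nat.card F →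
    ∃ B : Subgroup Y, B ≤ F ∧ B.relIndex F = 2 ∧ ∃ a ∈ F, ∃ y : Y, y ≠ 1 ∧ Odd (orderOf y) ∧
      a * y * a⁻¹ = y⁻¹ ∧ ∀ b ∈ B, b * y = y * b

/-- Solvable groups with `O_2 = 1` have the end-game property (coprime generation on `F(Y)`). -/
theorem endGame_of_solvable {Y : Type*} [Group Y] [Finite Y] [Group.IsSolvable Y]
    (hO : Cfsg.pCore 2 Y = ⊥) : EndGame Y := by
  intro F hF2 hFc hF4
  haveI : Fact (Nat.Prime 2) := ⟨Nat.prime_two⟩
  by_contra hcon
  push Not at hcon
  set R := Cfsg.fittingSubgroup Y with hR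
  have hRn : R.Normal := Cfsg.Agent.Lib.Helper30.fitting_normal
  have hRcop : (Nat.card R).Coprime 2 := Cfsg.Agent.Lib.Helper54.card_fitting_coprime hO
  have hRodd : ¬ 2 ∣ Nat.card R :=
    (Nat.Prime.coprime_iff_not_dvd Nat.prime_two).mp hRcop.symm
  have hCR : Subgroup.centralizer (R : Set Y) ≤ R :=
    Cfsg.Agent.Lib.Helper13.centralizer_fittingSubgroup_le
  have hFN : F ≤ Subgroup.normalizer (R : Set Y) := by
    rw [Subgroup.normalizer_eq_top]; exact le_top
  have hT : ∀ B : Subgroup Y, B ≤ F → B.relIndex F = 2 →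
      R ⊓ Subgroup.centralizer (B : Set Y) ≤ R ⊓ Subgroup.centralizer (F : Set Y) := by
    intro B hBF hB2 r hr
    refine ⟨hr.1, Subgroup.mem_centralizer_iff.mpr ?_⟩
    intro a ha
    by_contra hne
    have hrB : ∀ b ∈ B, b * r = r * b := Subgroup.mem_centralizer_iff.mp hr.2
    have hy1 : r⁻¹ * (a * r * a⁻¹) ≠ 1 := by
      intro h
      apply hne
      have h2 : a * r * a⁻¹ = r := by
        have := congrArg (fun t => r * t) h
        simpa using this
      calc a * r = a * r * a⁻¹ * a := by group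
        _ = r * a := by rw [h2]
    have hyR : r⁻¹ * (a * r * a⁻¹) ∈ R := R.mul_mem (R.inv_mem hr.1) (hRn.conj_mem r hr.1 a)
    have hodd : Odd (orderOf (r⁻¹ * (a * r * a⁻¹))) := by
      rw [← Nat.not_even_iff_odd]
      intro hev
      apply hRodd
      exact (even_iff_two_dvd.mp hev).trans (Subgroup.orderOf_dvd_natCard R hyR)
    have ha2 : a * a = 1 := by rw [← pow_two]; exact hF2 a ha
    have hinv : a * (r⁻¹ * (a * r * a⁻¹)) * a⁻¹ = (r⁻¹ * (a * r * a⁻¹))⁻¹ := by
      calc a * (r⁻¹ * (a * r * a⁻¹)) * a⁻¹ = (a * r * a⁻¹)⁻¹ * ((a * a) * r * (a * a)⁻¹) := by group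
        _ = (a * r * a⁻¹)⁻¹ * r := by rw [ha2]; group
        _ = (r⁻¹ * (a * r * a⁻¹))⁻¹ := by group
    obtain ⟨b, hb, hby⟩ := hcon B hBF hB2 a ha _ hy1 hodd hinv
    apply hby
    have hbr : Commute b r := hrB b hb
    have hba : Commute b a := hFc b (hBF hb) a ha
    exact (hbr.inv_right).mul_right ((hba.mul_right hbr).mul_right hba.inv_right)
  have key : R ≤ R ⊓ Subgroup.centralizer (F : Set Y) :=
    Cfsg.Agent.Lib.Helper30.coprime_generation 2 F hFc hF2 (by norm_num; exact hF4) R hFN hRodd _ hT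
  have hFR : F ≤ R := by
    refine le_trans ?_ hCR
    intro f hf
    rw [Subgroup.mem_centralizer_iff]
    intro r hr
    have := Subgroup.mem_centralizer_iff.mp (key hr).2
    exact (this f hf).symm
  -- an involution of `F` lies in the odd-order group `R`
  have hFne : F ≠ ⊥ := by
    intro h
    rw [h, Subgroup.card_bot] at hF4
    omega
  obtain ⟨x, hx1⟩ := (Subgroup.ne_bot_iff_exists_ne_one.mp hFne : ∃ x : F, x ≠ 1)
  have hxo : orderOf (x : Y) = 2 := by
    apply orderOf_eq_prime (hF2 _ x.2)
    intro h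
    apply hx1
    exact Subtype.ext h
  apply hRodd
  rw [← hxo]
  exact Subgroup.orderOf_dvd_natCard R (hFR x.2)

variable {X : Type u} [Group X]

/-- `O_2(X / C_X(V)) = 1` when `C_X(V)` is a `2`-group containing every normal `2`-subgroup. -/
theorem pCore_quotient_eq_bot [Finite X] (V : Subgroup X) [V.Normal]
    (hC2 : IsPGroup 2 (Subgroup.centralizer (V : Set X)))
    (hO : ∀ P : Subgroup X, P.Normal → IsPGroup 2 P → P ≤ Subgroup.centralizer (V : Set X)) :
    Cfsg.pCore 2 (X ⧸ Subgroup.centralizer (V : Set X)) = ⊥ := by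
  haveI : Fact (Nat.Prime 2) := ⟨Nat.prime_two⟩
  have hNn : (Cfsg.pCore 2 (X ⧸ Subgroup.centralizer (V : Set X))).Normal :=
    Cfsg.Agent.Lib.Helper39.FourCent.pCore_normal' 2 _
  have hN2 : IsPGroup 2 (Cfsg.pCore 2 (X ⧸ Subgroup.centralizer (V : Set X))) :=
    Cfsg.Agent.Lib.Helper39.FourCent.pCore_isPGroup' 2 _
  have hP2 : IsPGroup 2 ((Cfsg.pCore 2 (X ⧸ Subgroup.centralizer (V : Set X))).comap
      (QuotientGroup.mk' (Subgroup.centralizer (V : Set X)))) :=
    hN2.comap_of_ker_isPGroup _ (by rw [QuotientGroup.ker_mk']; exact hC2)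
  have hPn : ((Cfsg.pCore 2 (X ⧸ Subgroup.centralizer (V : Set X))).comap
      (QuotientGroup.mk' (Subgroup.centralizer (V : Set X)))).Normal := hNn.comap _
  have hle := hO _ hPn hP2
  rw [eq_bot_iff]
  intro x hx
  obtain ⟨g, rfl⟩ := QuotientGroup.mk'_surjective (Subgroup.centralizer (V : Set X)) x
  have hg : g ∈ Subgroup.centralizer (V : Set X) := hle hx
  rw [Subgroup.mem_bot]
  exact (QuotientGroup.eq_one_iff g).mpr hg

set_option maxHeartbeats 1600000 in
/-- **No nontrivial offenders.** -/
theorem offender_le_centralizer [Finite X] (V : Subgroup X) [hVn : V.Normal]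
    (hVc : ∀ a ∈ V, ∀ b ∈ V, a * b = b * a) (hV2 : IsPGroup 2 V)
    (hC2 : IsPGroup 2 (Subgroup.centralizer (V : Set X)))
    (hO : ∀ P : Subgroup X, P.Normal → IsPGroup 2 P → P ≤ Subgroup.centralizer (V : Set X))
    (hS4 : ¬ Cfsg.Involves (Equiv.Perm (Fin 4)) X)
    (hEG : EndGame (X ⧸ Subgroup.centralizer (V : Set X)))
    (E : Subgroup X) (hE2 : ∀ x ∈ E, x ^ 2 ∈ Subgroup.centralizer (V : Set X))
    (hEc : ∀ x ∈ E, ∀ y ∈ E, x * y * x⁻¹ * y⁻¹ ∈ Subgroup.centralizer (V : Set X))
    (hoff : Nat.card V * Nat.card (E ⊓ Subgroup.centralizer (V : Set X) : Subgroup X) ≤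
      Nat.card E * Nat.card (V ⊓ Subgroup.centralizer (E : Set X) : Subgroup X)) :
    E ≤ Subgroup.centralizer (V : Set X) := by
  classical
  haveI : Fact (Nat.Prime 2) := ⟨Nat.prime_two⟩
  by_contra hE
  have hπs : Function.Surjective (QuotientGroup.mk' (Subgroup.centralizer (V : Set X))) :=
    QuotientGroup.mk'_surjective _
  have hπ1 : ∀ g : X, (QuotientGroup.mk' (Subgroup.centralizer (V : Set X))) g = 1 ↔
      g ∈ Subgroup.centralizer (V : Set X) := fun g => QuotientGroup.eq_one_iff g
  have hCV : ∀ c ∈ Subgroup.centralizer (V : Set X), ∀ v ∈ V, c * v = v * c := by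
    intro c hc v hv
    exact (Subgroup.mem_centralizer_iff.mp hc v hv).symm
  -- fixed points of a subgroup of the quotient
  let fix : Subgroup (X ⧸ Subgroup.centralizer (V : Set X)) → Subgroup X := fun F =>
    V ⊓ Subgroup.centralizer
      ((F.comap (QuotientGroup.mk' (Subgroup.centralizer (V : Set X))) : Subgroup X) : Set X)
  have hfix_anti : ∀ {F₁ F₂ : Subgroup (X ⧸ Subgroup.centralizer (V : Set X))},
      F₁ ≤ F₂ → fix F₂ ≤ fix F₁ := by
    intro F₁ F₂ h
    exact inf_le_inf_left _ (Subgroup.centralizer_le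
      (SetLike.coe_subset_coe.mpr (Subgroup.comap_mono h)))
  let IsOff : Subgroup (X ⧸ Subgroup.centralizer (V : Set X)) → Prop := fun F =>
    (∀ x ∈ F, x ^ 2 = 1) ∧ (∀ x ∈ F, ∀ y ∈ F, x * y = y * x) ∧ F ≠ ⊥ ∧
      Nat.card V ≤ Nat.card F * Nat.card (fix F)
  -- the image of `E` is an offender
  have hF₀ : IsOff (E.map (QuotientGroup.mk' (Subgroup.centralizer (V : Set X)))) := by
    refine ⟨?_, ?_, ?_, ?_⟩
    · rintro _ ⟨e, he, rfl⟩
      rw [← map_pow]
      exact (hπ1 _).mpr (hE2 e he)
    · rintro _ ⟨e₁, he₁, rfl⟩ _ ⟨e₂, he₂, rfl⟩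
      have := (hπ1 _).mpr (hEc e₁ he₁ e₂ he₂)
      simp only [map_mul, map_inv] at this
      have h2 := mul_inv_eq_one.mp this
      exact mul_inv_eq_iff_eq_mul.mp h2
    · intro h
      apply hE
      have := (Subgroup.map_eq_bot_iff E).mp h
      rwa [QuotientGroup.ker_mk'] at this
    · have h1 : Nat.card (E ⊓ Subgroup.centralizer (V : Set X) : Subgroup X) *
          Nat.card (E.map (QuotientGroup.mk' (Subgroup.centralizer (V : Set X)))) = Nat.card E := by
        have h2 := Cfsg.Agent.Lib.Helper39.FourCent.card_mul_relIndex'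
          (inf_le_left : E ⊓ Subgroup.centralizer (V : Set X) ≤ E)
        rw [inf_comm, Subgroup.inf_relIndex_right] at h2
        have h3 := Subgroup.relIndex_ker E
          (QuotientGroup.mk' (Subgroup.centralizer (V : Set X)))
        rw [QuotientGroup.ker_mk'] at h3
        rw [h3, inf_comm] at h2
        exact h2
      have h4 : V ⊓ Subgroup.centralizer (E : Set X) ≤
          fix (E.map (QuotientGroup.mk' (Subgroup.centralizer (V : Set X)))) := by
        intro v hv
        refine ⟨hv.1, Subgroup.mem_centralizer_iff.mpr ?_⟩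
        intro g hg
        obtain ⟨e, he, heg⟩ := hg
        have hc : e⁻¹ * g ∈ Subgroup.centralizer (V : Set X) := by
          rw [← hπ1, map_mul, map_inv, heg]; group
        have h5 := hCV _ hc v hv.1
        have h6 : e * v = v * e := Subgroup.mem_centralizer_iff.mp hv.2 e he
        calc g * v = e * ((e⁻¹ * g) * v) := by group
          _ = e * (v * (e⁻¹ * g)) := by rw [h5]
          _ = (e * v) * (e⁻¹ * g) := by group
          _ = (v * e) * (e⁻¹ * g) := by rw [h6]
          _ = v * g := by group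
      have h7 := Subgroup.card_le_of_le h4
      have hpos : 0 < Nat.card (E ⊓ Subgroup.centralizer (V : Set X) : Subgroup X) := Nat.card_pos
      rw [← h1] at hoff
      have h8 : Nat.card V ≤ Nat.card (E.map (QuotientGroup.mk' (Subgroup.centralizer (V : Set X)))) *
          Nat.card (V ⊓ Subgroup.centralizer (E : Set X) : Subgroup X) := by
        have : Nat.card (E ⊓ Subgroup.centralizer (V : Set X) : Subgroup X) * Nat.card V ≤
            Nat.card (E ⊓ Subgroup.centralizer (V : Set X) : Subgroup X) *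
            (Nat.card (E.map (QuotientGroup.mk' (Subgroup.centralizer (V : Set X)))) *
              Nat.card (V ⊓ Subgroup.centralizer (E : Set X) : Subgroup X)) := by
          calc _ = Nat.card V * Nat.card (E ⊓ Subgroup.centralizer (V : Set X) : Subgroup X) :=
                mul_comm _ _
            _ ≤ _ := hoff
            _ = _ := by ring
        exact Nat.le_of_mul_le_mul_left this hpos
      exact h8.trans (Nat.mul_le_mul_left _ h7)
  -- a minimal offender
  obtain ⟨F, hFoff, hFmin⟩ := Set.exists_min_image {F | IsOff F}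
    (fun F : Subgroup (X ⧸ Subgroup.centralizer (V : Set X)) => Nat.card F)
    (Set.toFinite _) ⟨_, hF₀⟩
  obtain ⟨hF2, hFc, hFne, hFcard⟩ := hFoff
  have hFp : IsPGroup 2 F := by
    intro x
    refine ⟨1, ?_⟩
    rw [pow_one]
    exact Subtype.ext (hF2 x x.2)
  -- hyperplanes have the same fixed points
  have hyper : ∀ B : Subgroup (X ⧸ Subgroup.centralizer (V : Set X)), B ≤ F → B.relIndex F = 2 →
      B ≠ ⊥ → fix B = fix F := by
    intro B hBF hB2 hBne
    have hcard : Nat.card B * 2 = Nat.card F := by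
      have := Cfsg.Agent.Lib.Helper39.FourCent.card_mul_relIndex' hBF
      rwa [hB2] at this
    have hBnot : ¬ IsOff B := by
      intro hB
      have := hFmin B hB
      have hpos : 0 < Nat.card B := Nat.card_pos
      omega
    have hlt : Nat.card B * Nat.card (fix B) < Nat.card V := by
      by_contra h
      push Not at h
      exact hBnot ⟨fun x hx => hF2 x (hBF hx), fun x hx y hy => hFc x (hBF hx) y (hBF hy), hBne, h⟩
    have hle : fix F ≤ fix B := hfix_anti hBF
    by_contra hne
    have hlt2 : fix F < fix B := lt_of_le_of_ne hle (Ne.symm hne)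
    obtain ⟨k, hk⟩ := Subgroup.card_dvd_of_le hle
    have hk1 : k ≠ 1 := by
      intro h
      rw [h, mul_one] at hk
      exact hlt2.ne (Subgroup.eq_of_le_of_card_ge hle hk.le)
    have hk0 : k ≠ 0 := by
      intro h
      rw [h, mul_zero] at hk
      have : 0 < Nat.card (fix B) := Nat.card_pos
      omega
    have hk2 : 2 ≤ k := by omega
    have : Nat.card F * Nat.card (fix F) ≤ Nat.card B * Nat.card (fix B) := by
      rw [← hcard, hk]
      calc Nat.card B * 2 * Nat.card (fix F) = Nat.card B * (Nat.card (fix F) * 2) := by ring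
        _ ≤ Nat.card B * (Nat.card (fix F) * k) :=
            Nat.mul_le_mul_left _ (Nat.mul_le_mul_left _ hk2)
    omega
  -- the order of `F`
  obtain ⟨k, hk⟩ := IsPGroup.iff_card.mp hFp
  have hk0 : k ≠ 0 := by
    intro h
    rw [h, pow_zero] at hk
    apply hFne
    exact Subgroup.card_eq_one.mp hk
  rcases Nat.lt_or_ge k 2 with hk2 | hk2
  · -- `|F| = 2`: a transvection
    have hk1 : k = 1 := by omega
    rw [hk1, pow_one] at hk
    obtain ⟨a', ha'1⟩ := (Subgroup.ne_bot_iff_exists_ne_one.mp hFne : ∃ x : F, x ≠ 1)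
    have ha'1' : (a' : X ⧸ Subgroup.centralizer (V : Set X)) ≠ 1 := by
      intro h
      apply ha'1
      exact Subtype.ext h
    obtain ⟨a, ha⟩ := hπs (a' : X ⧸ Subgroup.centralizer (V : Set X))
    have haF : a ∈ (F.comap (QuotientGroup.mk' (Subgroup.centralizer (V : Set X))) : Subgroup X) := by
      rw [Subgroup.mem_comap, ha]; exact a'.2
    have haC : a ∉ Subgroup.centralizer (V : Set X) := by
      intro h
      apply ha'1'
      rw [← ha]
      exact (hπ1 a).mpr h
    have ha2C : a ^ 2 ∈ Subgroup.centralizer (V : Set X) := by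
      rw [← hπ1, map_pow, ha]
      exact hF2 _ a'.2
    have ha2el : ∃ j : ℕ, a ^ 2 ^ j = 1 := by
      obtain ⟨j, hj⟩ := hC2 ⟨a ^ 2, ha2C⟩
      refine ⟨j + 1, ?_⟩
      have := congrArg Subtype.val hj
      simp only [Subgroup.coe_pow, Subgroup.coe_one] at this
      rw [pow_succ', pow_mul]
      exact this
    have hfixle : fix F ≤ V ⊓ Subgroup.centralizer ({a} : Set X) := by
      intro v hv
      refine ⟨hv.1, Subgroup.mem_centralizer_iff.mpr ?_⟩
      intro g hg
      rw [Set.mem_singleton_iff] at hg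
      subst hg
      exact Subgroup.mem_centralizer_iff.mp hv.2 g haF
    have hidx : (V ⊓ Subgroup.centralizer ({a} : Set X)).relIndex V = 2 := by
      have h1 := Cfsg.Agent.Lib.Helper39.FourCent.card_mul_relIndex'
        (inf_le_left : V ⊓ Subgroup.centralizer ({a} : Set X) ≤ V)
      have h2 := Subgroup.card_le_of_le hfixle
      rw [hk] at hFcard
      have hne1 : (V ⊓ Subgroup.centralizer ({a} : Set X)).relIndex V ≠ 1 := by
        intro h
        rw [Subgroup.relIndex_eq_one] at h
        apply haC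
        rw [Subgroup.mem_centralizer_iff]
        intro v hv
        have := Subgroup.mem_centralizer_iff.mp (h hv).2
        exact (this a rfl).symm
      have hpos : 0 < Nat.card (V ⊓ Subgroup.centralizer ({a} : Set X) : Subgroup X) := Nat.card_pos
      have hne0 : (V ⊓ Subgroup.centralizer ({a} : Set X)).relIndex V ≠ 0 := by
        intro h
        rw [h, mul_zero] at h1
        have : 0 < Nat.card V := Nat.card_pos
        omega
      have hle2 : (V ⊓ Subgroup.centralizer ({a} : Set X)).relIndex V ≤ 2 := by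
        by_contra h
        push Not at h
        have : Nat.card (V ⊓ Subgroup.centralizer ({a} : Set X) : Subgroup X) * 3 ≤
            Nat.card (V ⊓ Subgroup.centralizer ({a} : Set X) : Subgroup X) *
              (V ⊓ Subgroup.centralizer ({a} : Set X)).relIndex V := Nat.mul_le_mul_left _ h
        omega
      omega
    -- Baer–Suzuki in the quotient
    have hpc := pCore_quotient_eq_bot V hC2 hO
    have hBS : ∃ g' : X ⧸ Subgroup.centralizer (V : Set X), ¬ IsPGroup 2 (Subgroup.closure
        ({(a' : X ⧸ Subgroup.centralizer (V : Set X)), g' * a' * g'⁻¹} :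
          Set (X ⧸ Subgroup.centralizer (V : Set X)))) := by
      by_contra hcon
      push Not at hcon
      have hKconj : ∀ g k : X ⧸ Subgroup.centralizer (V : Set X),
          k ∈ {x | ∃ g : X ⧸ Subgroup.centralizer (V : Set X), x = g * a' * g⁻¹} →
          g * k * g⁻¹ ∈ {x | ∃ g : X ⧸ Subgroup.centralizer (V : Set X), x = g * a' * g⁻¹} := by
        rintro g k ⟨g', rfl⟩
        exact ⟨g * g', by group⟩
      have hKp : ∀ x ∈ {x | ∃ g : X ⧸ Subgroup.centralizer (V : Set X), x = g * a' * g⁻¹},
          ∀ y ∈ {x | ∃ g : X ⧸ Subgroup.centralizer (V : Set X), x = g * a' * g⁻¹},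
          IsPGroup 2 (Subgroup.closure ({x, y} : Set (X ⧸ Subgroup.centralizer (V : Set X)))) := by
        rintro x ⟨g₁, rfl⟩ y ⟨g₂, rfl⟩
        have h1 := hcon (g₁⁻¹ * g₂)
        have h2 : Subgroup.closure ({g₁ * (a' : X ⧸ Subgroup.centralizer (V : Set X)) * g₁⁻¹,
            g₂ * a' * g₂⁻¹} : Set (X ⧸ Subgroup.centralizer (V : Set X))) =
            (Subgroup.closure ({(a' : X ⧸ Subgroup.centralizer (V : Set X)),
              g₁⁻¹ * g₂ * a' * (g₁⁻¹ * g₂)⁻¹} : Set (X ⧸ Subgroup.centralizer (V : Set X)))).map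
              (MulAut.conj g₁).toMonoidHom := by
          rw [MonoidHom.map_closure, Set.image_pair]
          congr 2
          simp only [MulEquiv.coe_toMonoidHom, MulAut.conj_apply]
          group
        rw [h2]
        exact h1.map _
      obtain ⟨N, hNn, hNp, hKN⟩ := Cfsg.Agent.Lib.Helper06.baer_suzuki_set (p := 2)
        {x | ∃ g : X ⧸ Subgroup.centralizer (V : Set X), x = g * a' * g⁻¹} hKconj hKp
      have hN : N ≤ Cfsg.pCore 2 (X ⧸ Subgroup.centralizer (V : Set X)) :=
        le_sSup ⟨hNn, hNp⟩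
      rw [hpc] at hN
      have : (a' : X ⧸ Subgroup.centralizer (V : Set X)) ∈ N := hKN ⟨1, by group⟩
      exact ha'1' (Subgroup.mem_bot.mp (hN this))
    obtain ⟨g', hg'⟩ := hBS
    obtain ⟨g, hg⟩ := hπs g'
    apply hS4
    refine Cfsg.Agent.Lib.Helper60.TransvectionPair.involves_perm4_of_transvection_pair V hVc hV2 a
      ha2el ha2C hidx g ?_
    have e1 : (QuotientGroup.mk a : X ⧸ Subgroup.centralizer (V : Set X)) = a' := ha
    have e2 : (QuotientGroup.mk (g * a * g⁻¹) : X ⧸ Subgroup.centralizer (V : Set X)) =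
        g' * a' * g'⁻¹ := by
      rw [← hg, ← ha]; rfl
    rw [e1, e2]
    exact hg'
  · -- `|F| ≥ 4`: the end-game
    have hF4 : 4 ≤ Nat.card F := by
      rw [hk]
      calc 4 = 2 ^ 2 := by norm_num
        _ ≤ 2 ^ k := Nat.pow_le_pow_right (by norm_num) hk2
    obtain ⟨B, hBF, hB2, a', ha', y', hy'1, hy'odd, hy'inv, hy'B⟩ := hEG F hF2 hFc hF4
    have hBne : B ≠ ⊥ := by
      intro h
      have := Cfsg.Agent.Lib.Helper39.FourCent.card_mul_relIndex' hBF
      rw [hB2, h, Subgroup.card_bot] at this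
      omega
    have hfixeq := hyper B hBF hB2 hBne
    obtain ⟨a, ha⟩ := hπs a'
    obtain ⟨y, hy⟩ := hπs y'
    have haF : a ∈ (F.comap (QuotientGroup.mk' (Subgroup.centralizer (V : Set X))) : Subgroup X) := by
      rw [Subgroup.mem_comap, ha]; exact ha'
    have hBp : IsPGroup 2 (B.comap (QuotientGroup.mk' (Subgroup.centralizer (V : Set X)))) := by
      refine IsPGroup.comap_of_ker_isPGroup (hFp.to_le hBF) _ ?_
      rw [QuotientGroup.ker_mk']; exact hC2
    have hyC : y ∈ Subgroup.centralizer (V : Set X) := by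
      refine centralizes_of_inverted V hVc hV2 y a
        (B.comap (QuotientGroup.mk' (Subgroup.centralizer (V : Set X)))) hBp (orderOf y') hy'odd
        ?_ ?_ ?_ ?_
      · rw [← hπ1, map_pow, hy]
        exact pow_orderOf_eq_one y'
      · rw [← hπ1]
        simp only [map_mul, map_inv, ha, hy]
        rw [hy'inv]; group
      · intro b hb
        rw [Subgroup.mem_comap] at hb
        rw [← hπ1]
        simp only [map_mul, map_inv, hy]
        have := hy'B _ hb
        calc y' * (QuotientGroup.mk' (Subgroup.centralizer (V : Set X))) b * y'⁻¹ *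
              ((QuotientGroup.mk' (Subgroup.centralizer (V : Set X))) b)⁻¹
            = (y' * (QuotientGroup.mk' (Subgroup.centralizer (V : Set X))) b) * y'⁻¹ *
              ((QuotientGroup.mk' (Subgroup.centralizer (V : Set X))) b)⁻¹ := by group
          _ = ((QuotientGroup.mk' (Subgroup.centralizer (V : Set X))) b * y') * y'⁻¹ *
              ((QuotientGroup.mk' (Subgroup.centralizer (V : Set X))) b)⁻¹ := by rw [this]
          _ = 1 := by group
      · intro v hv
        have hv' : v ∈ fix B := hv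
        rw [hfixeq] at hv'
        refine Subgroup.mem_centralizer_iff.mpr ?_
        intro g hg
        rw [Set.mem_singleton_iff] at hg
        subst hg
        exact Subgroup.mem_centralizer_iff.mp hv'.2 g haF
    apply hy'1
    rw [← hy]
    exact (hπ1 y).mpr hyC

end Cfsg.Agent.Lib.Helper39.Offender
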