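import Mathlib
import Cfsg.Prelude.Def_LocalEven
import Cfsg.Prelude.Def_Solvable
import Cfsg.Prelude.Def_Transfer
import Cfsg.Agent.Lib.Helper39.OffCore
import Cfsg.Agent.Lib.Helper15.ThompsonOf
import Cfsg.Agent.Lib.Helper15.PSolv
import Cfsg.Agent.Lib.Helper01.PCore
import Cfsg.Agent.Lib.Helper01.Basic
import Cfsg.Agent.Lib.Helper90.Involves
import Cfsg.Agent.Lib.Helper99.Thompson

set_option autoImplicit false

/-!
# `J_e(S) ≤ O_2(G)` for `S₄`-free groups with `C_G(O_2(G)) ≤ O_2(G)` and `S` of class at most two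

(under the end-game hypothesis on the relevant sections, which holds for solvable groups).
-/

namespace Cfsg.Agent.Lib.Helper39.Offender

open Cfsg

universe u

variable {G : Type u} [Group G]

/-- `Ω₁(Z(Q))` for a normal subgroup `Q`, as a subgroup of `G`. -/
def omegaCenter (Q : Subgroup G) : Subgroup G where
  carrier := {z | z ∈ Q ∧ (∀ q ∈ Q, q * z = z * q) ∧ z ^ 2 = 1}
  one_mem' := ⟨Q.one_mem, fun q _ => by simp, by simp⟩
  mul_mem' := by
    rintro a b ⟨ha, hac, ha2⟩ ⟨hb, hbc, hb2⟩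
    refine ⟨Q.mul_mem ha hb, ?_, ?_⟩
    · intro q hq
      calc q * (a * b) = (q * a) * b := by group
        _ = (a * q) * b := by rw [hac q hq]
        _ = a * (q * b) := by group
        _ = a * (b * q) := by rw [hbc q hq]
        _ = a * b * q := by group
    · have hab : Commute a b := hbc a ha
      rw [hab.mul_pow, ha2, hb2, one_mul]
  inv_mem' := by
    rintro a ⟨ha, hac, ha2⟩
    refine ⟨Q.inv_mem ha, ?_, ?_⟩
    · intro q hq
      have := hac q hq
      calc q * a⁻¹ = a⁻¹ * (a * q) * a⁻¹ := by group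
        _ = a⁻¹ * (q * a) * a⁻¹ := by rw [this]
        _ = a⁻¹ * q := by group
    · rw [inv_pow, ha2, inv_one]

theorem omegaCenter_le (Q : Subgroup G) : omegaCenter Q ≤ Q := fun _ hz => hz.1

theorem omegaCenter_normal (Q : Subgroup G) [hQ : Q.Normal] : (omegaCenter Q).Normal := by
  constructor
  rintro z ⟨hz, hzc, hz2⟩ g
  refine ⟨hQ.conj_mem z hz g, ?_, ?_⟩
  · intro q hq
    have hq' : g⁻¹ * q * g ∈ Q := by
      have := hQ.conj_mem q hq g⁻¹
      simpa using this
    have := hzc _ hq'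
    calc q * (g * z * g⁻¹) = g * ((g⁻¹ * q * g) * z) * g⁻¹ := by group
      _ = g * (z * (g⁻¹ * q * g)) * g⁻¹ := by rw [this]
      _ = g * z * g⁻¹ * q := by group
  · rw [conj_pow, hz2]; group

/-- the stabilizer `C_G(Q / V)` of the chain `Q ≥ V`. -/
def chainStab (Q V : Subgroup G) [hV : V.Normal] : Subgroup G where
  carrier := {g | ∀ q ∈ Q, g * q * g⁻¹ * q⁻¹ ∈ V}
  one_mem' := fun q _ => by simp [V.one_mem]
  mul_mem' := by
    intro a b ha hb q hq
    have h1 := hV.conj_mem _ (hb q hq) a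
    have h2 := ha q hq
    have : a * b * q * (a * b)⁻¹ * q⁻¹ = (a * (b * q * b⁻¹ * q⁻¹) * a⁻¹) * (a * q * a⁻¹ * q⁻¹) := by
      group
    rw [this]
    exact V.mul_mem h1 h2
  inv_mem' := by
    intro a ha q hq
    have h1 := ha q hq
    -- a q a⁻¹ q⁻¹ ∈ V ; conjugate by a⁻¹ and invert
    have h2 := hV.conj_mem _ (V.inv_mem h1) a⁻¹
    have : a⁻¹ * q * a⁻¹⁻¹ * q⁻¹ = a⁻¹ * (a * q * a⁻¹ * q⁻¹)⁻¹ * a⁻¹⁻¹ := by group
    rw [this]
    exact h2

theorem chainStab_normal (Q V : Subgroup G) [hQ : Q.Normal] [hV : V.Normal] :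
    (chainStab Q V).Normal := by
  constructor
  intro d hd g q hq
  have hq' : g⁻¹ * q * g ∈ Q := by
    have := hQ.conj_mem q hq g⁻¹
    simpa using this
  have h1 := hV.conj_mem _ (hd _ hq') g
  have : g * d * g⁻¹ * q * (g * d * g⁻¹)⁻¹ * q⁻¹ =
      g * (d * (g⁻¹ * q * g) * d⁻¹ * (g⁻¹ * q * g)⁻¹) * g⁻¹ := by group
  rw [this]
  exact h1

/-- a subgroup all of whose elements of odd order are trivial is a `2`-group -/
theorem isPGroup_two_of_odd_trivial [Finite G] (H : Subgroup G)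
    (h : ∀ x ∈ H, Odd (orderOf x) → x = 1) : IsPGroup 2 H := by
  intro x
  obtain ⟨k, m, hm, hkm⟩ := Nat.exists_eq_two_pow_mul_odd (orderOf_pos (x : G)).ne'
  refine ⟨k, ?_⟩
  have hx : (x : G) ^ 2 ^ k ∈ H := H.pow_mem x.2 _
  have hord : orderOf ((x : G) ^ 2 ^ k) = m := by
    rw [orderOf_pow' _ (by positivity), hkm, Nat.gcd_eq_right (Dvd.intro _ rfl)]
    exact Nat.mul_div_cancel_left m (by positivity)
  have := h _ hx (by rw [hord]; exact hm)
  exact Subtype.ext this

/-- pulling `Involves` back along a surjection -/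
theorem involves_of_surjective' {H : Type*} [Group H] {G' : Type*} [Group G'] (f : G →* G')
    (hf : Function.Surjective f) (h : Cfsg.Involves H G') : Cfsg.Involves H G := by
  obtain ⟨K, φ, hφ⟩ := Cfsg.Agent.Lib.Helper90.exists_hom_of_involves h
  let f' : (K.comap f) →* K := (f.comp (K.comap f).subtype).codRestrict K (fun x => x.2)
  refine Cfsg.Agent.Lib.Helper90.involves_of_hom (K.comap f).subtype (φ.comp f')
    (Subgroup.subtype_injective _) ?_
  intro x
  obtain ⟨k, hk⟩ := hφ x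
  obtain ⟨g, hg⟩ := hf (k : G')
  have hgK : g ∈ K.comap f := by rw [Subgroup.mem_comap, hg]; exact k.2
  refine ⟨⟨g, hgK⟩, ?_⟩
  have : f' ⟨g, hgK⟩ = k := Subtype.ext hg
  rw [MonoidHom.comp_apply, this, hk]

set_option maxHeartbeats 1600000 in
/-- **Main theorem.** -/
theorem thompson_le_pCore [Finite G]
    (hcon : Subgroup.centralizer (Cfsg.pCore 2 G : Set G) ≤ Cfsg.pCore 2 G)
    (hS4 : ¬ Cfsg.Involves (Equiv.Perm (Fin 4)) G)
    (hEG : ∀ (D : Subgroup G) (W : Subgroup ↥D) [W.Normal], D.Normal →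
      Cfsg.pCore 2 (↥D ⧸ Subgroup.centralizer (W : Set ↥D)) = ⊥ →
      EndGame (↥D ⧸ Subgroup.centralizer (W : Set ↥D)))
    (S : Sylow 2 G) (hcl : Subgroup.lowerCentralSeries (S : Subgroup G) 2 = ⊥) :
    Cfsg.thompsonSubgroupOf 2 (S : Subgroup G) ≤ Cfsg.pCore 2 G := by
  classical
  haveI : Fact (Nat.Prime 2) := ⟨Nat.prime_two⟩
  set Q := Cfsg.pCore 2 G with hQdef
  haveI hQn : Q.Normal := Cfsg.Agent.Lib.Helper01.pCore_normal 2
  have hQ2 : IsPGroup 2 Q := Cfsg.Agent.Lib.Helper01.pCore_isPGroup 2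
  have hQS : Q ≤ (S : Subgroup G) := Cfsg.Agent.Lib.Helper01.pCore_le_sylow S
  set V := omegaCenter Q with hVdef
  haveI hVn : V.Normal := omegaCenter_normal Q
  have hVQ : V ≤ Q := omegaCenter_le Q
  have hVc : ∀ a ∈ V, ∀ b ∈ V, a * b = b * a := fun a ha b hb => hb.2.1 a ha.1
  have hV2 : IsPGroup 2 V := hQ2.to_le hVQ
  have hQCV : Q ≤ Subgroup.centralizer (V : Set G) := by
    intro q hq
    rw [Subgroup.mem_centralizer_iff]
    intro v hv
    exact (hv.2.1 q hq).symm
  set D := chainStab Q V with hDdef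
  haveI hDn : D.Normal := chainStab_normal Q V
  have hVD : V ≤ D := by
    intro v hv q hq
    have : v * q * v⁻¹ * q⁻¹ = 1 := by
      rw [← hv.2.1 q hq]; group
    rw [this]; exact V.one_mem
  -- `D ∩ C_G(V)` is a 2-group, hence inside `Q`
  have hDC2 : IsPGroup 2 (D ⊓ Subgroup.centralizer (V : Set G) : Subgroup G) := by
    apply isPGroup_two_of_odd_trivial
    intro x hx hodd
    have hxD : x ∈ D := hx.1
    have hxC : ∀ v ∈ V, x * v = v * x := by
      intro v hv
      exact (Subgroup.mem_centralizer_iff.mp hx.2 v hv).symm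
    have hxQ : x ∈ Subgroup.centralizer (Q : Set G) := by
      rw [Subgroup.mem_centralizer_iff]
      intro q hq
      -- `x q x⁻¹ = q w` with `w ∈ V`
      have hw : q⁻¹ * (x * q * x⁻¹ * q⁻¹) * q⁻¹⁻¹ ∈ V := hVn.conj_mem _ (hxD q hq) q⁻¹
      set w := q⁻¹ * (x * q * x⁻¹ * q⁻¹) * q⁻¹⁻¹ with hwdef
      have h1 : x * q * x⁻¹ = q * w := by rw [hwdef]; group
      have h2 : x * w * x⁻¹ = w := by rw [hxC w hw]; group
      have h3 := conj_pow_eq x q w h1 h2 (orderOf x)
      rw [pow_orderOf_eq_one] at h3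
      have hwn : w ^ orderOf x = 1 := by
        have : q * w ^ orderOf x = q * 1 := by
          rw [mul_one, ← h3]; group
        exact mul_left_cancel this
      have hw2 : w ^ 2 = 1 := hw.2.2
      have hw1 : w = 1 := by
        have hd1 : orderOf w ∣ orderOf x := orderOf_dvd_of_pow_eq_one hwn
        have hd2 : orderOf w ∣ 2 := orderOf_dvd_of_pow_eq_one hw2
        have hcop : Nat.Coprime (orderOf x) 2 := Nat.Coprime.symm (Nat.coprime_two_left.mpr hodd)
        have := Nat.eq_one_of_dvd_coprimes hcop hd1 hd2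
        exact orderOf_eq_one_iff.mp this
      rw [hw1, mul_one] at h1
      calc q * x = (x * q * x⁻¹)⁻¹⁻¹ * x := by rw [h1]; group
        _ = x * q := by group
    have hxQ' : x ∈ Q := hcon hxQ
    obtain ⟨k, hk⟩ := hQ2 ⟨x, hxQ'⟩
    have hk' : x ^ 2 ^ k = 1 := by
      have := congrArg Subtype.val hk
      simpa using this
    have hd1 : orderOf x ∣ 2 ^ k := orderOf_dvd_of_pow_eq_one hk'
    have hcop : Nat.Coprime (orderOf x) (2 ^ k) :=
      Nat.Coprime.pow_right _ (Nat.Coprime.symm (Nat.coprime_two_left.mpr hodd))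
    have := Nat.eq_one_of_dvd_coprimes hcop (dvd_refl _) hd1
    exact orderOf_eq_one_iff.mp this
  have hDCn : (D ⊓ Subgroup.centralizer (V : Set G) : Subgroup G).Normal := inferInstance
  have hDCQ : D ⊓ Subgroup.centralizer (V : Set G) ≤ Q :=
    Cfsg.Agent.Lib.Helper01.le_pCore hDCn hDC2
  -- class two
  have hSS : ⁅(S : Subgroup G), (S : Subgroup G)⁆ ≤ Subgroup.centralizer ((S : Subgroup G) : Set G) := by
    have : ⁅⁅(S : Subgroup G), (S : Subgroup G)⁆, (S : Subgroup G)⁆ = ⊥ := hcl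
    exact Subgroup.commutator_eq_bot_iff_le_centralizer.mp this
  -- every maximal elementary abelian subgroup lies in `Q`
  rw [Cfsg.Agent.Lib.Helper15.thompsonSubgroupOf_eq]
  apply sSup_le
  rintro A ⟨hAS, hAe, hAmax⟩
  rw [Cfsg.Agent.Lib.Helper99.isEA_iff] at hAe
  obtain ⟨hAc, hA2⟩ := hAe
  -- `A ≤ D`
  have hAD : A ≤ D := by
    intro a ha q hq
    have haS : a ∈ (S : Subgroup G) := hAS ha
    have hqS : q ∈ (S : Subgroup G) := hQS hq
    have hcomm : a * q * a⁻¹ * q⁻¹ ∈ ⁅(S : Subgroup G), (S : Subgroup G)⁆ := by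
      have := Subgroup.commutator_mem_commutator haS hqS
      rwa [commutatorElement_def] at this
    have hcent := Subgroup.mem_centralizer_iff.mp (hSS hcomm)
    refine ⟨?_, ?_, ?_⟩
    · exact Q.mul_mem (hQn.conj_mem q hq a) (Q.inv_mem hq)
    · intro q' hq'
      exact hcent q' (hQS hq')
    · have h1 : a * (a * q * a⁻¹ * q⁻¹) = (a * q * a⁻¹ * q⁻¹) * a := hcent a haS
      have ha2 : a * a = 1 := by rw [← pow_two]; exact hA2 a ha
      have h2 : a * (a * q * a⁻¹ * q⁻¹) * a⁻¹ = (a * q * a⁻¹ * q⁻¹)⁻¹ := by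
        calc a * (a * q * a⁻¹ * q⁻¹) * a⁻¹ = (a * a) * q * (a * a)⁻¹ * (a * q * a⁻¹)⁻¹ := by group
          _ = q * (a * q * a⁻¹)⁻¹ := by rw [ha2]; group
          _ = (a * q * a⁻¹ * q⁻¹)⁻¹ := by group
      have h3 : a * q * a⁻¹ * q⁻¹ = (a * q * a⁻¹ * q⁻¹)⁻¹ := by
        rw [← h2, h1]; group
      rw [pow_two]
      calc (a * q * a⁻¹ * q⁻¹) * (a * q * a⁻¹ * q⁻¹)
          = (a * q * a⁻¹ * q⁻¹) * (a * q * a⁻¹ * q⁻¹)⁻¹ := by rw [← h3]
        _ = 1 := mul_inv_cancel _
  -- offender inequality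
  have hoff : Nat.card V * Nat.card (A ⊓ Subgroup.centralizer (V : Set G) : Subgroup G) ≤
      Nat.card A * Nat.card (V ⊓ Subgroup.centralizer (A : Set G) : Subgroup G) := by
    set A₀ := A ⊓ Subgroup.centralizer (V : Set G) with hA₀
    have hA₀e : IsElementaryAbelian 2 A₀ := by
      rw [Cfsg.Agent.Lib.Helper99.isEA_iff]
      exact ⟨fun a ha b hb => hAc a ha.1 b hb.1, fun a ha => hA2 a ha.1⟩
    have hVe : IsElementaryAbelian 2 V := by
      rw [Cfsg.Agent.Lib.Helper99.isEA_iff]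
      exact ⟨hVc, fun v hv => hv.2.2⟩
    have hcomm : ∀ a ∈ A₀, ∀ v ∈ V, a * v = v * a := by
      intro a ha v hv
      exact (Subgroup.mem_centralizer_iff.mp ha.2 v hv).symm
    have hsupe : IsElementaryAbelian 2 (A₀ ⊔ V) :=
      Cfsg.Agent.Lib.Helper99.isEA_sup hA₀e hVe hcomm
    have hsupS : A₀ ⊔ V ≤ (S : Subgroup G) :=
      sup_le (inf_le_left.trans hAS) (hVQ.trans hQS)
    have h1 : Nat.card (A₀ ⊔ V : Subgroup G) ≤ Nat.card A := hAmax _ hsupS hsupe
    have h2 := Cfsg.Agent.Lib.Helper01.card_sup_mul_card_inf V A₀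
    have h3 : V ⊓ A₀ ≤ V ⊓ Subgroup.centralizer (A : Set G) := by
      intro x hx
      refine ⟨hx.1, Subgroup.mem_centralizer_iff.mpr ?_⟩
      intro a ha
      exact hAc a ha x hx.2.1
    have h4 := Subgroup.card_le_of_le h3
    calc Nat.card V * Nat.card A₀ = Nat.card (A₀ ⊔ V : Subgroup G) * Nat.card (V ⊓ A₀ : Subgroup G) :=
          h2.symm
      _ ≤ Nat.card A * Nat.card (V ⊓ Subgroup.centralizer (A : Set G) : Subgroup G) :=
          Nat.mul_le_mul h1 h4
  -- apply the core lemma inside `D`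
  set V' : Subgroup ↥D := V.subgroupOf D with hV'
  set E' : Subgroup ↥D := A.subgroupOf D with hE'
  haveI hV'n : V'.Normal := by rw [hV']; infer_instance
  have hV'c : ∀ a ∈ V', ∀ b ∈ V', a * b = b * a := by
    intro a ha b hb
    exact Subtype.ext (hVc a.1 (Subgroup.mem_subgroupOf.mp ha) b.1 (Subgroup.mem_subgroupOf.mp hb))
  have hV'2 : IsPGroup 2 V' := by
    intro x
    obtain ⟨k, hk⟩ := hV2 ⟨x.1.1, Subgroup.mem_subgroupOf.mp x.2⟩
    refine ⟨k, ?_⟩
    have := congrArg Subtype.val hk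
    apply Subtype.ext
    apply Subtype.ext
    simpa using this
  -- membership in the centralizer of `V'`
  have hcentV' : ∀ x : ↥D, x ∈ Subgroup.centralizer (V' : Set ↥D) ↔
      (x : G) ∈ Subgroup.centralizer (V : Set G) := by
    intro x
    rw [Subgroup.mem_centralizer_iff, Subgroup.mem_centralizer_iff]
    constructor
    · intro h v hv
      have := h ⟨v, hVD hv⟩ (Subgroup.mem_subgroupOf.mpr hv)
      exact congrArg Subtype.val this
    · intro h v hv
      exact Subtype.ext (h v.1 (Subgroup.mem_subgroupOf.mp hv))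
  have hC2' : IsPGroup 2 (Subgroup.centralizer (V' : Set ↥D)) := by
    intro x
    have hx : (x.1 : G) ∈ D ⊓ Subgroup.centralizer (V : Set G) := ⟨x.1.2, (hcentV' x.1).mp x.2⟩
    obtain ⟨k, hk⟩ := hDC2 ⟨_, hx⟩
    refine ⟨k, ?_⟩
    have := congrArg Subtype.val hk
    apply Subtype.ext
    apply Subtype.ext
    simpa using this
  have hO' : ∀ P : Subgroup ↥D, P.Normal → IsPGroup 2 P → P ≤ Subgroup.centralizer (V' : Set ↥D) := by
    intro P hPn hP2 x hx
    rw [hcentV']
    have h1 : P ≤ Cfsg.pCore 2 ↥D := Cfsg.Agent.Lib.Helper01.le_pCore hPn hP2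
    have h2 := Cfsg.Agent.Lib.Helper15.map_pCore_le_of_normal 2 D
    have h3 : (x : G) ∈ (Cfsg.pCore 2 ↥D).map D.subtype := ⟨x, h1 hx, rfl⟩
    exact hQCV (h2 h3)
  have hS4' : ¬ Cfsg.Involves (Equiv.Perm (Fin 4)) ↥D := fun h =>
    hS4 (Cfsg.Agent.Lib.Helper90.Involves.of_injective_right D.subtype D.subtype_injective h)
  have hpc' := pCore_quotient_eq_bot V' hC2' hO'
  have hEG' := hEG D V' hDn hpc'
  have hE2' : ∀ x ∈ E', x ^ 2 ∈ Subgroup.centralizer (V' : Set ↥D) := by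
    intro x hx
    have : x ^ 2 = 1 := by
      apply Subtype.ext
      have := hA2 x.1 (Subgroup.mem_subgroupOf.mp hx)
      simpa using this
    rw [this]; exact Subgroup.one_mem _
  have hEc' : ∀ x ∈ E', ∀ y ∈ E', x * y * x⁻¹ * y⁻¹ ∈ Subgroup.centralizer (V' : Set ↥D) := by
    intro x hx y hy
    have hxy : x * y = y * x :=
      Subtype.ext (hAc x.1 (Subgroup.mem_subgroupOf.mp hx) y.1 (Subgroup.mem_subgroupOf.mp hy))
    have : x * y * x⁻¹ * y⁻¹ = 1 := by rw [hxy]; group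
    rw [this]; exact Subgroup.one_mem _
  have hoff' : Nat.card V' * Nat.card (E' ⊓ Subgroup.centralizer (V' : Set ↥D) : Subgroup ↥D) ≤
      Nat.card E' * Nat.card (V' ⊓ Subgroup.centralizer (E' : Set ↥D) : Subgroup ↥D) := by
    have c1 : Nat.card V' = Nat.card V := Cfsg.Agent.Lib.Helper15.card_subgroupOf_of_le hVD
    have c2 : Nat.card E' = Nat.card A := Cfsg.Agent.Lib.Helper15.card_subgroupOf_of_le hAD
    have c3 : Nat.card (E' ⊓ Subgroup.centralizer (V' : Set ↥D) : Subgroup ↥D) ≤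
        Nat.card (A ⊓ Subgroup.centralizer (V : Set G) : Subgroup G) := by
      have hle : (E' ⊓ Subgroup.centralizer (V' : Set ↥D) : Subgroup ↥D).map D.subtype ≤
          A ⊓ Subgroup.centralizer (V : Set G) := by
        rintro _ ⟨x, hx, rfl⟩
        exact ⟨Subgroup.mem_subgroupOf.mp hx.1, (hcentV' x).mp hx.2⟩
      have := Subgroup.card_le_of_le hle
      rwa [Subgroup.card_map_of_injective D.subtype_injective] at this
    have c4 : Nat.card (V ⊓ Subgroup.centralizer (A : Set G) : Subgroup G) ≤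
        Nat.card (V' ⊓ Subgroup.centralizer (E' : Set ↥D) : Subgroup ↥D) := by
      have hle : (V ⊓ Subgroup.centralizer (A : Set G)).subgroupOf D ≤
          V' ⊓ Subgroup.centralizer (E' : Set ↥D) := by
        intro x hx
        rw [Subgroup.mem_subgroupOf] at hx
        refine ⟨Subgroup.mem_subgroupOf.mpr hx.1, Subgroup.mem_centralizer_iff.mpr ?_⟩
        intro e he
        exact Subtype.ext (Subgroup.mem_centralizer_iff.mp hx.2 e.1 (Subgroup.mem_subgroupOf.mp he))
      have := Subgroup.card_le_of_le hle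
      rwa [Cfsg.Agent.Lib.Helper15.card_subgroupOf_of_le (inf_le_left.trans hVD)] at this
    calc Nat.card V' * Nat.card (E' ⊓ Subgroup.centralizer (V' : Set ↥D) : Subgroup ↥D)
        ≤ Nat.card V * Nat.card (A ⊓ Subgroup.centralizer (V : Set G) : Subgroup G) := by
          rw [c1]; exact Nat.mul_le_mul_left _ c3
      _ ≤ Nat.card A * Nat.card (V ⊓ Subgroup.centralizer (A : Set G) : Subgroup G) := hoff
      _ ≤ Nat.card E' * Nat.card (V' ⊓ Subgroup.centralizer (E' : Set ↥D) : Subgroup ↥D) := by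
          rw [c2]; exact Nat.mul_le_mul_left _ c4
  have hfinal := offender_le_centralizer V' hV'c hV'2 hC2' hO' hS4' hEG' E' hE2' hEc' hoff'
  -- conclusion
  intro a ha
  have haD : a ∈ D := hAD ha
  have h1 : (⟨a, haD⟩ : ↥D) ∈ E' := Subgroup.mem_subgroupOf.mpr ha
  have h2 := (hcentV' _).mp (hfinal h1)
  exact hDCQ ⟨haD, h2⟩

end Cfsg.Agent.Lib.Helper39.Offender
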