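import Mathlib
import Cfsg.Prelude.Def_LocalEven
import Cfsg.Agent.Lib.Helper60.TransvectionPairFinal
import Cfsg.Agent.Lib.Helper90.Involves

set_option autoImplicit false

/-!
# An `S₃` acting on a four-group section produces `S₄`
-/

namespace Cfsg.Agent.Lib.Helper39.Quad

universe u

variable {X : Type u} [Group X] [Finite X]

/-- an element conjugating a finite subgroup into itself normalizes it -/
theorem mem_normalizer_of_conj_mem (N : Subgroup X) (x : X) (hx : ∀ n ∈ N, x * n * x⁻¹ ∈ N) :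
    x ∈ Subgroup.normalizer (N : Set X) := by
  rw [Subgroup.mem_normalizer_iff]
  intro n
  constructor
  · exact hx n
  · intro h
    let φ : ↥N → ↥N := fun m => ⟨x * m * x⁻¹, hx m m.2⟩
    have hφ : Function.Injective φ := by
      intro a b hab
      have h1 : x * (a : X) * x⁻¹ = x * (b : X) * x⁻¹ := congrArg Subtype.val hab
      apply Subtype.ext
      have h2 := congrArg (fun z => x⁻¹ * z * x) h1
      simpa [mul_assoc] using h2
    obtain ⟨m, hm⟩ := (Finite.injective_iff_surjective.mp hφ) ⟨x * n * x⁻¹, h⟩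
    have h1 : x * (m : X) * x⁻¹ = x * n * x⁻¹ := congrArg Subtype.val hm
    have h2 := congrArg (fun z => x⁻¹ * z * x) h1
    have h3 : (m : X) = n := by simpa [mul_assoc] using h2
    rw [← h3]; exact m.2

set_option maxHeartbeats 1600000 in
/-- **`S₃` on a section gives `S₄`** (via the transvection-pair lemma K53-A). -/
theorem involves_perm4_of_s3 (N : Subgroup X)
    (hNc : ∀ a ∈ N, ∀ b ∈ N, a * b = b * a) (hN2 : IsPGroup 2 N) (t t₁ : X)
    (htN : ∀ n ∈ N, t * n * t⁻¹ ∈ N) (ht₁N : ∀ n ∈ N, t₁ * n * t₁⁻¹ ∈ N)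
    (ht : ∃ j : ℕ, t ^ 2 ^ j = 1) (ht2 : ∀ n ∈ N, t ^ 2 * n = n * t ^ 2)
    (hidx : (N ⊓ Subgroup.centralizer {t}).relIndex N = 2)
    (hnf : ∀ k : ℕ, ∃ n ∈ N,
      (t * (t₁ * t * t₁⁻¹)) ^ 2 ^ k * n ≠ n * (t * (t₁ * t * t₁⁻¹)) ^ 2 ^ k) :
    Cfsg.Involves (Equiv.Perm (Fin 4)) X := by
  classical
  set K := Subgroup.normalizer (N : Set X) with hK
  have htK : t ∈ K := mem_normalizer_of_conj_mem N t htN
  have ht₁K : t₁ ∈ K := mem_normalizer_of_conj_mem N t₁ ht₁N
  have hNK : N ≤ K := Subgroup.le_normalizer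
  set V' : Subgroup ↥K := N.subgroupOf K with hV'
  haveI hV'n : V'.Normal := Subgroup.normal_in_normalizer
  have hV'c : ∀ a ∈ V', ∀ b ∈ V', a * b = b * a := by
    intro a ha b hb
    exact Subtype.ext (hNc a.1 (Subgroup.mem_subgroupOf.mp ha) b.1 (Subgroup.mem_subgroupOf.mp hb))
  have hV'2 : IsPGroup 2 V' := hN2.comap_subtype
  set a : ↥K := ⟨t, htK⟩ with ha
  set g : ↥K := ⟨t₁, ht₁K⟩ with hg
  have ha2el : ∃ j : ℕ, a ^ 2 ^ j = 1 := by
    obtain ⟨j, hj⟩ := ht
    exact ⟨j, Subtype.ext (by simpa using hj)⟩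
  have ha2 : a ^ 2 ∈ Subgroup.centralizer (V' : Set ↥K) := by
    rw [Subgroup.mem_centralizer_iff]
    intro v hv
    apply Subtype.ext
    have := ht2 v.1 (Subgroup.mem_subgroupOf.mp hv)
    simpa using this.symm
  have hmem : ∀ c : ↥K, c ∈ V' ⊓ Subgroup.centralizer ({a} : Set ↥K) ↔
      (c : X) ∈ N ⊓ Subgroup.centralizer ({t} : Set X) := by
    intro c
    rw [Subgroup.mem_inf, Subgroup.mem_inf, Subgroup.mem_centralizer_singleton_iff,
      Subgroup.mem_centralizer_singleton_iff, Subgroup.mem_subgroupOf]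
    constructor
    · rintro ⟨h1, h2⟩
      exact ⟨h1, congrArg Subtype.val h2⟩
    · rintro ⟨h1, h2⟩
      exact ⟨h1, Subtype.ext h2⟩
  have hai : (V' ⊓ Subgroup.centralizer ({a} : Set ↥K)).relIndex V' = 2 := by
    rw [Subgroup.relIndex_eq_two_iff] at hidx ⊢
    obtain ⟨n₀, hn₀, hx⟩ := hidx
    refine ⟨⟨n₀, hNK hn₀⟩, Subgroup.mem_subgroupOf.mpr hn₀, ?_⟩
    intro b hb
    have := hx b.1 (Subgroup.mem_subgroupOf.mp hb)
    rw [hmem, hmem]
    exact this
  have hnot : ¬ IsPGroup 2 (Subgroup.closure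
      ({(QuotientGroup.mk a : ↥K ⧸ Subgroup.centralizer (V' : Set ↥K)),
        (QuotientGroup.mk (g * a * g⁻¹) : ↥K ⧸ Subgroup.centralizer (V' : Set ↥K))} :
        Set (↥K ⧸ Subgroup.centralizer (V' : Set ↥K)))) := by
    intro hP
    have hz : (QuotientGroup.mk a : ↥K ⧸ Subgroup.centralizer (V' : Set ↥K)) *
        QuotientGroup.mk (g * a * g⁻¹) ∈ Subgroup.closure
      ({(QuotientGroup.mk a : ↥K ⧸ Subgroup.centralizer (V' : Set ↥K)),
        (QuotientGroup.mk (g * a * g⁻¹) : ↥K ⧸ Subgroup.centralizer (V' : Set ↥K))} :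
        Set (↥K ⧸ Subgroup.centralizer (V' : Set ↥K))) :=
      Subgroup.mul_mem _ (Subgroup.subset_closure (by simp)) (Subgroup.subset_closure (by simp))
    obtain ⟨k, hk⟩ := hP ⟨_, hz⟩
    have hk' : ((QuotientGroup.mk a : ↥K ⧸ Subgroup.centralizer (V' : Set ↥K)) *
        QuotientGroup.mk (g * a * g⁻¹)) ^ 2 ^ k = 1 := by
      have h0 := congrArg Subtype.val hk
      rw [SubgroupClass.coe_pow] at h0
      exact h0
    rw [← QuotientGroup.mk_mul, ← QuotientGroup.mk_pow, QuotientGroup.eq_one_iff] at hk'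
    obtain ⟨n, hn, hne⟩ := hnf k
    apply hne
    have := Subgroup.mem_centralizer_iff.mp hk' ⟨n, hNK hn⟩ (Subgroup.mem_subgroupOf.mpr hn)
    have h2 := congrArg Subtype.val this
    simpa [ha, hg] using h2.symm
  have key := Cfsg.Agent.Lib.Helper60.TransvectionPair.involves_perm4_of_transvection_pair V' hV'c
    hV'2 a ha2el ha2 hai g hnot
  exact Cfsg.Agent.Lib.Helper90.Involves.of_injective_right K.subtype K.subtype_injective key

end Cfsg.Agent.Lib.Helper39.Quad
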