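import Mathlib

set_option autoImplicit false

/-!
# Quadratic Sylow `2`-subgroups and offenders: basic definitions

A finite group `G` acts on an elementary abelian `2`-group `V` (written additively) via
`ρ : G →* AddMonoid.End V`.
-/

namespace Cfsg.Agent.Lib.Helper39.Quad

universe u

variable {G : Type*} [Group G] {V : Type*} [AddCommGroup V]

theorem rho_mul_apply (ρ : G →* AddMonoid.End V) (x y : G) (v : V) :
    ρ (x * y) v = ρ x (ρ y v) := by
  rw [map_mul]; rfl

theorem rho_one_apply (ρ : G →* AddMonoid.End V) (v : V) : ρ 1 v = v := by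
  rw [map_one]; rfl

theorem rho_inv_apply (ρ : G →* AddMonoid.End V) (x : G) (v : V) : ρ x⁻¹ (ρ x v) = v := by
  rw [← rho_mul_apply, inv_mul_cancel, rho_one_apply]

theorem rho_apply_inv (ρ : G →* AddMonoid.End V) (x : G) (v : V) : ρ x (ρ x⁻¹ v) = v := by
  rw [← rho_mul_apply, mul_inv_cancel, rho_one_apply]

/-- fixed points of a subgroup -/
def fixedPts (ρ : G →* AddMonoid.End V) (H : Subgroup G) : AddSubgroup V where
  carrier := {v | ∀ h ∈ H, ρ h v = v}
  zero_mem' := fun h _ => map_zero _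
  add_mem' := by
    intro a b ha hb h hh
    rw [map_add, ha h hh, hb h hh]
  neg_mem' := by
    intro a ha h hh
    rw [map_neg, ha h hh]

theorem mem_fixedPts {ρ : G →* AddMonoid.End V} {H : Subgroup G} {v : V} :
    v ∈ fixedPts ρ H ↔ ∀ h ∈ H, ρ h v = v := Iff.rfl

theorem fixedPts_anti (ρ : G →* AddMonoid.End V) {H K : Subgroup G} (h : H ≤ K) :
    fixedPts ρ K ≤ fixedPts ρ H := fun _ hv x hx => hv x (h hx)

/-- elements acting trivially on `V / A` -/
def trivOn (ρ : G →* AddMonoid.End V) (A : AddSubgroup V) : Subgroup G where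
  carrier := {x | ∀ v, ρ x v - v ∈ A}
  one_mem' := by
    intro v
    rw [rho_one_apply, sub_self]
    exact A.zero_mem
  mul_mem' := by
    intro x y hx hy v
    have : ρ (x * y) v - v = (ρ x (ρ y v) - ρ y v) + (ρ y v - v) := by
      rw [rho_mul_apply]; abel
    rw [this]; exact A.add_mem (hx _) (hy _)
  inv_mem' := by
    intro x hx v
    have h := hx (ρ x⁻¹ v)
    rw [rho_apply_inv] at h
    have : ρ x⁻¹ v - v = -(v - ρ x⁻¹ v) := by abel
    rw [this]; exact A.neg_mem h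

theorem mem_trivOn {ρ : G →* AddMonoid.End V} {A : AddSubgroup V} {x : G} :
    x ∈ trivOn ρ A ↔ ∀ v, ρ x v - v ∈ A := Iff.rfl

theorem map_mem_of_trivOn {ρ : G →* AddMonoid.End V} {A : AddSubgroup V} {x : G}
    (hx : ∀ v, ρ x v - v ∈ A) {a : V} (ha : a ∈ A) : ρ x a ∈ A := by
  have := A.add_mem (hx a) ha
  simpa using this

/-- pointwise stabilizer of `A` -/
def ptStab (ρ : G →* AddMonoid.End V) (A : AddSubgroup V) : Subgroup G where
  carrier := {x | ∀ a ∈ A, ρ x a = a}
  one_mem' := by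
    intro a _
    exact rho_one_apply ρ a
  mul_mem' := by
    intro x y hx hy a ha
    rw [rho_mul_apply, hy a ha, hx a ha]
  inv_mem' := by
    intro x hx a ha
    have := rho_inv_apply ρ x a
    rw [hx a ha] at this
    exact this

theorem mem_ptStab {ρ : G →* AddMonoid.End V} {A : AddSubgroup V} {x : G} :
    x ∈ ptStab ρ A ↔ ∀ a ∈ A, ρ x a = a := Iff.rfl

/-- The `S₃`-configuration: two elements inducing `SL₂(2)` on a two-dimensional section
`(⟨u, w⟩ + N₀) / N₀` with `N₀` fixed pointwise. -/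
def HasS3 (ρ : G →* AddMonoid.End V) : Prop :=
  ∃ (t t₁ : G) (N₀ : AddSubgroup V) (u w : V),
    (∃ j : ℕ, t ^ 2 ^ j = 1) ∧ (∃ j : ℕ, t₁ ^ 2 ^ j = 1) ∧
    (∀ n ∈ N₀, ρ t n = n) ∧ (∀ n ∈ N₀, ρ t₁ n = n) ∧ u ∉ N₀ ∧ w ∉ N₀ ∧ u + w ∉ N₀ ∧
    ρ t u - u - w ∈ N₀ ∧ ρ t w = w ∧ ρ t₁ w - w - u ∈ N₀ ∧ ρ t₁ u = u

/-- restriction of the action to a subgroup `A` such that the action on `V / A` is trivial -/
def resHom (ρ : G →* AddMonoid.End V) (A : AddSubgroup V) (hA : ∀ x v, ρ x v - v ∈ A) :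
    G →* AddMonoid.End ↥A where
  toFun x := AddMonoidHom.codRestrict ((ρ x).comp A.subtype) A
    (fun a => map_mem_of_trivOn (hA x) a.2)
  map_one' := by
    ext a
    show ρ 1 (a : V) = a
    exact rho_one_apply ρ a
  map_mul' x y := by
    ext a
    show ρ (x * y) (a : V) = ρ x (ρ y (a : V))
    exact rho_mul_apply ρ x y a

@[simp] theorem resHom_apply_coe (ρ : G →* AddMonoid.End V) (A : AddSubgroup V)
    (hA : ∀ x v, ρ x v - v ∈ A) (x : G) (a : ↥A) :
    ((resHom ρ A hA x a : ↥A) : V) = ρ x a := rfl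

end Cfsg.Agent.Lib.Helper39.Quad
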