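import Mathlib
import Cfsg.Agent.Lib.Helper39.QuadBase

set_option autoImplicit false

/-!
# Quadratic Sylow `2`-subgroups and offenders: general lemmas
-/

namespace Cfsg.Agent.Lib.Helper39.Quad

universe u

variable {G : Type*} [Group G] {V : Type*} [AddCommGroup V]

/-- product formula for subgroups of an abelian group -/
theorem add_card_sup_mul_card_inf [Finite V] (N X : AddSubgroup V) :
    Nat.card (X ⊔ N : AddSubgroup V) * Nat.card (N ⊓ X : AddSubgroup V) =
      Nat.card N * Nat.card X := by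
  have h1 : N.relIndex (X ⊔ N) = N.relIndex X := AddSubgroup.relIndex_sup_right X N
  have h2 := (N.addSubgroupOf (X ⊔ N)).card_mul_index
  have h3 := (N.addSubgroupOf X).card_mul_index
  have e2 : Nat.card (N.addSubgroupOf (X ⊔ N)) = Nat.card N :=
    Nat.card_congr (AddSubgroup.addSubgroupOfEquivOfLe le_sup_right).toEquiv
  have e3 : Nat.card (N.addSubgroupOf X) = Nat.card (N ⊓ X : AddSubgroup V) := by
    rw [← AddSubgroup.inf_addSubgroupOf_right]
    exact Nat.card_congr (AddSubgroup.addSubgroupOfEquivOfLe inf_le_right).toEquiv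
  rw [e2] at h2
  rw [e3] at h3
  change Nat.card N * N.relIndex (X ⊔ N) = _ at h2
  change _ * N.relIndex X = _ at h3
  rw [← h2, ← h3, h1]
  ring

/-- the arithmetic behind the transfer of the offender inequality to a section -/
theorem section_ineq [Finite V] (A ZF ZE : AddSubgroup V) (hle : A ⊔ ZF ≤ ZE) (e f : ℕ)
    (h1 : e * Nat.card ZE ≤ Nat.card V) (h2 : Nat.card V ≤ f * Nat.card ZF) :
    Nat.card A * e ≤ f * Nat.card (A ⊓ ZF : AddSubgroup V) := by
  have h3 := add_card_sup_mul_card_inf ZF A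
  have h4 : Nat.card (A ⊔ ZF : AddSubgroup V) ≤ Nat.card ZE := AddSubgroup.card_le_of_le hle
  have hpos : 0 < Nat.card ZF := Nat.card_pos
  have h5 : Nat.card A * e * Nat.card ZF ≤ f * Nat.card (A ⊓ ZF : AddSubgroup V) * Nat.card ZF := by
    have e1 : Nat.card (ZF ⊓ A : AddSubgroup V) = Nat.card (A ⊓ ZF : AddSubgroup V) := by
      rw [inf_comm]
    calc Nat.card A * e * Nat.card ZF = (Nat.card ZF * Nat.card A) * e := by ring
      _ = Nat.card (A ⊔ ZF : AddSubgroup V) * Nat.card (ZF ⊓ A : AddSubgroup V) * e := by rw [h3]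
      _ ≤ Nat.card ZE * Nat.card (ZF ⊓ A : AddSubgroup V) * e :=
          Nat.mul_le_mul_right _ (Nat.mul_le_mul_right _ h4)
      _ = (e * Nat.card ZE) * Nat.card (A ⊓ ZF : AddSubgroup V) := by rw [e1]; ring
      _ ≤ Nat.card V * Nat.card (A ⊓ ZF : AddSubgroup V) := Nat.mul_le_mul_right _ h1
      _ ≤ (f * Nat.card ZF) * Nat.card (A ⊓ ZF : AddSubgroup V) := Nat.mul_le_mul_right _ h2
      _ = f * Nat.card (A ⊓ ZF : AddSubgroup V) * Nat.card ZF := by ring
  exact Nat.le_of_mul_le_mul_right h5 hpos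

/-- every `2`-subgroup acts quadratically -/
def AllQuad (ρ : G →* AddMonoid.End V) : Prop :=
  ∀ H : Subgroup G, IsPGroup 2 H → ∀ s ∈ H, ∀ t ∈ H, ∀ v, ρ s (ρ t v - v) = ρ t v - v

theorem neg_eq_self_of_two (hV2 : ∀ v : V, v + v = 0) (v : V) : -v = v :=
  neg_eq_of_add_eq_zero_left (hV2 v)

theorem AllQuad.comm_mem_fixedPts {ρ : G →* AddMonoid.End V} (hq : AllQuad ρ) {H : Subgroup G}
    (hH : IsPGroup 2 H) {t : G} (ht : t ∈ H) (v : V) : ρ t v - v ∈ fixedPts ρ H :=
  fun s hs => hq H hH s hs t ht v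

theorem AllQuad.sq_apply {ρ : G →* AddMonoid.End V} (hq : AllQuad ρ) (hV2 : ∀ v : V, v + v = 0)
    {H : Subgroup G} (hH : IsPGroup 2 H) {t : G} (ht : t ∈ H) (v : V) : ρ t (ρ t v) = v := by
  have h := hq H hH t ht t ht v
  rw [map_sub] at h
  have h2 : ρ t (ρ t v) = (ρ t v + ρ t v) - v := by
    have : ρ t (ρ t v) = (ρ t (ρ t v) - ρ t v) + ρ t v := by abel
    rw [this, h]; abel
  rw [h2, hV2, zero_sub, neg_eq_self_of_two hV2]

/-- an element acting trivially on `A` and on `V / A` acts as an involution -/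
theorem sq_apply_of_triv {ρ : G →* AddMonoid.End V} (hV2 : ∀ v : V, v + v = 0) {A : AddSubgroup V}
    {x : G} (h1 : ∀ v, ρ x v - v ∈ A) (h2 : ∀ a ∈ A, ρ x a = a) (v : V) : ρ x (ρ x v) = v := by
  have h3 := h2 _ (h1 v)
  rw [map_sub] at h3
  have h4 : ρ x (ρ x v) = (ρ x v + ρ x v) - v := by
    have : ρ x (ρ x v) = (ρ x (ρ x v) - ρ x v) + ρ x v := by abel
    rw [this, h3]; abel
  rw [h4, hV2, zero_sub, neg_eq_self_of_two hV2]

theorem sq_eq_one_of_triv {ρ : G →* AddMonoid.End V} (hinj : Function.Injective ρ)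
    (hV2 : ∀ v : V, v + v = 0) {A : AddSubgroup V}
    {x : G} (h1 : ∀ v, ρ x v - v ∈ A) (h2 : ∀ a ∈ A, ρ x a = a) : x * x = 1 := by
  apply hinj
  ext v
  rw [rho_mul_apply, rho_one_apply]
  exact sq_apply_of_triv hV2 h1 h2 v

/-- a subgroup of exponent two is a `2`-group -/
theorem isPGroup_two_of_sq {K : Subgroup G} (h : ∀ x ∈ K, x * x = 1) : IsPGroup 2 K := by
  intro x
  refine ⟨1, ?_⟩
  rw [pow_one, pow_two]
  exact Subtype.ext (h x x.2)

/-- fixed points of a conjugate subgroup -/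
theorem mem_fixedPts_conj {ρ : G →* AddMonoid.End V} {H : Subgroup G} (g : G) {v : V} :
    v ∈ fixedPts ρ (H.map (MulAut.conj g).toMonoidHom) ↔ ρ g⁻¹ v ∈ fixedPts ρ H := by
  constructor
  · intro hv h hh
    have := hv (g * h * g⁻¹) ⟨h, hh, rfl⟩
    rw [rho_mul_apply, rho_mul_apply] at this
    have h2 := congrArg (ρ g⁻¹) this
    rw [rho_inv_apply] at h2
    exact h2
  · rintro hv _ ⟨h, hh, rfl⟩
    show ρ (g * h * g⁻¹) v = v
    rw [rho_mul_apply, rho_mul_apply, hv h hh, rho_apply_inv]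

theorem card_fixedPts_conj [Finite V] (ρ : G →* AddMonoid.End V) (H : Subgroup G) (g : G) :
    Nat.card (fixedPts ρ (H.map (MulAut.conj g).toMonoidHom)) = Nat.card (fixedPts ρ H) := by
  refine Nat.card_congr
    { toFun := fun v => ⟨ρ g⁻¹ v, (mem_fixedPts_conj g).mp v.2⟩
      invFun := fun v => ⟨ρ g v, (mem_fixedPts_conj g).mpr (by rw [rho_inv_apply]; exact v.2)⟩
      left_inv := fun v => Subtype.ext (rho_apply_inv ρ g v)
      right_inv := fun v => Subtype.ext (rho_inv_apply ρ g v) }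

theorem AllQuad.comp {ρ : G →* AddMonoid.End V} (hq : AllQuad ρ) {H : Type*} [Group H]
    (ι : H →* G) : AllQuad (ρ.comp ι) := by
  intro K hK s hs t ht v
  exact hq (K.map ι) (hK.map ι) (ι s) ⟨s, hs, rfl⟩ (ι t) ⟨t, ht, rfl⟩ v

end Cfsg.Agent.Lib.Helper39.Quad
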