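import Mathlib
import Cfsg.Agent.Lib.Helper39.QuadLemmas
import Cfsg.Agent.Lib.Helper39.FourCent

set_option autoImplicit false

/-!
# Quadratic Sylow `2`-subgroups and offenders: passing to a section
-/

namespace Cfsg.Agent.Lib.Helper39.Quad

universe u

/-- the inductive statement: systems of size `< n` with a nontrivial offender have an `S₃`-configuration -/
def Good (n : ℕ) : Prop :=
  ∀ (G : Type u) [Group G] [Finite G] (V : Type u) [AddCommGroup V] [Finite V]
    (ρ : G →* AddMonoid.End V),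
    Nat.card G + Nat.card V < n → Function.Injective ρ → (∀ v : V, v + v = 0) →
    (∀ N : Subgroup G, N.Normal → IsPGroup 2 N → N = ⊥) → AllQuad ρ →
    ∀ F : Subgroup G, IsPGroup 2 F → F ≠ ⊥ →
      Nat.card V ≤ Nat.card F * Nat.card (fixedPts ρ F) → HasS3 ρ

/-- the quotient by the kernel acts faithfully -/
def kerLift' {H : Type*} [Group H] {M : Type*} [Monoid M] (φ : H →* M) : H ⧸ φ.ker →* M :=
  QuotientGroup.lift φ.ker φ (le_refl _)

theorem kerLift'_mk {H : Type*} [Group H] {M : Type*} [Monoid M] (φ : H →* M) (x : H) :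
    kerLift' φ (QuotientGroup.mk x) = φ x := rfl

theorem kerLift'_injective {H : Type*} [Group H] {M : Type*} [Monoid M] (φ : H →* M) :
    Function.Injective (kerLift' φ) := by
  intro a b hab
  induction a using QuotientGroup.induction_on with
  | H x =>
    induction b using QuotientGroup.induction_on with
    | H y =>
      rw [kerLift'_mk, kerLift'_mk] at hab
      rw [QuotientGroup.eq]
      rw [MonoidHom.mem_ker, map_mul, ← hab, ← map_mul, inv_mul_cancel, map_one]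

set_option maxHeartbeats 800000 in
/-- **Section step**: restrict the action to a subgroup `A` with trivial action on `V / A`
and divide out the kernel. -/
theorem sec_step {n : ℕ} (IH : Good.{u} n) {H : Type u} [Group H] [Finite H] {V : Type u}
    [AddCommGroup V] [Finite V]
    (ρ : H →* AddMonoid.End V) (hinj : Function.Injective ρ) (hV2 : ∀ v : V, v + v = 0)
    (hq : AllQuad ρ) (A : AddSubgroup V) (hA : ∀ x v, ρ x v - v ∈ A)
    (hO : ∀ N : Subgroup H, N.Normal → IsPGroup 2 N → N ≤ ptStab ρ A)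
    (hm : Nat.card H + Nat.card A < n)
    (F : Subgroup H) (hF2 : IsPGroup 2 F) (hF1 : ¬ F ≤ ptStab ρ A)
    (hoff : Nat.card A * Nat.card (F ⊓ ptStab ρ A : Subgroup H) ≤
      Nat.card F * Nat.card (A ⊓ fixedPts ρ F : AddSubgroup V)) : HasS3 ρ := by
  classical
  have : Fact (Nat.Prime 2) := ⟨Nat.prime_two⟩
  set ρ₀ := resHom ρ A hA with hρ₀
  have hker : ∀ x : H, x ∈ ρ₀.ker ↔ x ∈ ptStab ρ A := by
    intro x
    rw [MonoidHom.mem_ker]
    constructor
    · intro h a ha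
      have := congrArg (fun φ : AddMonoid.End ↥A => ((φ ⟨a, ha⟩ : ↥A) : V)) h
      exact this
    · intro h
      ext a
      exact h a a.2
  have hkerEq : ρ₀.ker = ptStab ρ A := by
    ext x; exact hker x
  have hK2 : IsPGroup 2 ρ₀.ker := by
    apply isPGroup_two_of_sq
    intro x hx
    exact sq_eq_one_of_triv hinj hV2 (hA x) ((hker x).mp hx)
  let ρ' : H ⧸ ρ₀.ker →* AddMonoid.End ↥A := kerLift' ρ₀
  have hρ'inj : Function.Injective ρ' := kerLift'_injective ρ₀
  have hρ'mk : ∀ x : H, ρ' (QuotientGroup.mk x) = ρ₀ x := fun x => kerLift'_mk ρ₀ x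
  have hπs : Function.Surjective (QuotientGroup.mk' ρ₀.ker) := QuotientGroup.mk'_surjective _
  have hcomap2 : ∀ H' : Subgroup (H ⧸ ρ₀.ker), IsPGroup 2 H' →
      IsPGroup 2 (H'.comap (QuotientGroup.mk' ρ₀.ker)) := by
    intro H' hH'
    refine IsPGroup.comap_of_ker_isPGroup hH' _ ?_
    rw [QuotientGroup.ker_mk']; exact hK2
  -- apply the induction hypothesis
  have hcard : Nat.card (H ⧸ ρ₀.ker) + Nat.card ↥A < n := by
    have : Nat.card (H ⧸ ρ₀.ker) ≤ Nat.card H := Nat.card_le_card_of_surjective _ hπs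
    omega
  have hV2' : ∀ a : ↥A, a + a = 0 := fun a => Subtype.ext (hV2 a)
  have hO' : ∀ N : Subgroup (H ⧸ ρ₀.ker), N.Normal → IsPGroup 2 N → N = ⊥ := by
    intro N hNn hN2
    have h1 := hO (N.comap (QuotientGroup.mk' ρ₀.ker)) (hNn.comap _) (hcomap2 N hN2)
    rw [eq_bot_iff]
    intro y hy
    obtain ⟨x, rfl⟩ := hπs y
    have hx : x ∈ ρ₀.ker := (hker x).mpr (h1 (Subgroup.mem_comap.mpr hy))
    rw [Subgroup.mem_bot]
    exact (QuotientGroup.eq_one_iff x).mpr hx
  have hq' : AllQuad ρ' := by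
    intro H' hH' s hs t ht a
    obtain ⟨x, rfl⟩ := hπs s
    obtain ⟨y, rfl⟩ := hπs t
    have hx : x ∈ H'.comap (QuotientGroup.mk' ρ₀.ker) := Subgroup.mem_comap.mpr hs
    have hy : y ∈ H'.comap (QuotientGroup.mk' ρ₀.ker) := Subgroup.mem_comap.mpr ht
    have := hq _ (hcomap2 H' hH') x hx y hy (a : V)
    show ρ' (QuotientGroup.mk x) (ρ' (QuotientGroup.mk y) a - a) = ρ' (QuotientGroup.mk y) a - a
    rw [hρ'mk, hρ'mk]
    apply Subtype.ext
    exact this
  set F' := F.map (QuotientGroup.mk' ρ₀.ker) with hF'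
  have hF'2 : IsPGroup 2 F' := hF2.map _
  have hF'ne : F' ≠ ⊥ := by
    intro h
    apply hF1
    intro f hf
    have : (QuotientGroup.mk' ρ₀.ker) f ∈ F' := ⟨f, hf, rfl⟩
    rw [h, Subgroup.mem_bot] at this
    exact (hker f).mp ((QuotientGroup.eq_one_iff f).mp this)
  have hFcard : Nat.card F = Nat.card (F ⊓ ptStab ρ A : Subgroup H) * Nat.card F' := by
    have h1 := Cfsg.Agent.Lib.Helper39.FourCent.card_mul_relIndex'
      (inf_le_left : F ⊓ ρ₀.ker ≤ F)
    rw [inf_comm, Subgroup.inf_relIndex_right] at h1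
    have h2 := Subgroup.relIndex_ker F (QuotientGroup.mk' ρ₀.ker)
    rw [QuotientGroup.ker_mk'] at h2
    rw [h2, inf_comm] at h1
    have e : F ⊓ ρ₀.ker = F ⊓ ptStab ρ A := by rw [hkerEq]
    rw [e] at h1
    exact h1.symm
  have hfix : Nat.card (A ⊓ fixedPts ρ F : AddSubgroup V) ≤ Nat.card (fixedPts ρ' F') := by
    refine Nat.card_le_card_of_injective
      (fun v => (⟨⟨v.1, v.2.1⟩, ?_⟩ : fixedPts ρ' F')) ?_
    · rintro _ ⟨f, hf, rfl⟩
      show ρ' (QuotientGroup.mk f) ⟨v.1, v.2.1⟩ = ⟨v.1, v.2.1⟩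
      rw [hρ'mk]
      apply Subtype.ext
      exact v.2.2 f hf
    · intro v v' h
      apply Subtype.ext
      have := congrArg (fun z : fixedPts ρ' F' => ((z : ↥A) : V)) h
      exact this
  have hoff' : Nat.card ↥A ≤ Nat.card F' * Nat.card (fixedPts ρ' F') := by
    have hpos : 0 < Nat.card (F ⊓ ptStab ρ A : Subgroup H) := Nat.card_pos
    have h1 : Nat.card (F ⊓ ptStab ρ A : Subgroup H) * Nat.card A ≤
        Nat.card (F ⊓ ptStab ρ A : Subgroup H) *
          (Nat.card F' * Nat.card (A ⊓ fixedPts ρ F : AddSubgroup V)) := by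
      calc Nat.card (F ⊓ ptStab ρ A : Subgroup H) * Nat.card A
          = Nat.card A * Nat.card (F ⊓ ptStab ρ A : Subgroup H) := mul_comm _ _
        _ ≤ Nat.card F * Nat.card (A ⊓ fixedPts ρ F : AddSubgroup V) := hoff
        _ = _ := by rw [hFcard]; ring
    have h2 := Nat.le_of_mul_le_mul_left h1 hpos
    exact h2.trans (Nat.mul_le_mul_left _ hfix)
  obtain ⟨t', t₁', N₀', u', w', ht', ht₁', h1, h2, h3, h4, h5, h6, h7, h8, h9⟩ :=
    IH (H ⧸ ρ₀.ker) ↥A ρ' hcard hρ'inj hV2' hO' hq' F' hF'2 hF'ne hoff'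
  obtain ⟨t, rfl⟩ := hπs t'
  obtain ⟨t₁, rfl⟩ := hπs t₁'
  have e1 : ρ' ((QuotientGroup.mk' ρ₀.ker) t) = ρ₀ t := hρ'mk t
  have e2 : ρ' ((QuotientGroup.mk' ρ₀.ker) t₁) = ρ₀ t₁ := hρ'mk t₁
  rw [e1] at h1 h6 h7
  rw [e2] at h2 h8 h9
  have hlift : ∀ x : H, (∃ j : ℕ, ((QuotientGroup.mk' ρ₀.ker) x) ^ 2 ^ j = 1) →
      ∃ j : ℕ, x ^ 2 ^ j = 1 := by
    rintro x ⟨j, hj⟩
    rw [← map_pow] at hj
    have hx : x ^ 2 ^ j ∈ ρ₀.ker := (QuotientGroup.eq_one_iff _).mp hj
    obtain ⟨i, hi⟩ := hK2 ⟨x ^ 2 ^ j, hx⟩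
    refine ⟨j + i, ?_⟩
    have := congrArg Subtype.val hi
    rw [pow_add, pow_mul]
    simpa using this
  have hmem : ∀ a : ↥A, (a : V) ∈ N₀'.map A.subtype ↔ a ∈ N₀' := by
    intro a
    constructor
    · rintro ⟨b, hb, hba⟩
      have : b = a := Subtype.ext hba
      rwa [← this]
    · intro ha
      exact ⟨a, ha, rfl⟩
  refine ⟨t, t₁, N₀'.map A.subtype, u', w', hlift t ht', hlift t₁ ht₁', ?_, ?_, ?_, ?_, ?_, ?_, ?_,
    ?_, ?_⟩
  · rintro _ ⟨b, hb, rfl⟩
    have := congrArg (fun z : ↥A => (z : V)) (h1 b hb)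
    exact this
  · rintro _ ⟨b, hb, rfl⟩
    have := congrArg (fun z : ↥A => (z : V)) (h2 b hb)
    exact this
  · rw [hmem]; exact h3
  · rw [hmem]; exact h4
  · have : (u' : V) + (w' : V) = ((u' + w' : ↥A) : V) := rfl
    rw [this, hmem]; exact h5
  · have : ρ t (u' : V) - (u' : V) - (w' : V) = ((ρ₀ t u' - u' - w' : ↥A) : V) := rfl
    rw [this, hmem]; exact h6
  · exact congrArg (fun z : ↥A => (z : V)) h7
  · have : ρ t₁ (w' : V) - (w' : V) - (u' : V) = ((ρ₀ t₁ w' - w' - u' : ↥A) : V) := rfl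
    rw [this, hmem]; exact h8
  · exact congrArg (fun z : ↥A => (z : V)) h9

end Cfsg.Agent.Lib.Helper39.Quad
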