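import Mathlib
import Cfsg.Agent.Lib.Helper39.QuadSec

set_option autoImplicit false

/-!
# Quadratic Sylow `2`-subgroups and offenders: the first step

For a minimal offender `F` inside a Sylow `2`-subgroup `P` and any other Sylow `2`-subgroup `P₁`:
either `F ≤ P₁`, or `P ∩ P₁ = 1` and `⟨P, P₁⟩ = G` (if there is no `S₃`-configuration and the
theorem holds for smaller systems).
-/

namespace Cfsg.Agent.Lib.Helper39.Quad

open scoped Pointwise

universe u

variable {G : Type u} [Group G] [Finite G] {V : Type u} [AddCommGroup V] [Finite V]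

/-- nontrivial offenders which are `2`-groups -/
def Off (ρ : G →* AddMonoid.End V) (E : Subgroup G) : Prop :=
  IsPGroup 2 E ∧ E ≠ ⊥ ∧ Nat.card V ≤ Nat.card E * Nat.card (fixedPts ρ E)

/-- offenders of minimal order -/
def IsMinOff (ρ : G →* AddMonoid.End V) (E : Subgroup G) : Prop :=
  Off ρ E ∧ ∀ E' : Subgroup G, Off ρ E' → Nat.card E ≤ Nat.card E'

theorem Off.conj {ρ : G →* AddMonoid.End V} {E : Subgroup G} (h : Off ρ E) (g : G) :
    Off ρ (E.map (MulAut.conj g).toMonoidHom) := by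
  refine ⟨h.1.map _, ?_, ?_⟩
  · intro hbot
    apply h.2.1
    rw [Subgroup.map_eq_bot_iff_of_injective _ (MulAut.conj g).injective] at hbot
    exact hbot
  · rw [card_fixedPts_conj, Subgroup.card_map_of_injective (MulAut.conj g).injective]
    exact h.2.2

theorem IsMinOff.conj {ρ : G →* AddMonoid.End V} {E : Subgroup G} (h : IsMinOff ρ E) (g : G) :
    IsMinOff ρ (E.map (MulAut.conj g).toMonoidHom) := by
  refine ⟨h.1.conj g, fun E' hE' => ?_⟩
  rw [Subgroup.card_map_of_injective (MulAut.conj g).injective]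
  exact h.2 E' hE'

/-- membership in a conjugate Sylow subgroup -/
theorem mem_smul_sylow (P : Sylow 2 G) (h x : G) :
    x ∈ ((h • P : Sylow 2 G) : Subgroup G) ↔ h⁻¹ * x * h ∈ (P : Subgroup G) := by
  rw [Sylow.smul_def, Sylow.pointwise_smul_def,
    Subgroup.mem_pointwise_smul_iff_inv_smul_mem, MulAut.smul_def, ← map_inv, MulAut.conj_apply,
    inv_inv]

/-- a `2`-subgroup normalized by a Sylow `2`-subgroup lies in it -/
theorem le_sylow_of_conj_mem [Fact (Nat.Prime 2)] (P : Sylow 2 G) (N : Subgroup G)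
    (hN : IsPGroup 2 N)
    (h : ∀ p ∈ (P : Subgroup G), ∀ n ∈ N, p * n * p⁻¹ ∈ N) : N ≤ P := by
  have hle : (P : Subgroup G) ≤ Subgroup.normalizer (N : Set G) := by
    intro p hp
    rw [Subgroup.mem_normalizer_iff]
    intro n
    constructor
    · intro hn; exact h p hp n hn
    · intro hn
      have := h p⁻¹ ((P : Subgroup G).inv_mem hp) _ hn
      have e : p⁻¹ * (p * n * p⁻¹) * p⁻¹⁻¹ = n := by group
      rwa [e] at this
  have h1 : IsPGroup 2 ((P : Subgroup G) ⊔ N : Subgroup G) :=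
    IsPGroup.to_sup_of_normal_right' P.2 hN hle
  have h2 := P.is_maximal' h1 le_sup_left
  calc N ≤ (P : Subgroup G) ⊔ N := le_sup_right
    _ = P := h2

set_option maxHeartbeats 1600000 in
/-- **Step 1.** -/
theorem step1 {n : ℕ} (IH : Good.{u} n) (ρ : G →* AddMonoid.End V)
    (hn : Nat.card G + Nat.card V ≤ n) (hinj : Function.Injective ρ) (hV2 : ∀ v : V, v + v = 0)
    (hq : AllQuad ρ) (hno : ¬ HasS3 ρ) (P P₁ : Sylow 2 G) (F : Subgroup G)
    (hFP : F ≤ P) (hF : IsMinOff ρ F) :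
    F ≤ P₁ ∨ (((P : Subgroup G) ⊓ P₁ = ⊥) ∧ ((P : Subgroup G) ⊔ P₁ = ⊤)) := by
  classical
  have : Fact (Nat.Prime 2) := ⟨Nat.prime_two⟩
  by_contra hcon
  rw [not_or] at hcon
  obtain ⟨hFP₁, hDX⟩ := hcon
  set D := (P : Subgroup G) ⊓ P₁ with hD
  set X := (P : Subgroup G) ⊔ P₁ with hX
  set A := fixedPts ρ D with hAdef
  have hPX : (P : Subgroup G) ≤ X := le_sup_left
  have hP₁X : (P₁ : Subgroup G) ≤ X := le_sup_right
  -- `X` acts trivially on `V / A`
  have hXtriv : X ≤ trivOn ρ A := by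
    apply sup_le
    · intro p hp v d hd
      exact hq P P.2 d hd.1 p hp v
    · intro p hp v d hd
      exact hq P₁ P₁.2 d hd.2 p hp v
  -- `2`-subgroups normalized by `X` lie in `D`
  have hND : ∀ N : Subgroup G, IsPGroup 2 N → (∀ x ∈ X, ∀ n ∈ N, x * n * x⁻¹ ∈ N) → N ≤ D := by
    intro N hN hnorm
    exact le_inf (le_sylow_of_conj_mem P N hN (fun p hp => hnorm p (hPX hp)))
      (le_sylow_of_conj_mem P₁ N hN (fun p hp => hnorm p (hP₁X hp)))
  -- the kernel lies in `D`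
  have hK₀ : X ⊓ ptStab ρ A ≤ D := by
    apply hND
    · apply isPGroup_two_of_sq
      intro x hx
      exact sq_eq_one_of_triv hinj hV2 (hXtriv hx.1) hx.2
    · intro x hx k hk
      refine ⟨X.mul_mem (X.mul_mem hx hk.1) (X.inv_mem hx), ?_⟩
      intro a ha
      rw [rho_mul_apply, rho_mul_apply]
      have h1 : ρ x⁻¹ a ∈ A := map_mem_of_trivOn (hXtriv (X.inv_mem hx)) ha
      rw [hk.2 _ h1, rho_apply_inv]
  have hDP₁ : D ≤ P₁ := inf_le_right
  have hFX : F ≤ X := hFP.trans hPX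
  -- the restricted system
  set ρX : ↥X →* AddMonoid.End V := ρ.comp X.subtype with hρX
  have hinjX : Function.Injective ρX := by
    intro a b hab
    apply Subtype.ext
    apply hinj
    exact hab
  have hqX : AllQuad ρX := hq.comp X.subtype
  have hAX : ∀ (x : ↥X) (v : V), ρX x v - v ∈ A := fun x v => hXtriv x.2 v
  have hOX : ∀ N : Subgroup ↥X, N.Normal → IsPGroup 2 N → N ≤ ptStab ρX A := by
    intro N hNn hN2 k hk a ha
    have hle : N.map X.subtype ≤ D := by
      apply hND _ (hN2.map _)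
      rintro x hx _ ⟨m, hm, rfl⟩
      exact ⟨⟨x, hx⟩ * m * ⟨x, hx⟩⁻¹, hNn.conj_mem m hm ⟨x, hx⟩, rfl⟩
    have hkD : (k : G) ∈ D := hle ⟨k, hk, rfl⟩
    exact ha (k : G) hkD
  have hmX : Nat.card ↥X + Nat.card ↥A < n := by
    have c1 : Nat.card ↥X ≤ Nat.card G := Subgroup.card_le_card_group X
    have c2 : Nat.card ↥A ≤ Nat.card V := A.card_le_card_addGroup
    by_cases hXtop : X = ⊤
    · have hDne : D ≠ ⊥ := fun h => hDX ⟨h, hXtop⟩
      obtain ⟨d, hd1⟩ := (Subgroup.ne_bot_iff_exists_ne_one.mp hDne : ∃ a : ↥D, a ≠ 1)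
      have hd1' : (d : G) ≠ 1 := fun h => hd1 (Subtype.ext h)
      have hρd : ρ (d : G) ≠ ρ 1 := fun h => hd1' (hinj h)
      obtain ⟨v, hv⟩ := DFunLike.ne_iff.mp hρd
      rw [rho_one_apply] at hv
      have hAtop : A ≠ ⊤ := by
        intro h
        have hvA : v ∈ A := by rw [h]; exact AddSubgroup.mem_top v
        exact hv (hvA (d : G) d.2)
      have c3 : Nat.card ↥A ≠ Nat.card V := fun h => hAtop ((AddSubgroup.card_eq_iff_eq_top A).mp h)
      omega
    · have c3 : Nat.card ↥X ≠ Nat.card G := fun h => hXtop ((Subgroup.card_eq_iff_eq_top X).mp h)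
      omega
  set FX : Subgroup ↥X := F.subgroupOf X with hFXdef
  have hFX2 : IsPGroup 2 FX := hF.1.1.comap_subtype
  have hFX1 : ¬ FX ≤ ptStab ρX A := by
    intro h
    apply hFP₁
    intro f hf
    have hfX : f ∈ X := hFX hf
    have h1 : (⟨f, hfX⟩ : ↥X) ∈ FX := Subgroup.mem_subgroupOf.mpr hf
    have h2 : f ∈ ptStab ρ A := h h1
    exact hDP₁ (hK₀ ⟨hfX, h2⟩)
  -- the offender inequality
  set E := F ⊓ D with hEdef
  have hEF : E ≤ F := inf_le_left
  have hE2 : IsPGroup 2 E := hF.1.1.to_le hEF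
  have hEneF : E ≠ F := by
    intro h
    apply hFP₁
    have : F ≤ D := by rw [← h]; exact inf_le_right
    exact this.trans hDP₁
  have h1 : Nat.card E * Nat.card (fixedPts ρ E) ≤ Nat.card V := by
    by_cases hE : E = ⊥
    · rw [hE, Subgroup.card_bot, one_mul]
      exact AddSubgroup.card_le_card_addGroup _
    · by_contra hlt
      push Not at hlt
      have hoffE : Off ρ E := ⟨hE2, hE, hlt.le⟩
      have c1 := hF.2 E hoffE
      exact hEneF (Subgroup.eq_of_le_of_card_ge hEF c1)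
  have h2 : Nat.card V ≤ Nat.card F * Nat.card (fixedPts ρ F) := hF.1.2.2
  have hle : A ⊔ fixedPts ρ F ≤ fixedPts ρ E :=
    sup_le (fixedPts_anti ρ inf_le_right) (fixedPts_anti ρ hEF)
  have hmain := section_ineq A (fixedPts ρ F) (fixedPts ρ E) hle (Nat.card E) (Nat.card F) h1 h2
  have c1 : Nat.card (FX ⊓ ptStab ρX A : Subgroup ↥X) ≤ Nat.card E := by
    refine Nat.card_le_card_of_injective
      (fun k => (⟨(k.1 : G), ?_⟩ : E)) ?_
    · have hk1 : (k.1 : G) ∈ F := Subgroup.mem_subgroupOf.mp k.2.1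
      have hk2 : (k.1 : G) ∈ ptStab ρ A := k.2.2
      exact ⟨hk1, hK₀ ⟨k.1.2, hk2⟩⟩
    · intro k k' h
      have := congrArg (fun z : E => (z : G)) h
      exact Subtype.ext (Subtype.ext this)
  have c2 : Nat.card FX = Nat.card F :=
    Nat.card_congr (Subgroup.subgroupOfEquivOfLe hFX).toEquiv
  have c3 : fixedPts ρX FX = fixedPts ρ F := by
    ext v
    constructor
    · intro h f hf
      exact h ⟨f, hFX hf⟩ (Subgroup.mem_subgroupOf.mpr hf)
    · intro h k hk
      exact h (k : G) (Subgroup.mem_subgroupOf.mp hk)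
  have hoffX : Nat.card A * Nat.card (FX ⊓ ptStab ρX A : Subgroup ↥X) ≤
      Nat.card FX * Nat.card (A ⊓ fixedPts ρX FX : AddSubgroup V) := by
    rw [c2, c3]
    exact (Nat.mul_le_mul_left _ c1).trans hmain
  obtain ⟨t, t₁, N₀, u, w, ⟨j, hj⟩, ⟨j₁, hj₁⟩, k1, k2, k3, k4, k5, k6, k7, k8, k9⟩ :=
    sec_step IH ρX hinjX hV2 hqX A hAX hOX hmX FX hFX2 hFX1 hoffX
  have hj' : (t : G) ^ 2 ^ j = 1 := by
    have := congrArg Subtype.val hj
    simpa using this
  have hj₁' : (t₁ : G) ^ 2 ^ j₁ = 1 := by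
    have := congrArg Subtype.val hj₁
    simpa using this
  exact hno ⟨(t : G), (t₁ : G), N₀, u, w, ⟨j, hj'⟩, ⟨j₁, hj₁'⟩, k1, k2, k3, k4, k5, k6, k7, k8, k9⟩

end Cfsg.Agent.Lib.Helper39.Quad
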