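import Mathlib
import Cfsg.Agent.Lib.Helper39.QuadStep

set_option autoImplicit false

/-!
# Quadratic Sylow `2`-subgroups and offenders: free action
-/

namespace Cfsg.Agent.Lib.Helper39.Quad

open scoped Pointwise

universe u

variable {G : Type u} [Group G] [Finite G] {V : Type u} [AddCommGroup V] [Finite V]

/-- stabilizer of a vector -/
def vecStab (ρ : G →* AddMonoid.End V) (v : V) : Subgroup G where
  carrier := {g | ρ g v = v}
  one_mem' := rho_one_apply ρ v
  mul_mem' := by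
    intro x y hx hy
    show ρ (x * y) v = v
    rw [rho_mul_apply, hy, hx]
  inv_mem' := by
    intro x hx
    show ρ x⁻¹ v = v
    have := rho_inv_apply ρ x v
    rw [hx] at this
    exact this

omit [Finite G] [Finite V] in
theorem mem_fixedPts_sup {ρ : G →* AddMonoid.End V} {H K : Subgroup G} {v : V}
    (h1 : v ∈ fixedPts ρ H) (h2 : v ∈ fixedPts ρ K) : v ∈ fixedPts ρ (H ⊔ K) := by
  have : H ⊔ K ≤ vecStab ρ v := sup_le (fun x hx => h1 x hx) (fun x hx => h2 x hx)
  intro x hx
  exact this hx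

omit [Finite G] [Finite V] in
/-- the pointwise stabilizer of `A` is trivial if the whole group acts trivially on `V / A` -/
theorem ptStab_eq_bot {ρ : G →* AddMonoid.End V} (hinj : Function.Injective ρ)
    (hV2 : ∀ v : V, v + v = 0)
    (hO : ∀ N : Subgroup G, N.Normal → IsPGroup 2 N → N = ⊥) (A : AddSubgroup V)
    (hall : ∀ x v, ρ x v - v ∈ A) : ptStab ρ A = ⊥ := by
  apply hO
  · constructor
    intro k hk g a ha
    rw [rho_mul_apply, rho_mul_apply]
    have h1 : ρ g⁻¹ a ∈ A := map_mem_of_trivOn (hall g⁻¹) ha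
    rw [hk _ h1, rho_apply_inv]
  · apply isPGroup_two_of_sq
    intro x hx
    exact sq_eq_one_of_triv hinj hV2 (hall x) hx

set_option maxHeartbeats 1600000 in
/-- **Free action.** -/
theorem free_step {n : ℕ} (IH : Good.{u} n) (ρ : G →* AddMonoid.End V)
    (hn : Nat.card G + Nat.card V ≤ n) (hinj : Function.Injective ρ) (hV2 : ∀ v : V, v + v = 0)
    (hq : AllQuad ρ) (hno : ¬ HasS3 ρ) (P P₁ : Sylow 2 G)
    (hPP₁ : (P : Subgroup G) ⊓ P₁ = ⊥)
    (F F₁ : Subgroup G) (hFP : F ≤ P) (hF : IsMinOff ρ F) (hF₁P₁ : F₁ ≤ P₁) (hF₁ : IsMinOff ρ F₁)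
    (C : AddSubgroup V) (hC : ∀ c ∈ C, ∀ g : G, ρ g c = c)
    (f : G) (hf : f ∈ (P : Subgroup G)) (hf1 : f ≠ 1) (u : V) (hu : u ∈ fixedPts ρ P₁)
    (huc : ρ f u - u ∈ C) : ∀ g : G, ρ g u = u := by
  classical
  have : Fact (Nat.Prime 2) := ⟨Nat.prime_two⟩
  have hff : f * f = 1 := by
    apply hinj
    ext v
    rw [rho_mul_apply, rho_one_apply]
    exact hq.sq_apply hV2 P.2 hf v
  have hfinv : f⁻¹ = f := inv_eq_of_mul_eq_one_right hff
  set T₂ : Sylow 2 G := f • P₁ with hT₂
  have hT₂mem : ∀ x, x ∈ (T₂ : Subgroup G) ↔ f⁻¹ * x * f ∈ (P₁ : Subgroup G) :=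
    mem_smul_sylow P₁ f
  rcases step1 IH ρ hn hinj hV2 hq hno P₁ T₂ F₁ hF₁P₁ hF₁ with hB | ⟨_, hA2⟩
  · -- impossible case
    exfalso
    set F₁' := F₁.map (MulAut.conj f).toMonoidHom with hF₁'
    have hF₁'P₁ : F₁' ≤ P₁ := by
      rintro _ ⟨x, hx, rfl⟩
      have h1 := (hT₂mem x).mp (hB hx)
      show f * x * f⁻¹ ∈ (P₁ : Subgroup G)
      rw [hfinv] at h1 ⊢
      exact h1
    set F₂ := F₁ ⊔ F₁' with hF₂
    have hF₂P₁ : F₂ ≤ P₁ := sup_le hF₁P₁ hF₁'P₁
    have hF₂2 : IsPGroup 2 F₂ := P₁.2.to_le hF₂P₁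
    have hconj : ∀ x ∈ F₂, f * x * f⁻¹ ∈ F₂ := by
      have : F₂.map (MulAut.conj f).toMonoidHom ≤ F₂ := by
        rw [hF₂, Subgroup.map_sup]
        apply sup_le
        · exact le_sup_right
        · rintro _ ⟨_, ⟨x, hx, rfl⟩, rfl⟩
          have : (MulAut.conj f).toMonoidHom ((MulAut.conj f).toMonoidHom x) = x := by
            show f * (f * x * f⁻¹) * f⁻¹ = x
            rw [hfinv]
            calc f * (f * x * f) * f = (f * f) * x * (f * f) := by group
              _ = x := by rw [hff]; group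
          rw [this]
          exact le_sup_left (a := F₁) hx
      intro x hx
      exact this ⟨x, hx, rfl⟩
    have hnorm : Subgroup.zpowers f ≤ Subgroup.normalizer (F₂ : Set G) := by
      rw [Subgroup.zpowers_le, Subgroup.mem_normalizer_iff]
      intro x
      constructor
      · exact hconj x
      · intro hx
        have := hconj _ hx
        have e : f * (f * x * f⁻¹) * f⁻¹ = x := by
          rw [hfinv]
          calc f * (f * x * f) * f = (f * f) * x * (f * f) := by group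
            _ = x := by rw [hff]; group
        rwa [e] at this
    have hz2 : IsPGroup 2 (Subgroup.zpowers f) :=
      P.2.to_le (Subgroup.zpowers_le.mpr hf)
    have hQ2 : IsPGroup 2 (Subgroup.zpowers f ⊔ F₂ : Subgroup G) :=
      IsPGroup.to_sup_of_normal_right' hz2 hF₂2 hnorm
    obtain ⟨P₂, hQP₂⟩ := hQ2.exists_le_sylow
    have hfP₂ : f ∈ (P₂ : Subgroup G) := hQP₂ (le_sup_left (a := Subgroup.zpowers f)
      (Subgroup.mem_zpowers f))
    have hF₁P₂ : F₁ ≤ P₂ := (le_sup_left.trans le_sup_right).trans hQP₂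
    have hFP₂ : F ≤ P₂ := by
      rcases step1 IH ρ hn hinj hV2 hq hno P P₂ F hFP hF with h | ⟨h, _⟩
      · exact h
      · exfalso
        have : f ∈ (P : Subgroup G) ⊓ P₂ := ⟨hf, hfP₂⟩
        rw [h, Subgroup.mem_bot] at this
        exact hf1 this
    have hFP₁ : F ≤ P₁ := by
      rcases step1 IH ρ hn hinj hV2 hq hno P₂ P₁ F hFP₂ hF with h | ⟨h, _⟩
      · exact h
      · exfalso
        have : F₁ ≤ (P₂ : Subgroup G) ⊓ P₁ := le_inf hF₁P₂ hF₁P₁
        rw [h] at this
        exact hF₁.1.2.1 (le_bot_iff.mp this)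
    have : F ≤ (P : Subgroup G) ⊓ P₁ := le_inf hFP hFP₁
    rw [hPP₁] at this
    exact hF.1.2.1 (le_bot_iff.mp this)
  · -- `u` is fixed by `P₁` and by `T₂`, which generate `G`
    have hu₂ : u ∈ fixedPts ρ (T₂ : Subgroup G) := by
      intro x hx
      have ht := (hT₂mem x).mp hx
      set t := f⁻¹ * x * f with htdef
      have hx' : x = f * t * f⁻¹ := by rw [htdef]; group
      set c := ρ f u - u with hcdef
      have e1 : ρ f u = u + c := by rw [hcdef]; abel
      have e2 : ρ f⁻¹ u = u - c := by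
        have h1 := congrArg (ρ f⁻¹) e1
        rw [rho_inv_apply, map_add, hC c huc] at h1
        exact eq_sub_of_add_eq h1.symm
      rw [hx', rho_mul_apply, rho_mul_apply, e2, map_sub, hu t ht, hC c huc, map_sub, e1,
        hC c huc]
      abel
    have hall := mem_fixedPts_sup hu hu₂
    rw [hA2] at hall
    intro g
    exact hall g (Subgroup.mem_top g)

end Cfsg.Agent.Lib.Helper39.Quad
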