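import Mathlib
import Cfsg.Agent.Lib.Helper39.QuadFree

set_option autoImplicit false

/-!
# Quadratic Sylow `2`-subgroups and offenders: the main theorem

If a finite group `G` with `O_2(G) = 1` acts faithfully on an elementary abelian `2`-group `V`, all
`2`-subgroups of `G` act quadratically, and some nontrivial `2`-subgroup `F` is an offender
(`|V| ≤ |F| |C_V(F)|`), then two elements of `G` induce `SL₂(2)` on a two-dimensional section of `V`.
-/

namespace Cfsg.Agent.Lib.Helper39.Quad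

open scoped Pointwise

universe u

variable {G : Type u} [Group G] [Finite G] {V : Type u} [AddCommGroup V] [Finite V]

set_option maxHeartbeats 800000 in
/-- counting: the commutator map `F × C → C_V(P)` is injective, hence bijective if the orders fit -/
theorem count_step (ρ : G →* AddMonoid.End V) (hq : AllQuad ρ) (P P₁ : Sylow 2 G)
    (F : Subgroup G) (hFP : F ≤ P)
    (C : AddSubgroup V) (hCP : C ≤ fixedPts ρ P) (hC : ∀ c ∈ C, ∀ g : G, ρ g c = c)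
    (hfree : ∀ f ∈ (P : Subgroup G), f ≠ 1 → ∀ u ∈ fixedPts ρ P₁, ρ f u - u ∈ C → u ∈ C)
    (u : V) (hu : u ∈ fixedPts ρ P₁) (huC : u ∉ C) :
    Nat.card F * Nat.card C ≤ Nat.card (fixedPts ρ P) ∧
    (Nat.card (fixedPts ρ P) ≤ Nat.card F * Nat.card C →
      ∀ w ∈ fixedPts ρ P, ∃ f ∈ F, ∃ c ∈ C, w = (ρ f u - u) + c) := by
  classical
  let φ : ↥F × ↥C → ↥(fixedPts ρ P) := fun x =>
    ⟨(ρ (x.1 : G) u - u) + (x.2 : V),
      (fixedPts ρ P).add_mem (hq.comm_mem_fixedPts P.2 (hFP x.1.2) u) (hCP x.2.2)⟩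
  have hφ : Function.Injective φ := by
    rintro ⟨f, c⟩ ⟨f', c'⟩ h
    have h0 : (ρ (f : G) u - u) + (c : V) = (ρ (f' : G) u - u) + (c' : V) :=
      congrArg (fun z : ↥(fixedPts ρ P) => (z : V)) h
    have h1 : ρ (f : G) u = ρ (f' : G) u + ((c' : V) - (c : V)) := by
      have : ρ (f : G) u = ((ρ (f : G) u - u) + (c : V)) + (u - (c : V)) := by abel
      rw [this, h0]; abel
    have hcc : (c' : V) - (c : V) ∈ C := C.sub_mem c'.2 c.2
    have h2 : ρ ((f' : G)⁻¹ * (f : G)) u - u = (c' : V) - (c : V) := by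
      rw [rho_mul_apply, h1, map_add, rho_inv_apply, hC _ hcc]
      abel
    have hmem : (f' : G)⁻¹ * (f : G) ∈ (P : Subgroup G) :=
      (P : Subgroup G).mul_mem ((P : Subgroup G).inv_mem (hFP f'.2)) (hFP f.2)
    have hone : (f' : G)⁻¹ * (f : G) = 1 := by
      by_contra hne
      apply huC
      apply hfree _ hmem hne u hu
      rw [h2]; exact hcc
    have hff' : (f : G) = (f' : G) := by
      have := congrArg (fun z => (f' : G) * z) hone
      simpa using this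
    have hff'' : f = f' := Subtype.ext hff'
    subst hff''
    have hcc' : (c : V) = (c' : V) := by
      have := add_left_cancel h0
      exact this
    have : c = c' := Subtype.ext hcc'
    rw [this]
  constructor
  · have := Nat.card_le_card_of_injective φ hφ
    rwa [Nat.card_prod] at this
  · intro hle w hw
    have hle' : Nat.card ↥(fixedPts ρ P) ≤ Nat.card (↥F × ↥C) := by
      rw [Nat.card_prod]; exact hle
    have hbij := hφ.bijective_of_nat_card_le hle'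
    obtain ⟨⟨f, c⟩, hfc⟩ := hbij.2 ⟨w, hw⟩
    refine ⟨f, f.2, c, c.2, ?_⟩
    have := congrArg (fun z : ↥(fixedPts ρ P) => (z : V)) hfc
    exact this.symm

set_option maxHeartbeats 3200000 in
/-- the inductive step -/
theorem good_succ {n : ℕ} (IH : Good.{u} n) : Good.{u} (n + 1) := by
  intro G _ _ V _ _ ρ hcard hinj hV2 hO hq F hF2 hFne hFoff
  classical
  have : Fact (Nat.Prime 2) := ⟨Nat.prime_two⟩
  by_contra hno
  have hn : Nat.card G + Nat.card V ≤ n := by omega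
  -- a minimal offender
  obtain ⟨F₀, hF₀off, hF₀min⟩ := Set.exists_min_image {E : Subgroup G | Off ρ E}
    (fun E => Nat.card E) (Set.toFinite _) ⟨F, hF2, hFne, hFoff⟩
  have hF₀ : IsMinOff ρ F₀ := ⟨hF₀off, fun E' hE' => hF₀min E' hE'⟩
  obtain ⟨T, hF₀T⟩ := hF₀.1.1.exists_le_sylow
  -- a Sylow subgroup not containing `F₀`
  have hex : ∃ T₁ : Sylow 2 G, ¬ F₀ ≤ T₁ := by
    by_contra hall
    push Not at hall
    set N : Subgroup G := ⨅ P : Sylow 2 G, (P : Subgroup G) with hN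
    have hNn : N.Normal := by
      constructor
      intro x hx g
      rw [hN, Subgroup.mem_iInf] at hx ⊢
      intro P
      have := hx (g⁻¹ • P)
      rw [mem_smul_sylow, inv_inv] at this
      exact this
    have hN2 : IsPGroup 2 N := T.2.to_le (iInf_le _ T)
    have hNbot := hO N hNn hN2
    have hle : F₀ ≤ N := le_iInf hall
    rw [hNbot] at hle
    exact hF₀.1.2.1 (le_bot_iff.mp hle)
  obtain ⟨T₁, hF₀T₁⟩ := hex
  rcases step1 IH ρ hn hinj hV2 hq hno T T₁ F₀ hF₀T hF₀ with h | ⟨hTT₁, hTtop⟩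
  · exact hF₀T₁ h
  set Z₀ := fixedPts ρ (T : Subgroup G) with hZ₀
  set Z₁ := fixedPts ρ (T₁ : Subgroup G) with hZ₁
  set C := Z₀ ⊓ Z₁ with hCdef
  have hCfix : ∀ c ∈ C, ∀ g : G, ρ g c = c := by
    intro c hc g
    have := mem_fixedPts_sup hc.1 hc.2
    rw [hTtop] at this
    exact this g (Subgroup.mem_top g)
  -- the whole group acts trivially on `V / (Z₀ + Z₁)`
  have hall : ∀ (x : G) (v : V), ρ x v - v ∈ Z₀ ⊔ Z₁ := by
    have h1 : (T : Subgroup G) ⊔ T₁ ≤ trivOn ρ (Z₀ ⊔ Z₁) := by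
      apply sup_le
      · intro t ht v
        exact (le_sup_left : Z₀ ≤ Z₀ ⊔ Z₁) (hq.comm_mem_fixedPts T.2 ht v)
      · intro t ht v
        exact (le_sup_right : Z₁ ≤ Z₀ ⊔ Z₁) (hq.comm_mem_fixedPts T₁.2 ht v)
    rw [hTtop] at h1
    intro x v
    exact h1 (Subgroup.mem_top x) v
  have hpt : ptStab ρ (Z₀ ⊔ Z₁) = ⊥ := ptStab_eq_bot hinj hV2 hO _ hall
  -- `V = Z₀ + Z₁`
  have hU : Z₀ ⊔ Z₁ = ⊤ := by
    by_contra hU
    have c1 : Nat.card ↥(Z₀ ⊔ Z₁ : AddSubgroup V) ≠ Nat.card V :=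
      fun h => hU ((AddSubgroup.card_eq_iff_eq_top _).mp h)
    have c2 : Nat.card ↥(Z₀ ⊔ Z₁ : AddSubgroup V) ≤ Nat.card V :=
      AddSubgroup.card_le_card_addGroup _
    have hm : Nat.card G + Nat.card ↥(Z₀ ⊔ Z₁ : AddSubgroup V) < n := by omega
    have hO' : ∀ N : Subgroup G, N.Normal → IsPGroup 2 N → N ≤ ptStab ρ (Z₀ ⊔ Z₁) := by
      intro N hNn hN2
      rw [hO N hNn hN2]; exact bot_le
    have hF1 : ¬ F₀ ≤ ptStab ρ (Z₀ ⊔ Z₁) := by
      rw [hpt]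
      intro h
      exact hF₀.1.2.1 (le_bot_iff.mp h)
    have hoff : Nat.card ↥(Z₀ ⊔ Z₁ : AddSubgroup V) *
        Nat.card (F₀ ⊓ ptStab ρ (Z₀ ⊔ Z₁) : Subgroup G) ≤
        Nat.card F₀ * Nat.card ((Z₀ ⊔ Z₁) ⊓ fixedPts ρ F₀ : AddSubgroup V) := by
      rw [hpt, inf_bot_eq, Subgroup.card_bot]
      refine section_ineq (Z₀ ⊔ Z₁) (fixedPts ρ F₀) ⊤ le_top 1 (Nat.card F₀) ?_ hF₀.1.2.2
      rw [one_mul, AddSubgroup.card_top]
    exact hno (sec_step IH ρ hinj hV2 hq (Z₀ ⊔ Z₁) hall hO' hm F₀ hF₀.1.1 hF1 hoff)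
  -- the conjugate offender
  obtain ⟨g, hg⟩ := MulAction.exists_smul_eq G T T₁
  have hT₁mem : ∀ x, x ∈ (T₁ : Subgroup G) ↔ g⁻¹ * x * g ∈ (T : Subgroup G) := by
    intro x
    rw [← hg]
    exact mem_smul_sylow T g x
  have hT₁map : (T₁ : Subgroup G) = (T : Subgroup G).map (MulAut.conj g).toMonoidHom := by
    ext x
    rw [hT₁mem]
    constructor
    · intro h
      refine ⟨g⁻¹ * x * g, h, ?_⟩
      show g * (g⁻¹ * x * g) * g⁻¹ = x
      group
    · rintro ⟨t, ht, rfl⟩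
      have : g⁻¹ * ((MulAut.conj g).toMonoidHom t) * g = t := by
        show g⁻¹ * (g * t * g⁻¹) * g = t
        group
      rw [this]; exact ht
  set F₁ := F₀.map (MulAut.conj g).toMonoidHom with hF₁def
  have hF₁ : IsMinOff ρ F₁ := hF₀.conj g
  have hF₁T₁ : F₁ ≤ T₁ := by
    rw [hT₁map]
    exact Subgroup.map_mono hF₀T
  have hcardF : Nat.card F₁ = Nat.card F₀ :=
    Subgroup.card_map_of_injective (MulAut.conj g).injective
  have hcardZ : Nat.card Z₁ = Nat.card Z₀ := by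
    rw [hZ₁, hT₁map, card_fixedPts_conj]
  -- free action
  have hTT₁' : (T₁ : Subgroup G) ⊓ T = ⊥ := by rw [inf_comm]; exact hTT₁
  have hfree₀ : ∀ f ∈ (T : Subgroup G), f ≠ 1 → ∀ u ∈ Z₁, ρ f u - u ∈ C → u ∈ C := by
    intro f hf hf1 u hu huc
    have := free_step IH ρ hn hinj hV2 hq hno T T₁ hTT₁ F₀ F₁ hF₀T hF₀ hF₁T₁ hF₁ C hCfix f hf hf1
      u hu huc
    exact ⟨fun t _ => this t, hu⟩
  have hfree₁ : ∀ f ∈ (T₁ : Subgroup G), f ≠ 1 → ∀ w ∈ Z₀, ρ f w - w ∈ C → w ∈ C := by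
    intro f hf hf1 w hw hwc
    have := free_step IH ρ hn hinj hV2 hq hno T₁ T hTT₁' F₁ F₀ hF₁T₁ hF₁ hF₀T hF₀ C hCfix f hf hf1
      w hw hwc
    exact ⟨hw, fun t _ => this t⟩
  -- elements outside `C`
  obtain ⟨f₀, hf₀1⟩ := (Subgroup.ne_bot_iff_exists_ne_one.mp hF₀.1.2.1 : ∃ a : ↥F₀, a ≠ 1)
  have hf₀1' : (f₀ : G) ≠ 1 := fun h => hf₀1 (Subtype.ext h)
  have hf₀T : (f₀ : G) ∈ (T : Subgroup G) := hF₀T f₀.2
  have hexu : ∃ u ∈ Z₁, u ∉ C := by
    by_contra hcon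
    push Not at hcon
    have hZ₁Z₀ : Z₁ ≤ Z₀ := fun u hu => (hcon u hu).1
    have hZ₀top : Z₀ = ⊤ := by
      rw [← hU]; exact (sup_eq_left.mpr hZ₁Z₀).symm
    apply hf₀1'
    apply hinj
    ext v
    rw [rho_one_apply]
    have hv : v ∈ Z₀ := by rw [hZ₀top]; exact AddSubgroup.mem_top v
    exact hv _ hf₀T
  obtain ⟨u, huZ₁, huC⟩ := hexu
  -- the fixed points of `F₀`
  have hfixF₀ : fixedPts ρ F₀ ≤ Z₀ := by
    intro v hv
    have hvU : v ∈ Z₀ ⊔ Z₁ := by rw [hU]; exact AddSubgroup.mem_top v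
    obtain ⟨z₀, hz₀, z₁, hz₁, rfl⟩ := AddSubgroup.mem_sup.mp hvU
    have h1 := hv (f₀ : G) f₀.2
    rw [map_add, hz₀ _ hf₀T] at h1
    have h2 : ρ (f₀ : G) z₁ = z₁ := add_left_cancel h1
    have h3 : z₁ ∈ C := by
      apply hfree₀ _ hf₀T hf₀1' z₁ hz₁
      rw [h2, sub_self]; exact C.zero_mem
    exact Z₀.add_mem hz₀ h3.1
  -- counting
  have hprod := add_card_sup_mul_card_inf Z₁ Z₀
  rw [hU, AddSubgroup.card_top] at hprod
  have hZ₀pos : 0 < Nat.card Z₀ := Nat.card_pos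
  have hbound : Nat.card Z₀ ≤ Nat.card F₀ * Nat.card C := by
    have h1 : Nat.card V ≤ Nat.card F₀ * Nat.card Z₀ :=
      hF₀.1.2.2.trans (Nat.mul_le_mul_left _ (AddSubgroup.card_le_of_le hfixF₀))
    have e1 : Nat.card (Z₁ ⊓ Z₀ : AddSubgroup V) = Nat.card C := by rw [hCdef, inf_comm]
    rw [e1] at hprod
    have h2 : Nat.card Z₁ * Nat.card Z₀ ≤ (Nat.card F₀ * Nat.card C) * Nat.card Z₀ := by
      calc Nat.card Z₁ * Nat.card Z₀ = Nat.card V * Nat.card C := hprod.symm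
        _ ≤ (Nat.card F₀ * Nat.card Z₀) * Nat.card C := Nat.mul_le_mul_right _ h1
        _ = (Nat.card F₀ * Nat.card C) * Nat.card Z₀ := by ring
    have h3 := Nat.le_of_mul_le_mul_right h2 hZ₀pos
    rw [hcardZ] at h3
    exact h3
  have hbound₁ : Nat.card Z₁ ≤ Nat.card F₁ * Nat.card C := by
    rw [hcardZ, hcardF]; exact hbound
  -- the configuration
  set w := ρ (f₀ : G) u - u with hwdef
  have hwZ₀ : w ∈ Z₀ := hq.comm_mem_fixedPts T.2 hf₀T u
  have hwC : w ∉ C := fun h => huC (hfree₀ _ hf₀T hf₀1' u huZ₁ h)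
  have hC₁ : C ≤ fixedPts ρ (T₁ : Subgroup G) := inf_le_right
  obtain ⟨-, hsurj⟩ := count_step ρ hq T₁ T F₁ hF₁T₁ C hC₁ hCfix hfree₁ w hwZ₀ hwC
  obtain ⟨f₁, hf₁F₁, c, hcC, hufc⟩ := hsurj hbound₁ u huZ₁
  have hf₁T₁ : f₁ ∈ (T₁ : Subgroup G) := hF₁T₁ hf₁F₁
  have h2el : ∀ (P : Sylow 2 G) (x : G), x ∈ (P : Subgroup G) → ∃ j : ℕ, x ^ 2 ^ j = 1 := by
    intro P x hx
    obtain ⟨k, hk⟩ := P.2 ⟨x, hx⟩
    refine ⟨k, ?_⟩
    have := congrArg Subtype.val hk
    simpa using this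
  apply hno
  refine ⟨(f₀ : G), f₁, C, u, w, h2el T _ hf₀T, h2el T₁ _ hf₁T₁, fun c hc => hCfix c hc _,
    fun c hc => hCfix c hc _, huC, hwC, ?_, ?_, ?_, ?_, ?_⟩
  · intro h
    apply huC
    have h1 : u + w ∈ Z₀ := h.1
    have h2 : u ∈ Z₀ := by
      have : u = (u + w) - w := by abel
      rw [this]; exact Z₀.sub_mem h1 hwZ₀
    exact ⟨h2, huZ₁⟩
  · rw [hwdef, sub_self]; exact C.zero_mem
  · exact hwZ₀ _ hf₀T
  · have : ρ f₁ w - w - u = -c := by
      rw [hufc]; abel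
    rw [this]; exact C.neg_mem hcC
  · exact huZ₁ _ hf₁T₁

/-- **Main theorem** (abstract form). -/
theorem good_all : ∀ n : ℕ, Good.{u} n := by
  intro n
  induction n with
  | zero =>
    intro G _ _ V _ _ ρ hcard
    exact absurd hcard (Nat.not_lt_zero _)
  | succ n ih => exact good_succ ih

/-- **No offenders**: a nontrivial offender produces an `S₃`-configuration. -/
theorem hasS3_of_offender (ρ : G →* AddMonoid.End V) (hinj : Function.Injective ρ)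
    (hV2 : ∀ v : V, v + v = 0)
    (hO : ∀ N : Subgroup G, N.Normal → IsPGroup 2 N → N = ⊥) (hq : AllQuad ρ)
    (F : Subgroup G) (hF2 : IsPGroup 2 F) (hFne : F ≠ ⊥)
    (hoff : Nat.card V ≤ Nat.card F * Nat.card (fixedPts ρ F)) : HasS3 ρ :=
  good_all (Nat.card G + Nat.card V + 1) G V ρ (Nat.lt_succ_self _) hinj hV2 hO hq F hF2 hFne hoff

end Cfsg.Agent.Lib.Helper39.Quad
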