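import Mathlib
import Cfsg.Agent.Lib.Helper39.QuadBase

set_option autoImplicit false

/-!
# The `S₃`-configuration: an element of order three modulo the kernel
-/

namespace Cfsg.Agent.Lib.Helper39.Quad

variable {G : Type*} [Group G] {V : Type*} [AddCommGroup V]

set_option maxHeartbeats 800000 in
/-- In an `S₃`-configuration no `2`-power of `t (t₁ t t₁⁻¹)` fixes `u`. -/
theorem not_fix (ρ : G →* AddMonoid.End V) (hV2 : ∀ v : V, v + v = 0) (t t₁ : G)
    (N₀ : AddSubgroup V) (u w : V)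
    (h1 : ∀ n ∈ N₀, ρ t n = n) (h2 : ∀ n ∈ N₀, ρ t₁ n = n) (hw : w ∉ N₀) (huw : u + w ∉ N₀)
    (e1 : ρ t u - u - w ∈ N₀) (e2 : ρ t w = w) (e3 : ρ t₁ w - w - u ∈ N₀) (e4 : ρ t₁ u = u)
    (k : ℕ) : ρ ((t * (t₁ * t * t₁⁻¹)) ^ 2 ^ k) u ≠ u := by
  set g := t * (t₁ * t * t₁⁻¹) with hg
  set m := ρ t u - u - w with hm
  set n := ρ t₁ w - w - u with hn
  have htu : ρ t u = u + w + m := by rw [hm]; abel
  have ht₁w : ρ t₁ w = w + u + n := by rw [hn]; abel
  have h2' : ∀ x ∈ N₀, ρ t₁⁻¹ x = x := by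
    intro x hx
    have := rho_inv_apply ρ t₁ x
    rwa [h2 x hx] at this
  have hiu : ρ t₁⁻¹ u = u := by
    have := rho_inv_apply ρ t₁ u
    rwa [e4] at this
  have hiw : ρ t₁⁻¹ w = w - u - n := by
    have := rho_inv_apply ρ t₁ w
    rw [ht₁w, map_add, map_add, hiu, h2' n e3] at this
    have e : ρ t₁⁻¹ w = (ρ t₁⁻¹ w + u + n) - u - n := by abel
    rw [e, this]
  have hgx : ∀ x, ρ g x = ρ t (ρ t₁ (ρ t (ρ t₁⁻¹ x))) := by
    intro x
    rw [hg, rho_mul_apply, rho_mul_apply, rho_mul_apply]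
  have hgN : ∀ x ∈ N₀, ρ g x = x := by
    intro x hx
    rw [hgx, h2' x hx, h1 x hx, h2 x hx, h1 x hx]
  have gu : ρ g u - w ∈ N₀ := by
    have e : ρ g u - w = (u + u) + (w + w) + (m + m + m + n) := by
      have hm1 := h1 m e1
      have hn1 := h1 n e3
      have hm2 := h2 m e1
      have hn2 := h2 n e3
      simp only [hgx, hiu, htu, ht₁w, e2, e4, map_add, hm1, hn1, hm2, hn2]
      abel
    rw [e, hV2, hV2, zero_add, zero_add]
    exact N₀.add_mem (N₀.add_mem (N₀.add_mem e1 e1) e1) e3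
  have gw : ρ g w - (u + w) ∈ N₀ := by
    have e : ρ g w - (u + w) = -((u + u) + (w + w) + (m + m + n)) := by
      have hm1 := h1 m e1
      have hn1 := h1 n e3
      have hm2 := h2 m e1
      have hn2 := h2 n e3
      simp only [hgx, hiw, htu, ht₁w, e2, e4, map_add, map_sub, hm1, hn1, hm2, hn2]
      abel
    rw [e, hV2, hV2, zero_add, zero_add]
    exact N₀.neg_mem (N₀.add_mem (N₀.add_mem e1 e1) e3)
  have guw : ρ g (u + w) - u ∈ N₀ := by
    have e : ρ g (u + w) - u = (ρ g u - w) + (ρ g w - (u + w)) + (w + w) := by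
      rw [map_add]; abel
    rw [e, hV2, add_zero]
    exact N₀.add_mem gu gw
  have step : ∀ (x a b : V), x - a ∈ N₀ → ρ g a - b ∈ N₀ → ρ g x - b ∈ N₀ := by
    intro x a b hxa hab
    have e : ρ g x - b = (ρ g a - b) + ρ g (x - a) := by
      rw [map_sub]; abel
    rw [e, hgN _ hxa]
    exact N₀.add_mem hab hxa
  have key : ∀ j : ℕ, (j % 3 = 0 → ρ (g ^ j) u - u ∈ N₀) ∧ (j % 3 = 1 → ρ (g ^ j) u - w ∈ N₀) ∧
      (j % 3 = 2 → ρ (g ^ j) u - (u + w) ∈ N₀) := by
    intro j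
    induction j with
    | zero =>
      refine ⟨fun _ => ?_, fun h => ?_, fun h => ?_⟩
      · rw [pow_zero, rho_one_apply, sub_self]; exact N₀.zero_mem
      · omega
      · omega
    | succ j ih =>
      obtain ⟨ih0, ih1, ih2⟩ := ih
      have hs : ∀ x, ρ (g ^ (j + 1)) x = ρ g (ρ (g ^ j) x) := by
        intro x
        rw [pow_succ', rho_mul_apply]
      have h3 : j % 3 = 0 ∨ j % 3 = 1 ∨ j % 3 = 2 := by omega
      refine ⟨fun h => ?_, fun h => ?_, fun h => ?_⟩
      · have hj : j % 3 = 2 := by omega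
        rw [hs]
        exact step _ _ _ (ih2 hj) guw
      · have hj : j % 3 = 0 := by omega
        rw [hs]
        exact step _ _ _ (ih0 hj) gu
      · have hj : j % 3 = 1 := by omega
        rw [hs]
        exact step _ _ _ (ih1 hj) gw
  intro hfix
  have hmod : 2 ^ k % 3 ≠ 0 := by
    intro h
    have hdvd : 3 ∣ 2 ^ k := Nat.dvd_of_mod_eq_zero h
    have := Nat.Prime.dvd_of_dvd_pow Nat.prime_three hdvd
    omega
  obtain ⟨-, k1, k2⟩ := key (2 ^ k)
  have h3 : 2 ^ k % 3 = 1 ∨ 2 ^ k % 3 = 2 := by omega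
  rcases h3 with h | h
  · have := k1 h
    rw [hfix] at this
    apply huw
    have e : u + w = (u - w) + (w + w) := by abel
    rw [e, hV2, add_zero]
    exact this
  · have := k2 h
    rw [hfix] at this
    apply hw
    have e : w = -(u - (u + w)) := by abel
    rw [e]
    exact N₀.neg_mem this

end Cfsg.Agent.Lib.Helper39.Quad
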