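import Mathlib
import Cfsg.Agent.Lib.Helper39.QuadMain
import Cfsg.Agent.Lib.Helper39.QuadS3
import Cfsg.Agent.Lib.Helper39.QuadGroup

set_option autoImplicit false

namespace Cfsg.Agent.Lib.Helper39.Quad

universe u

section additive

variable {G : Type*} [Group G] {V : Type*} [AddCommGroup V]

theorem mem_sup_zmultiples (hV2 : ∀ v : V, v + v = 0) (A : AddSubgroup V) (w x : V) :
    x ∈ A ⊔ AddSubgroup.zmultiples w ↔ x ∈ A ∨ x - w ∈ A := by
  constructor
  · intro hx
    obtain ⟨y, hy, z, hz, rfl⟩ := AddSubgroup.mem_sup.mp hx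
    obtain ⟨k, rfl⟩ := AddSubgroup.mem_zmultiples_iff.mp hz
    have h2 : ∀ m : ℤ, (2 * m) • w = 0 := by
      intro m
      rw [mul_comm, mul_zsmul, two_zsmul, hV2, zsmul_zero]
    rcases Int.even_or_odd' k with ⟨m, rfl | rfl⟩
    · left
      rw [h2, add_zero]; exact hy
    · right
      rw [add_zsmul, one_zsmul, h2, zero_add]
      simpa using hy
  · rintro (hx | hx)
    · exact (le_sup_left : A ≤ _) hx
    · have : x = (x - w) + w := by abel
      rw [this]
      exact add_mem ((le_sup_left : A ≤ _) hx)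
        ((le_sup_right : AddSubgroup.zmultiples w ≤ _) (AddSubgroup.mem_zmultiples w))

theorem s3_fix (ρ : G →* AddMonoid.End V) (hV2 : ∀ v : V, v + v = 0) (t : G)
    (N₀ : AddSubgroup V) (w : V) (h1 : ∀ n ∈ N₀, ρ t n = n) (e2 : ρ t w = w) :
    ∀ x ∈ N₀ ⊔ AddSubgroup.zmultiples w, ρ t x = x := by
  intro x hx
  rcases (mem_sup_zmultiples hV2 N₀ w x).mp hx with h | h
  · exact h1 x h
  · have : x = (x - w) + w := by abel
    rw [this, map_add, h1 _ h, e2]

theorem s3_comm (ρ : G →* AddMonoid.End V) (hV2 : ∀ v : V, v + v = 0) (t : G)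
    (N₀ : AddSubgroup V) (u w : V) (h1 : ∀ n ∈ N₀, ρ t n = n) (e2 : ρ t w = w)
    (e1 : ρ t u - u - w ∈ N₀) :
    ∀ x ∈ N₀ ⊔ AddSubgroup.zmultiples w ⊔ AddSubgroup.zmultiples u,
      ρ t x - x ∈ N₀ ⊔ AddSubgroup.zmultiples w := by
  intro x hx
  have hfix := s3_fix ρ hV2 t N₀ w h1 e2
  rcases (mem_sup_zmultiples hV2 _ u x).mp hx with h | h
  · rw [hfix x h, sub_self]; exact zero_mem _
  · have e : ρ t x - x = (ρ t (x - u) - (x - u)) + (ρ t u - u) := by
      rw [map_sub]; abel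
    rw [e, hfix _ h, sub_self, zero_add]
    rw [mem_sup_zmultiples hV2]
    right; exact e1

theorem s3_fix_iff (ρ : G →* AddMonoid.End V) (hV2 : ∀ v : V, v + v = 0) (t : G)
    (N₀ : AddSubgroup V) (u w : V) (h1 : ∀ n ∈ N₀, ρ t n = n) (e2 : ρ t w = w)
    (e1 : ρ t u - u - w ∈ N₀) (hw : w ∉ N₀) :
    ∀ x ∈ N₀ ⊔ AddSubgroup.zmultiples w ⊔ AddSubgroup.zmultiples u,
      ρ t x = x → x ∈ N₀ ⊔ AddSubgroup.zmultiples w := by
  intro x hx hfx
  have hfix := s3_fix ρ hV2 t N₀ w h1 e2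
  rcases (mem_sup_zmultiples hV2 _ u x).mp hx with h | h
  · exact h
  · exfalso
    apply hw
    have h3 := hfix _ h
    rw [map_sub, hfx] at h3
    have h4 : ρ t u = u := by
      have : ρ t u = x - (x - ρ t u) := by abel
      rw [this, h3]; abel
    rw [h4, sub_self, zero_sub] at e1
    have := N₀.neg_mem e1
    rwa [neg_neg] at this

end additive

end Cfsg.Agent.Lib.Helper39.Quad
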