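import Mathlib
import Cfsg.Agent.Lib.Helper39.QuadMain
import Cfsg.Agent.Lib.Helper39.QuadS3
import Cfsg.Agent.Lib.Helper39.QuadGroup
import Cfsg.Agent.Lib.Helper39.QuadBridgeA

set_option autoImplicit false

namespace Cfsg.Agent.Lib.Helper39.Quad

universe u

set_option maxHeartbeats 1600000 in
/-- an `S₃`-configuration for an action realized by conjugation inside `X` produces `S₄`. -/
theorem involves_of_hasS3 {X : Type u} [Group X] [Finite X] {A : Type*} [AddCommGroup A]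
    (ρ : X →* AddMonoid.End A) (hV2 : ∀ a : A, a + a = 0) (ι : A → X)
    (hι : Function.Injective ι) (hι0 : ι 0 = 1) (hιadd : ∀ a b, ι (a + b) = ι a * ι b)
    (hιρ : ∀ x a, ι (ρ x a) = x * ι a * x⁻¹)
    (hsq : ∀ t : X, (∃ j : ℕ, t ^ 2 ^ j = 1) → ∀ a, ρ t (ρ t a) = a)
    (h : HasS3 ρ) : Cfsg.Involves (Equiv.Perm (Fin 4)) X := by
  classical
  obtain ⟨t, t₁, N₀, u, w, ht, ht₁, h1, h2, hu, hw, huw, e1, e2, e3, e4⟩ := h
  set N₁ := N₀ ⊔ AddSubgroup.zmultiples w with hN₁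
  set Na := N₁ ⊔ AddSubgroup.zmultiples u with hNa
  have hNa' : Na = N₀ ⊔ AddSubgroup.zmultiples u ⊔ AddSubgroup.zmultiples w := by
    rw [hNa, hN₁, sup_right_comm]
  have hιneg : ∀ a, ι (-a) = (ι a)⁻¹ := by
    intro a
    have := hιadd a (-a)
    rw [add_neg_cancel, hι0] at this
    exact (eq_inv_of_mul_eq_one_right this.symm)
  let N : Subgroup X :=
    { carrier := ι '' (Na : Set A)
      one_mem' := ⟨0, Na.zero_mem, hι0⟩
      mul_mem' := by
        rintro _ _ ⟨a, ha, rfl⟩ ⟨b, hb, rfl⟩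
        exact ⟨a + b, Na.add_mem ha hb, hιadd a b⟩
      inv_mem' := by
        rintro _ ⟨a, ha, rfl⟩
        exact ⟨-a, Na.neg_mem ha, hιneg a⟩ }
  have hNmem : ∀ x : X, x ∈ N ↔ ∃ a ∈ Na, ι a = x := fun x => Iff.rfl
  have hNc : ∀ a ∈ N, ∀ b ∈ N, a * b = b * a := by
    rintro _ ⟨a, _, rfl⟩ _ ⟨b, _, rfl⟩
    rw [← hιadd, ← hιadd, add_comm]
  have hN2 : IsPGroup 2 N := by
    rintro ⟨_, ⟨a, _, rfl⟩⟩
    refine ⟨1, Subtype.ext ?_⟩
    show ι a ^ 2 ^ 1 = 1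
    rw [pow_one, pow_two, ← hιadd, hV2, hι0]
  -- stability
  have hst : ∀ x ∈ Na, ρ t x ∈ Na := by
    intro x hx
    have := s3_comm ρ hV2 t N₀ u w h1 e2 e1 x hx
    have e : ρ t x = (ρ t x - x) + x := by abel
    rw [e]
    exact Na.add_mem ((le_sup_left : N₁ ≤ Na) this) hx
  have hst₁ : ∀ x ∈ Na, ρ t₁ x ∈ Na := by
    intro x hx
    have hx' : x ∈ N₀ ⊔ AddSubgroup.zmultiples u ⊔ AddSubgroup.zmultiples w := by rwa [← hNa']
    have := s3_comm ρ hV2 t₁ N₀ w u h2 e4 e3 x hx'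
    have e : ρ t₁ x = (ρ t₁ x - x) + x := by abel
    rw [e]
    refine Na.add_mem ?_ hx
    rw [hNa']
    exact (le_sup_left : N₀ ⊔ AddSubgroup.zmultiples u ≤ _) this
  have htN : ∀ n ∈ N, t * n * t⁻¹ ∈ N := by
    rintro _ ⟨a, ha, rfl⟩
    exact ⟨ρ t a, hst a ha, hιρ t a⟩
  have ht₁N : ∀ n ∈ N, t₁ * n * t₁⁻¹ ∈ N := by
    rintro _ ⟨a, ha, rfl⟩
    exact ⟨ρ t₁ a, hst₁ a ha, hιρ t₁ a⟩
  have ht2 : ∀ n ∈ N, t ^ 2 * n = n * t ^ 2 := by
    rintro _ ⟨a, _, rfl⟩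
    have h3 : ι (ρ (t ^ 2) a) = ι a := by
      rw [pow_two, rho_mul_apply, hsq t ht]
    rw [hιρ] at h3
    calc t ^ 2 * ι a = (t ^ 2 * ι a * (t ^ 2)⁻¹) * t ^ 2 := by group
      _ = ι a * t ^ 2 := by rw [h3]
  -- commuting with `t`
  have hcomm : ∀ a : A, ι a ∈ Subgroup.centralizer ({t} : Set X) ↔ ρ t a = a := by
    intro a
    rw [Subgroup.mem_centralizer_singleton_iff]
    constructor
    · intro hc
      apply hι
      rw [hιρ]
      calc t * ι a * t⁻¹ = (ι a * t) * t⁻¹ := by rw [hc]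
        _ = ι a := by group
    · intro hc
      have := hιρ t a
      rw [hc] at this
      calc ι a * t = (t * ι a * t⁻¹) * t := by rw [← this]
        _ = t * ι a := by group
  have huNa : u ∈ Na := (le_sup_right : AddSubgroup.zmultiples u ≤ Na) (AddSubgroup.mem_zmultiples u)
  have hidx : (N ⊓ Subgroup.centralizer {t}).relIndex N = 2 := by
    rw [Subgroup.relIndex_eq_two_iff_exists_notMem_and]
    refine ⟨ι u, ⟨u, huNa, rfl⟩, ?_, ?_⟩
    · intro hmem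
      have hc := (hcomm u).mp (Subgroup.mem_inf.mp hmem).2
      have := s3_fix_iff ρ hV2 t N₀ u w h1 e2 e1 hw u huNa hc
      rcases (mem_sup_zmultiples hV2 N₀ w u).mp this with h | h
      · exact hu h
      · apply huw
        have e : u + w = (u - w) + (w + w) := by abel
        rw [e, hV2, add_zero]; exact h
    · rintro _ ⟨x, hx, rfl⟩
      rcases (mem_sup_zmultiples hV2 N₁ u x).mp hx with h | h
      · right
        exact Subgroup.mem_inf.mpr ⟨⟨x, hx, rfl⟩, (hcomm x).mpr (s3_fix ρ hV2 t N₀ w h1 e2 x h)⟩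
      · left
        have e : x + u = x - u := by
          have : x + u = (x - u) + (u + u) := by abel
          rw [this, hV2, add_zero]
        refine Subgroup.mem_inf.mpr ⟨⟨x + u, Na.add_mem hx huNa, hιadd x u⟩, ?_⟩
        rw [← hιadd]
        apply (hcomm (x + u)).mpr
        rw [e]
        exact s3_fix ρ hV2 t N₀ w h1 e2 _ h
  have hnf : ∀ k : ℕ, ∃ n ∈ N,
      (t * (t₁ * t * t₁⁻¹)) ^ 2 ^ k * n ≠ n * (t * (t₁ * t * t₁⁻¹)) ^ 2 ^ k := by
    intro k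
    refine ⟨ι u, ⟨u, huNa, rfl⟩, ?_⟩
    intro hc
    apply not_fix ρ hV2 t t₁ N₀ u w h1 h2 hw huw e1 e2 e3 e4 k
    apply hι
    rw [hιρ, hc]
    group
  exact involves_perm4_of_s3 N hNc hN2 t t₁ htN ht₁N ht ht2 hidx hnf

end Cfsg.Agent.Lib.Helper39.Quad
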