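import Mathlib
import Cfsg.Agent.Lib.Helper39.QuadBridgeB

set_option autoImplicit false

namespace Cfsg.Agent.Lib.Helper39.Quad

universe u

theorem isPGroup_zpowers_of_pow {X : Type*} [Group X] (t : X) (ht : ∃ j : ℕ, t ^ 2 ^ j = 1) :
    IsPGroup 2 (Subgroup.zpowers t) := by
  obtain ⟨j, hj⟩ := ht
  obtain ⟨i, _, hi⟩ := (Nat.dvd_prime_pow Nat.prime_two).mp (orderOf_dvd_of_pow_eq_one hj)
  exact IsPGroup.of_card (n := i) (by rw [Nat.card_zpowers, hi])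

set_option maxHeartbeats 1600000 in
/-- **No offenders, realized form.** -/
theorem le_ker_of_offender {X : Type u} [Group X] [Finite X] {A : Type u} [AddCommGroup A]
    [Finite A] (ρ : X →* AddMonoid.End A) (hV2 : ∀ a : A, a + a = 0) (ι : A → X)
    (hι : Function.Injective ι) (hι0 : ι 0 = 1) (hιadd : ∀ a b, ι (a + b) = ι a * ι b)
    (hιρ : ∀ x a, ι (ρ x a) = x * ι a * x⁻¹)
    (hK2 : IsPGroup 2 ρ.ker)
    (hO : ∀ N : Subgroup X, N.Normal → IsPGroup 2 N → N ≤ ρ.ker)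
    (hS4 : ¬ Cfsg.Involves (Equiv.Perm (Fin 4)) X)
    (hq : AllQuad ρ)
    (E : Subgroup X) (hE2 : IsPGroup 2 E)
    (hoff : Nat.card A * Nat.card (E ⊓ ρ.ker : Subgroup X) ≤
      Nat.card E * Nat.card (fixedPts ρ E)) :
    E ≤ ρ.ker := by
  classical
  by_contra hE
  have : Fact (Nat.Prime 2) := ⟨Nat.prime_two⟩
  let ρ' : X ⧸ ρ.ker →* AddMonoid.End A := kerLift' ρ
  have hρ'inj : Function.Injective ρ' := kerLift'_injective ρ
  have hρ'mk : ∀ x : X, ρ' (QuotientGroup.mk x) = ρ x := fun x => kerLift'_mk ρ x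
  have hπs : Function.Surjective (QuotientGroup.mk' ρ.ker) := QuotientGroup.mk'_surjective _
  have hcomap2 : ∀ H' : Subgroup (X ⧸ ρ.ker), IsPGroup 2 H' →
      IsPGroup 2 (H'.comap (QuotientGroup.mk' ρ.ker)) := by
    intro H' hH'
    refine IsPGroup.comap_of_ker_isPGroup hH' _ ?_
    rw [QuotientGroup.ker_mk']; exact hK2
  have hO' : ∀ N : Subgroup (X ⧸ ρ.ker), N.Normal → IsPGroup 2 N → N = ⊥ := by
    intro N hNn hN2
    have h1 := hO (N.comap (QuotientGroup.mk' ρ.ker)) (hNn.comap _) (hcomap2 N hN2)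
    rw [eq_bot_iff]
    intro y hy
    obtain ⟨x, rfl⟩ := hπs y
    have hx : x ∈ ρ.ker := h1 (Subgroup.mem_comap.mpr hy)
    rw [Subgroup.mem_bot]
    exact (QuotientGroup.eq_one_iff x).mpr hx
  have hq' : AllQuad ρ' := by
    intro H' hH' s hs t ht a
    obtain ⟨x, rfl⟩ := hπs s
    obtain ⟨y, rfl⟩ := hπs t
    have hx : x ∈ H'.comap (QuotientGroup.mk' ρ.ker) := Subgroup.mem_comap.mpr hs
    have hy : y ∈ H'.comap (QuotientGroup.mk' ρ.ker) := Subgroup.mem_comap.mpr ht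
    exact hq _ (hcomap2 H' hH') x hx y hy a
  set F' := E.map (QuotientGroup.mk' ρ.ker) with hF'
  have hF'2 : IsPGroup 2 F' := hE2.map _
  have hF'ne : F' ≠ ⊥ := by
    intro h
    apply hE
    intro f hf
    have : (QuotientGroup.mk' ρ.ker) f ∈ F' := ⟨f, hf, rfl⟩
    rw [h, Subgroup.mem_bot] at this
    exact (QuotientGroup.eq_one_iff f).mp this
  have hFcard : Nat.card E = Nat.card (E ⊓ ρ.ker : Subgroup X) * Nat.card F' := by
    have h1 := Cfsg.Agent.Lib.Helper39.FourCent.card_mul_relIndex'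
      (inf_le_left : E ⊓ ρ.ker ≤ E)
    rw [inf_comm, Subgroup.inf_relIndex_right] at h1
    have h2 := Subgroup.relIndex_ker E (QuotientGroup.mk' ρ.ker)
    rw [QuotientGroup.ker_mk'] at h2
    rw [h2, inf_comm] at h1
    exact h1.symm
  have hfix : Nat.card (fixedPts ρ E) ≤ Nat.card (fixedPts ρ' F') := by
    refine Nat.card_le_card_of_injective
      (fun v => (⟨v.1, ?_⟩ : fixedPts ρ' F')) ?_
    · rintro _ ⟨f, hf, rfl⟩
      exact v.2 f hf
    · intro v v' h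
      apply Subtype.ext
      exact congrArg (fun z : fixedPts ρ' F' => (z : A)) h
  have hoff' : Nat.card A ≤ Nat.card F' * Nat.card (fixedPts ρ' F') := by
    have hpos : 0 < Nat.card (E ⊓ ρ.ker : Subgroup X) := Nat.card_pos
    have h1 : Nat.card (E ⊓ ρ.ker : Subgroup X) * Nat.card A ≤
        Nat.card (E ⊓ ρ.ker : Subgroup X) * (Nat.card F' * Nat.card (fixedPts ρ E)) := by
      calc Nat.card (E ⊓ ρ.ker : Subgroup X) * Nat.card A
          = Nat.card A * Nat.card (E ⊓ ρ.ker : Subgroup X) := mul_comm _ _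
        _ ≤ Nat.card E * Nat.card (fixedPts ρ E) := hoff
        _ = _ := by rw [hFcard]; ring
    have h2 := Nat.le_of_mul_le_mul_left h1 hpos
    exact h2.trans (Nat.mul_le_mul_left _ hfix)
  obtain ⟨t', t₁', N₀, u, w, ht', ht₁', h1, h2, h3, h4, h5, h6, h7, h8, h9⟩ :=
    hasS3_of_offender ρ' hρ'inj hV2 hO' hq' F' hF'2 hF'ne hoff'
  obtain ⟨t, rfl⟩ := hπs t'
  obtain ⟨t₁, rfl⟩ := hπs t₁'
  have hlift : ∀ x : X, (∃ j : ℕ, ((QuotientGroup.mk' ρ.ker) x) ^ 2 ^ j = 1) →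
      ∃ j : ℕ, x ^ 2 ^ j = 1 := by
    rintro x ⟨j, hj⟩
    rw [← map_pow] at hj
    have hx : x ^ 2 ^ j ∈ ρ.ker := (QuotientGroup.eq_one_iff _).mp hj
    obtain ⟨i, hi⟩ := hK2 ⟨x ^ 2 ^ j, hx⟩
    refine ⟨j + i, ?_⟩
    have := congrArg Subtype.val hi
    rw [pow_add, pow_mul]
    simpa using this
  have hS3 : HasS3 ρ :=
    ⟨t, t₁, N₀, u, w, hlift t ht', hlift t₁ ht₁', h1, h2, h3, h4, h5, h6, h7, h8, h9⟩
  have hsq : ∀ t : X, (∃ j : ℕ, t ^ 2 ^ j = 1) → ∀ a, ρ t (ρ t a) = a := by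
    intro t ht a
    exact hq.sq_apply hV2 (isPGroup_zpowers_of_pow t ht) (Subgroup.mem_zpowers t) a
  exact hS4 (involves_of_hasS3 ρ hV2 ι hι hι0 hιadd hιρ hsq hS3)

end Cfsg.Agent.Lib.Helper39.Quad
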