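import Mathlib
import Cfsg.Agent.Lib.Helper39.QuadBridgeC

set_option autoImplicit false

namespace Cfsg.Agent.Lib.Helper39.Quad

universe u

variable {X : Type u} [Group X]

/-- the conjugation action on a normal subgroup, written additively -/
def conjRep (V : Subgroup X) [hV : V.Normal] : X →* AddMonoid.End (Additive ↥V) where
  toFun x :=
    { toFun := fun a => Additive.ofMul
        (⟨x * ((Additive.toMul a : ↥V) : X) * x⁻¹, hV.conj_mem _ (Additive.toMul a).2 x⟩ : ↥V)
      map_zero' := by
        apply congrArg Additive.ofMul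
        apply Subtype.ext
        show x * ((1 : ↥V) : X) * x⁻¹ = ((1 : ↥V) : X)
        simp
      map_add' := by
        intro a b
        apply congrArg Additive.ofMul
        apply Subtype.ext
        show x * (((Additive.toMul a * Additive.toMul b : ↥V)) : X) * x⁻¹ = _
        simp only [Subgroup.coe_mul]
        show _ = (x * ((Additive.toMul a : ↥V) : X) * x⁻¹) * (x * ((Additive.toMul b : ↥V) : X) * x⁻¹)
        group }
  map_one' := by
    ext a
    show (1 : X) * ((Additive.toMul a : ↥V) : X) * (1 : X)⁻¹ = ((Additive.toMul a : ↥V) : X)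
    simp
  map_mul' x y := by
    ext a
    show (x * y) * ((Additive.toMul a : ↥V) : X) * (x * y)⁻¹ =
      x * (y * ((Additive.toMul a : ↥V) : X) * y⁻¹) * x⁻¹
    group

theorem conjRep_apply_coe (V : Subgroup X) [hV : V.Normal] (x : X) (a : Additive ↥V) :
    ((Additive.toMul (conjRep V x a) : ↥V) : X) = x * ((Additive.toMul a : ↥V) : X) * x⁻¹ := rfl

/-- the additive commutative group structure on a commutative normal subgroup -/
@[reducible] def addCommGroupOf (V : Subgroup X) (hVc : ∀ a ∈ V, ∀ b ∈ V, a * b = b * a) :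
    AddCommGroup (Additive ↥V) :=
  { (inferInstance : AddGroup (Additive ↥V)) with
    add_comm := fun a b => congrArg Additive.ofMul
      (Subtype.ext (hVc _ (Additive.toMul a).2 _ (Additive.toMul b).2)) }

set_option maxHeartbeats 1600000 in
/-- **No offenders, group form**: in an `S₄`-free group `X` with a normal elementary abelian
`2`-subgroup `V` on which all `2`-subgroups act quadratically, with `C_X(V)` a `2`-group
containing all normal `2`-subgroups, every `2`-subgroup which is an offender on `V`
centralizes `V`. -/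
theorem offender_le_centralizer_quad [Finite X]
    (V : Subgroup X) [hVn : V.Normal] (hVc : ∀ a ∈ V, ∀ b ∈ V, a * b = b * a)
    (hVe : ∀ v ∈ V, v * v = 1)
    (hC2 : IsPGroup 2 (Subgroup.centralizer (V : Set X)))
    (hO : ∀ N : Subgroup X, N.Normal → IsPGroup 2 N → N ≤ Subgroup.centralizer (V : Set X))
    (hS4 : ¬ Cfsg.Involves (Equiv.Perm (Fin 4)) X)
    (hquad : ∀ H : Subgroup X, IsPGroup 2 H → ∀ s ∈ H, ∀ t ∈ H, ∀ v ∈ V,
      s * (t * v * t⁻¹ * v⁻¹) * s⁻¹ = t * v * t⁻¹ * v⁻¹)
    (E : Subgroup X) (hE2 : IsPGroup 2 E)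
    (hoff : Nat.card V * Nat.card (E ⊓ Subgroup.centralizer (V : Set X) : Subgroup X) ≤
      Nat.card E * Nat.card (V ⊓ Subgroup.centralizer (E : Set X) : Subgroup X)) :
    E ≤ Subgroup.centralizer (V : Set X) := by
  classical
  let _ : AddCommGroup (Additive ↥V) := addCommGroupOf V hVc
  set ρ : X →* AddMonoid.End (Additive ↥V) := conjRep V with hρ
  let ι : Additive ↥V → X := fun a => ((Additive.toMul a : ↥V) : X)
  have hι : Function.Injective ι := by
    intro a b hab
    have : (Additive.toMul a : ↥V) = Additive.toMul b := Subtype.ext hab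
    exact Additive.toMul.injective this
  have hι0 : ι 0 = 1 := rfl
  have hιadd : ∀ a b, ι (a + b) = ι a * ι b := fun a b => rfl
  have hιρ : ∀ x a, ι (ρ x a) = x * ι a * x⁻¹ := fun x a => rfl
  have hsub : ∀ a b, ι (a - b) = ι a * (ι b)⁻¹ := by
    intro a b
    rw [sub_eq_add_neg, hιadd]
    rfl
  have hV2 : ∀ a : Additive ↥V, a + a = 0 := by
    intro a
    apply Additive.toMul.injective
    apply Subtype.ext
    exact hVe _ (Additive.toMul a).2
  have hker : ∀ x : X, x ∈ ρ.ker ↔ x ∈ Subgroup.centralizer (V : Set X) := by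
    intro x
    rw [MonoidHom.mem_ker, Subgroup.mem_centralizer_iff]
    constructor
    · intro h v hv
      have h1 := congrArg (fun φ : AddMonoid.End (Additive ↥V) => ι (φ (Additive.ofMul ⟨v, hv⟩))) h
      have h2 : x * v * x⁻¹ = v := h1
      calc v * x = (x * v * x⁻¹) * x := by rw [h2]
        _ = x * v := by group
    · intro h
      ext a
      show x * ι a * x⁻¹ = ι a
      rw [← h (ι a) (Additive.toMul a).2]
      group
  have hkerEq : ρ.ker = Subgroup.centralizer (V : Set X) := by
    ext x; exact hker x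
  have hK2 : IsPGroup 2 ρ.ker := by rw [hkerEq]; exact hC2
  have hO' : ∀ N : Subgroup X, N.Normal → IsPGroup 2 N → N ≤ ρ.ker := by
    intro N hNn hN2
    rw [hkerEq]; exact hO N hNn hN2
  have hq : AllQuad ρ := by
    intro H hH s hs t ht a
    apply hι
    have := hquad H hH s hs t ht (ι a) (Additive.toMul a).2
    rw [hιρ, hsub, hιρ]
    exact this
  have hcardV : Nat.card (Additive ↥V) = Nat.card V := rfl
  have hfix : Nat.card (V ⊓ Subgroup.centralizer (E : Set X) : Subgroup X) ≤
      Nat.card (fixedPts ρ E) := by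
    refine Nat.card_le_card_of_injective
      (fun v => (⟨Additive.ofMul ⟨v.1, v.2.1⟩, ?_⟩ : fixedPts ρ E)) ?_
    · intro e he
      apply hι
      show e * v.1 * e⁻¹ = v.1
      have := Subgroup.mem_centralizer_iff.mp v.2.2 e he
      rw [this]; group
    · intro v v' h
      apply Subtype.ext
      exact congrArg (fun z : fixedPts ρ E => ι z.1) h
  have hoff' : Nat.card (Additive ↥V) * Nat.card (E ⊓ ρ.ker : Subgroup X) ≤
      Nat.card E * Nat.card (fixedPts ρ E) := by
    rw [hkerEq, hcardV]
    exact hoff.trans (Nat.mul_le_mul_left _ hfix)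
  have := le_ker_of_offender ρ hV2 ι hι hι0 hιadd hιρ hK2 hO' hS4 hq E hE2 hoff'
  rwa [hkerEq] at this

end Cfsg.Agent.Lib.Helper39.Quad
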