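import Mathlib
import Cfsg.Prelude.Def_LocalEven
import Cfsg.Prelude.Def_Solvable
import Cfsg.Prelude.Def_Transfer
import Cfsg.Agent.Lib.Helper39.OffApply
import Cfsg.Agent.Lib.Helper39.QuadBridgeD

set_option autoImplicit false

/-!
# `J_e(S) ≤ O_2(G)` for `S₄`-free groups with `C_G(O_2(G)) ≤ O_2(G)` and `S` of class at most two

(unconditional version, via the no-offender theorem for quadratic Sylow `2`-subgroups).
-/

namespace Cfsg.Agent.Lib.Helper39.Offender

open Cfsg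

universe u

variable {G : Type u} [Group G]

set_option maxHeartbeats 1600000 in
/-- **Main theorem, quadratic version** (no end-game hypothesis). -/
theorem thompson_le_pCore_quad [Finite G]
    (hcon : Subgroup.centralizer (Cfsg.pCore 2 G : Set G) ≤ Cfsg.pCore 2 G)
    (hS4 : ¬ Cfsg.Involves (Equiv.Perm (Fin 4)) G)
    (S : Sylow 2 G) (hcl : Subgroup.lowerCentralSeries (S : Subgroup G) 2 = ⊥) :
    Cfsg.thompsonSubgroupOf 2 (S : Subgroup G) ≤ Cfsg.pCore 2 G := by
  classical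
  haveI : Fact (Nat.Prime 2) := ⟨Nat.prime_two⟩
  set Q := Cfsg.pCore 2 G with hQdef
  haveI hQn : Q.Normal := Cfsg.Agent.Lib.Helper01.pCore_normal 2
  have hQ2 : IsPGroup 2 Q := Cfsg.Agent.Lib.Helper01.pCore_isPGroup 2
  have hQS : Q ≤ (S : Subgroup G) := Cfsg.Agent.Lib.Helper01.pCore_le_sylow S
  set V := omegaCenter Q with hVdef
  haveI hVn : V.Normal := omegaCenter_normal Q
  have hVQ : V ≤ Q := omegaCenter_le Q
  have hVc : ∀ a ∈ V, ∀ b ∈ V, a * b = b * a := fun a ha b hb => hb.2.1 a ha.1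
  have hV2 : IsPGroup 2 V := hQ2.to_le hVQ
  have hQCV : Q ≤ Subgroup.centralizer (V : Set G) := by
    intro q hq
    rw [Subgroup.mem_centralizer_iff]
    intro v hv
    exact (hv.2.1 q hq).symm
  set D := chainStab Q V with hDdef
  haveI hDn : D.Normal := chainStab_normal Q V
  have hVD : V ≤ D := by
    intro v hv q hq
    have : v * q * v⁻¹ * q⁻¹ = 1 := by
      rw [← hv.2.1 q hq]; group
    rw [this]; exact V.one_mem
  -- `D ∩ C_G(V)` is a 2-group, hence inside `Q`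
  have hDC2 : IsPGroup 2 (D ⊓ Subgroup.centralizer (V : Set G) : Subgroup G) := by
    apply isPGroup_two_of_odd_trivial
    intro x hx hodd
    have hxD : x ∈ D := hx.1
    have hxC : ∀ v ∈ V, x * v = v * x := by
      intro v hv
      exact (Subgroup.mem_centralizer_iff.mp hx.2 v hv).symm
    have hxQ : x ∈ Subgroup.centralizer (Q : Set G) := by
      rw [Subgroup.mem_centralizer_iff]
      intro q hq
      -- `x q x⁻¹ = q w` with `w ∈ V`
      have hw : q⁻¹ * (x * q * x⁻¹ * q⁻¹) * q⁻¹⁻¹ ∈ V := hVn.conj_mem _ (hxD q hq) q⁻¹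
      set w := q⁻¹ * (x * q * x⁻¹ * q⁻¹) * q⁻¹⁻¹ with hwdef
      have h1 : x * q * x⁻¹ = q * w := by rw [hwdef]; group
      have h2 : x * w * x⁻¹ = w := by rw [hxC w hw]; group
      have h3 := conj_pow_eq x q w h1 h2 (orderOf x)
      rw [pow_orderOf_eq_one] at h3
      have hwn : w ^ orderOf x = 1 := by
        have : q * w ^ orderOf x = q * 1 := by
          rw [mul_one, ← h3]; group
        exact mul_left_cancel this
      have hw2 : w ^ 2 = 1 := hw.2.2
      have hw1 : w = 1 := by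
        have hd1 : orderOf w ∣ orderOf x := orderOf_dvd_of_pow_eq_one hwn
        have hd2 : orderOf w ∣ 2 := orderOf_dvd_of_pow_eq_one hw2
        have hcop : Nat.Coprime (orderOf x) 2 := Nat.Coprime.symm (Nat.coprime_two_left.mpr hodd)
        have := Nat.eq_one_of_dvd_coprimes hcop hd1 hd2
        exact orderOf_eq_one_iff.mp this
      rw [hw1, mul_one] at h1
      calc q * x = (x * q * x⁻¹)⁻¹⁻¹ * x := by rw [h1]; group
        _ = x * q := by group
    have hxQ' : x ∈ Q := hcon hxQ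
    obtain ⟨k, hk⟩ := hQ2 ⟨x, hxQ'⟩
    have hk' : x ^ 2 ^ k = 1 := by
      have := congrArg Subtype.val hk
      simpa using this
    have hd1 : orderOf x ∣ 2 ^ k := orderOf_dvd_of_pow_eq_one hk'
    have hcop : Nat.Coprime (orderOf x) (2 ^ k) :=
      Nat.Coprime.pow_right _ (Nat.Coprime.symm (Nat.coprime_two_left.mpr hodd))
    have := Nat.eq_one_of_dvd_coprimes hcop (dvd_refl _) hd1
    exact orderOf_eq_one_iff.mp this
  have hDCn : (D ⊓ Subgroup.centralizer (V : Set G) : Subgroup G).Normal := inferInstance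
  have hDCQ : D ⊓ Subgroup.centralizer (V : Set G) ≤ Q :=
    Cfsg.Agent.Lib.Helper01.le_pCore hDCn hDC2
  -- class two
  have hSS : ⁅(S : Subgroup G), (S : Subgroup G)⁆ ≤ Subgroup.centralizer ((S : Subgroup G) : Set G) := by
    have : ⁅⁅(S : Subgroup G), (S : Subgroup G)⁆, (S : Subgroup G)⁆ = ⊥ := hcl
    exact Subgroup.commutator_eq_bot_iff_le_centralizer.mp this
  -- every maximal elementary abelian subgroup lies in `Q`
  rw [Cfsg.Agent.Lib.Helper15.thompsonSubgroupOf_eq]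
  apply sSup_le
  rintro A ⟨hAS, hAe, hAmax⟩
  rw [Cfsg.Agent.Lib.Helper99.isEA_iff] at hAe
  obtain ⟨hAc, hA2⟩ := hAe
  -- `A ≤ D`
  have hAD : A ≤ D := by
    intro a ha q hq
    have haS : a ∈ (S : Subgroup G) := hAS ha
    have hqS : q ∈ (S : Subgroup G) := hQS hq
    have hcomm : a * q * a⁻¹ * q⁻¹ ∈ ⁅(S : Subgroup G), (S : Subgroup G)⁆ := by
      have := Subgroup.commutator_mem_commutator haS hqS
      rwa [commutatorElement_def] at this
    have hcent := Subgroup.mem_centralizer_iff.mp (hSS hcomm)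
    refine ⟨?_, ?_, ?_⟩
    · exact Q.mul_mem (hQn.conj_mem q hq a) (Q.inv_mem hq)
    · intro q' hq'
      exact hcent q' (hQS hq')
    · have h1 : a * (a * q * a⁻¹ * q⁻¹) = (a * q * a⁻¹ * q⁻¹) * a := hcent a haS
      have ha2 : a * a = 1 := by rw [← pow_two]; exact hA2 a ha
      have h2 : a * (a * q * a⁻¹ * q⁻¹) * a⁻¹ = (a * q * a⁻¹ * q⁻¹)⁻¹ := by
        calc a * (a * q * a⁻¹ * q⁻¹) * a⁻¹ = (a * a) * q * (a * a)⁻¹ * (a * q * a⁻¹)⁻¹ := by group
          _ = q * (a * q * a⁻¹)⁻¹ := by rw [ha2]; group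
          _ = (a * q * a⁻¹ * q⁻¹)⁻¹ := by group
      have h3 : a * q * a⁻¹ * q⁻¹ = (a * q * a⁻¹ * q⁻¹)⁻¹ := by
        rw [← h2, h1]; group
      rw [pow_two]
      calc (a * q * a⁻¹ * q⁻¹) * (a * q * a⁻¹ * q⁻¹)
          = (a * q * a⁻¹ * q⁻¹) * (a * q * a⁻¹ * q⁻¹)⁻¹ := by rw [← h3]
        _ = 1 := mul_inv_cancel _
  -- offender inequality
  have hoff : Nat.card V * Nat.card (A ⊓ Subgroup.centralizer (V : Set G) : Subgroup G) ≤
      Nat.card A * Nat.card (V ⊓ Subgroup.centralizer (A : Set G) : Subgroup G) := by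
    set A₀ := A ⊓ Subgroup.centralizer (V : Set G) with hA₀
    have hA₀e : IsElementaryAbelian 2 A₀ := by
      rw [Cfsg.Agent.Lib.Helper99.isEA_iff]
      exact ⟨fun a ha b hb => hAc a ha.1 b hb.1, fun a ha => hA2 a ha.1⟩
    have hVe : IsElementaryAbelian 2 V := by
      rw [Cfsg.Agent.Lib.Helper99.isEA_iff]
      exact ⟨hVc, fun v hv => hv.2.2⟩
    have hcomm : ∀ a ∈ A₀, ∀ v ∈ V, a * v = v * a := by
      intro a ha v hv
      exact (Subgroup.mem_centralizer_iff.mp ha.2 v hv).symm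
    have hsupe : IsElementaryAbelian 2 (A₀ ⊔ V) :=
      Cfsg.Agent.Lib.Helper99.isEA_sup hA₀e hVe hcomm
    have hsupS : A₀ ⊔ V ≤ (S : Subgroup G) :=
      sup_le (inf_le_left.trans hAS) (hVQ.trans hQS)
    have h1 : Nat.card (A₀ ⊔ V : Subgroup G) ≤ Nat.card A := hAmax _ hsupS hsupe
    have h2 := Cfsg.Agent.Lib.Helper01.card_sup_mul_card_inf V A₀
    have h3 : V ⊓ A₀ ≤ V ⊓ Subgroup.centralizer (A : Set G) := by
      intro x hx
      refine ⟨hx.1, Subgroup.mem_centralizer_iff.mpr ?_⟩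
      intro a ha
      exact hAc a ha x hx.2.1
    have h4 := Subgroup.card_le_of_le h3
    calc Nat.card V * Nat.card A₀ = Nat.card (A₀ ⊔ V : Subgroup G) * Nat.card (V ⊓ A₀ : Subgroup G) :=
          h2.symm
      _ ≤ Nat.card A * Nat.card (V ⊓ Subgroup.centralizer (A : Set G) : Subgroup G) :=
          Nat.mul_le_mul h1 h4
  -- apply the core lemma inside `D`
  set V' : Subgroup ↥D := V.subgroupOf D with hV'
  set E' : Subgroup ↥D := A.subgroupOf D with hE'
  haveI hV'n : V'.Normal := by rw [hV']; infer_instance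
  have hV'c : ∀ a ∈ V', ∀ b ∈ V', a * b = b * a := by
    intro a ha b hb
    exact Subtype.ext (hVc a.1 (Subgroup.mem_subgroupOf.mp ha) b.1 (Subgroup.mem_subgroupOf.mp hb))
  have hV'2 : IsPGroup 2 V' := by
    intro x
    obtain ⟨k, hk⟩ := hV2 ⟨x.1.1, Subgroup.mem_subgroupOf.mp x.2⟩
    refine ⟨k, ?_⟩
    have := congrArg Subtype.val hk
    apply Subtype.ext
    apply Subtype.ext
    simpa using this
  -- membership in the centralizer of `V'`
  have hcentV' : ∀ x : ↥D, x ∈ Subgroup.centralizer (V' : Set ↥D) ↔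
      (x : G) ∈ Subgroup.centralizer (V : Set G) := by
    intro x
    rw [Subgroup.mem_centralizer_iff, Subgroup.mem_centralizer_iff]
    constructor
    · intro h v hv
      have := h ⟨v, hVD hv⟩ (Subgroup.mem_subgroupOf.mpr hv)
      exact congrArg Subtype.val this
    · intro h v hv
      exact Subtype.ext (h v.1 (Subgroup.mem_subgroupOf.mp hv))
  have hC2' : IsPGroup 2 (Subgroup.centralizer (V' : Set ↥D)) := by
    intro x
    have hx : (x.1 : G) ∈ D ⊓ Subgroup.centralizer (V : Set G) := ⟨x.1.2, (hcentV' x.1).mp x.2⟩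
    obtain ⟨k, hk⟩ := hDC2 ⟨_, hx⟩
    refine ⟨k, ?_⟩
    have := congrArg Subtype.val hk
    apply Subtype.ext
    apply Subtype.ext
    simpa using this
  have hO' : ∀ P : Subgroup ↥D, P.Normal → IsPGroup 2 P → P ≤ Subgroup.centralizer (V' : Set ↥D) := by
    intro P hPn hP2 x hx
    rw [hcentV']
    have h1 : P ≤ Cfsg.pCore 2 ↥D := Cfsg.Agent.Lib.Helper01.le_pCore hPn hP2
    have h2 := Cfsg.Agent.Lib.Helper15.map_pCore_le_of_normal 2 D
    have h3 : (x : G) ∈ (Cfsg.pCore 2 ↥D).map D.subtype := ⟨x, h1 hx, rfl⟩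
    exact hQCV (h2 h3)
  have hS4' : ¬ Cfsg.Involves (Equiv.Perm (Fin 4)) ↥D := fun h =>
    hS4 (Cfsg.Agent.Lib.Helper90.Involves.of_injective_right D.subtype D.subtype_injective h)
  have hE'2 : IsPGroup 2 E' := by
    intro x
    refine ⟨1, ?_⟩
    apply Subtype.ext
    apply Subtype.ext
    have := hA2 x.1.1 (Subgroup.mem_subgroupOf.mp x.2)
    simpa using this
  have hVe' : ∀ v ∈ V', v * v = 1 := by
    intro v hv
    apply Subtype.ext
    have h1 : (v : G) ^ 2 = 1 := (Subgroup.mem_subgroupOf.mp hv).2.2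
    rw [pow_two] at h1
    exact h1
  -- all `2`-subgroups of `G` act quadratically on `V`
  have hquadG : ∀ H : Subgroup G, IsPGroup 2 H → ∀ s ∈ H, ∀ t ∈ H, ∀ v ∈ V,
      s * (t * v * t⁻¹ * v⁻¹) * s⁻¹ = t * v * t⁻¹ * v⁻¹ := by
    intro H hH s hs t ht v hv
    obtain ⟨P, hHP⟩ := hH.exists_le_sylow
    obtain ⟨g, hg⟩ := MulAction.exists_smul_eq G S P
    have hmem : ∀ x ∈ H, g⁻¹ * x * g ∈ (S : Subgroup G) := by
      intro x hx
      have h1 : x ∈ ((g • S : Sylow 2 G) : Subgroup G) := by rw [hg]; exact hHP hx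
      exact (Cfsg.Agent.Lib.Helper39.Quad.mem_smul_sylow S g x).mp h1
    have hs₀ := hmem s hs
    have ht₀ := hmem t ht
    have hv₀ : g⁻¹ * v * g ∈ (S : Subgroup G) := by
      have := hVn.conj_mem v hv g⁻¹
      rw [inv_inv] at this
      exact hQS (hVQ this)
    have hcomm : (g⁻¹ * t * g) * (g⁻¹ * v * g) * (g⁻¹ * t * g)⁻¹ * (g⁻¹ * v * g)⁻¹ ∈
        ⁅(S : Subgroup G), (S : Subgroup G)⁆ := by
      have := Subgroup.commutator_mem_commutator ht₀ hv₀
      rwa [commutatorElement_def] at this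
    have hc := Subgroup.mem_centralizer_iff.mp (hSS hcomm) _ hs₀
    calc s * (t * v * t⁻¹ * v⁻¹) * s⁻¹
        = g * ((g⁻¹ * s * g) * ((g⁻¹ * t * g) * (g⁻¹ * v * g) * (g⁻¹ * t * g)⁻¹ *
            (g⁻¹ * v * g)⁻¹)) * (g⁻¹ * s * g)⁻¹ * g⁻¹ := by group
      _ = g * (((g⁻¹ * t * g) * (g⁻¹ * v * g) * (g⁻¹ * t * g)⁻¹ *
            (g⁻¹ * v * g)⁻¹) * (g⁻¹ * s * g)) * (g⁻¹ * s * g)⁻¹ * g⁻¹ := by rw [hc]
      _ = t * v * t⁻¹ * v⁻¹ := by group
  have hquad' : ∀ H : Subgroup ↥D, IsPGroup 2 H → ∀ s ∈ H, ∀ t ∈ H, ∀ v ∈ V',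
      s * (t * v * t⁻¹ * v⁻¹) * s⁻¹ = t * v * t⁻¹ * v⁻¹ := by
    intro H hH s hs t ht v hv
    apply Subtype.ext
    exact hquadG (H.map D.subtype) (hH.map _) s.1 ⟨s, hs, rfl⟩ t.1 ⟨t, ht, rfl⟩ v.1
      (Subgroup.mem_subgroupOf.mp hv)
  have hoff' : Nat.card V' * Nat.card (E' ⊓ Subgroup.centralizer (V' : Set ↥D) : Subgroup ↥D) ≤
      Nat.card E' * Nat.card (V' ⊓ Subgroup.centralizer (E' : Set ↥D) : Subgroup ↥D) := by
    have c1 : Nat.card V' = Nat.card V := Cfsg.Agent.Lib.Helper15.card_subgroupOf_of_le hVD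
    have c2 : Nat.card E' = Nat.card A := Cfsg.Agent.Lib.Helper15.card_subgroupOf_of_le hAD
    have c3 : Nat.card (E' ⊓ Subgroup.centralizer (V' : Set ↥D) : Subgroup ↥D) ≤
        Nat.card (A ⊓ Subgroup.centralizer (V : Set G) : Subgroup G) := by
      have hle : (E' ⊓ Subgroup.centralizer (V' : Set ↥D) : Subgroup ↥D).map D.subtype ≤
          A ⊓ Subgroup.centralizer (V : Set G) := by
        rintro _ ⟨x, hx, rfl⟩
        exact ⟨Subgroup.mem_subgroupOf.mp hx.1, (hcentV' x).mp hx.2⟩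
      have := Subgroup.card_le_of_le hle
      rwa [Subgroup.card_map_of_injective D.subtype_injective] at this
    have c4 : Nat.card (V ⊓ Subgroup.centralizer (A : Set G) : Subgroup G) ≤
        Nat.card (V' ⊓ Subgroup.centralizer (E' : Set ↥D) : Subgroup ↥D) := by
      have hle : (V ⊓ Subgroup.centralizer (A : Set G)).subgroupOf D ≤
          V' ⊓ Subgroup.centralizer (E' : Set ↥D) := by
        intro x hx
        rw [Subgroup.mem_subgroupOf] at hx
        refine ⟨Subgroup.mem_subgroupOf.mpr hx.1, Subgroup.mem_centralizer_iff.mpr ?_⟩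
        intro e he
        exact Subtype.ext (Subgroup.mem_centralizer_iff.mp hx.2 e.1 (Subgroup.mem_subgroupOf.mp he))
      have := Subgroup.card_le_of_le hle
      rwa [Cfsg.Agent.Lib.Helper15.card_subgroupOf_of_le (inf_le_left.trans hVD)] at this
    calc Nat.card V' * Nat.card (E' ⊓ Subgroup.centralizer (V' : Set ↥D) : Subgroup ↥D)
        ≤ Nat.card V * Nat.card (A ⊓ Subgroup.centralizer (V : Set G) : Subgroup G) := by
          rw [c1]; exact Nat.mul_le_mul_left _ c3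
      _ ≤ Nat.card A * Nat.card (V ⊓ Subgroup.centralizer (A : Set G) : Subgroup G) := hoff
      _ ≤ Nat.card E' * Nat.card (V' ⊓ Subgroup.centralizer (E' : Set ↥D) : Subgroup ↥D) := by
          rw [c2]; exact Nat.mul_le_mul_left _ c4
  have hfinal := Cfsg.Agent.Lib.Helper39.Quad.offender_le_centralizer_quad V' hV'c hVe' hC2' hO' hS4'
    hquad' E' hE'2 hoff'
  -- conclusion
  intro a ha
  have haD : a ∈ D := hAD ha
  have h1 : (⟨a, haD⟩ : ↥D) ∈ E' := Subgroup.mem_subgroupOf.mpr ha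
  have h2 := (hcentV' _).mp (hfinal h1)
  exact hDCQ ⟨haD, h2⟩

end Cfsg.Agent.Lib.Helper39.Offender
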