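import Mathlib
import Cfsg.Prelude.Def_PLocal
import Cfsg.Agent.Lib.Helper02.PStab2
import Cfsg.Agent.Lib.Helper02.PStab3
import Cfsg.Agent.Lib.Helper33.SolvPSolv
import Cfsg.Agent.Lib.Helper57.PStableAll
import Cfsg.Agent.Lib.Helper81.PSolvable

set_option autoImplicit false

/-!
# `p`-stability of `p`-solvable groups (`p ≥ 5`) on arbitrary normal `p`-subgroups

* `exists_normal_pGroup_of_quadG_psolv` : abstract form: a finite `p`-solvable group `X` (`p ≠ 2, 3`)
  acting faithfully on a finite `p`-group `P`; every element acting quadratically lies in a normal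
  `p`-subgroup of `X`.
* `mk_mem_pCore_of_quad` : element form inside a finite solvable group.
-/

namespace Cfsg.Agent.Lib.Helper39.PStabSolv

open Cfsg
open Cfsg.Agent.Lib.Helper02.PStab

variable {X : Type*} [Group X] {P : Type*} [Group P]

/-- abstract `p`-stability on a `p`-group for `p`-solvable groups, `p ≥ 5` -/
theorem exists_normal_pGroup_of_quadG_psolv [Finite X] [Finite P] {p : ℕ} [hpF : Fact p.Prime]
    (hp2 : p ≠ 2) (hp3 : p ≠ 3)
    (hP : IsPGroup p P) (φ : X →* MulAut P) (hφ : Function.Injective φ) (a : X)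
    (hq : QuadG φ a) (hsol : IsPSolvable p X) :
    ∃ N : Subgroup X, N.Normal ∧ IsPGroup p N ∧ a ∈ N := by
  let _ : CommGroup (P ⧸ frattini P) :=
    { (inferInstance : Group (P ⧸ frattini P)) with
      mul_comm := Cfsg.Agent.Lib.Helper75.frattini_quotient_comm hP }
  have hVexp : ∀ v : P ⧸ frattini P, v ^ p = 1 := Cfsg.Agent.Lib.Helper75.frattini_quotient_pow hP
  set φb : X →* MulAut (P ⧸ frattini P) := (Cfsg.Agent.S4208.rho P).comp φ with hφb
  set Y : Subgroup X := φb.ker with hY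
  -- Y is a p-group
  have hYp : ∀ y ∈ Y, ∃ k : ℕ, y ^ (p ^ k) = 1 := by
    intro y hy
    have h1 : φ y ∈ (Cfsg.Agent.S4208.rho P).ker := by
      rw [MonoidHom.mem_ker]
      exact hy
    obtain ⟨k, hk⟩ := Cfsg.Agent.Lib.Helper75.isPGroup_ker_rho hP ⟨φ y, h1⟩
    refine ⟨k, hφ ?_⟩
    rw [map_pow, map_one]
    exact congrArg Subtype.val hk
  -- the faithful action of X/Y on the Frattini quotient
  set φ' : X ⧸ Y →* MulAut (P ⧸ frattini P) := QuotientGroup.kerLift φb with hφ'
  have hφ'inj : Function.Injective φ' := QuotientGroup.kerLift_injective φb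
  have hquad : Quad φ' (QuotientGroup.mk a) := by
    intro v
    obtain ⟨x, rfl⟩ := QuotientGroup.mk_surjective v
    have e : ∀ z : P, φ' (QuotientGroup.mk a) (QuotientGroup.mk z) =
        (QuotientGroup.mk (φ a z) : P ⧸ frattini P) := by
      intro z
      rw [hφ', QuotientGroup.kerLift_mk]
      rfl
    rw [e, div_eq_mul_inv, ← QuotientGroup.mk_inv, ← QuotientGroup.mk_mul, e, hq x]
  by_contra hcon
  push Not at hcon
  have ha' : ∀ N : Subgroup (X ⧸ Y), N.Normal → IsPGroup p N → (QuotientGroup.mk a : X ⧸ Y) ∉ N := by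
    intro N hN hNp haN
    have := hN
    apply hcon (N.comap (QuotientGroup.mk' Y)) inferInstance
    · intro n
      obtain ⟨k, hk⟩ := hNp ⟨QuotientGroup.mk (n : X), n.2⟩
      have h1 : (n : X) ^ (p ^ k) ∈ Y := by
        rw [← QuotientGroup.eq_one_iff, QuotientGroup.mk_pow]
        exact congrArg Subtype.val hk
      obtain ⟨l, hl⟩ := hYp _ h1
      refine ⟨k + l, Subtype.ext ?_⟩
      rw [Subgroup.coe_pow, pow_add, pow_mul, hl]
      rfl
    · exact haN
  have hsolY : IsPSolvable p (X ⧸ Y) :=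
    Cfsg.Agent.Lib.Helper81.IsPSolvable.quotient hpF.out hsol Y
  exact hp3 (Cfsg.Agent.Lib.Helper02.PStab3.eq_three_of_quad_psolv hp2 hVexp φ' hφ'inj hsolY
    (QuotientGroup.mk a) hquad ha')

variable {G : Type*} [Group G]

/-- element form: in a finite solvable group, an element `c` acting quadratically on a normal
`p`-subgroup `V` (`p ≥ 5`) maps into `O_p(G / C_G(V))`. -/
theorem mk_mem_pCore_of_quad [Finite G] [Group.IsSolvable G] {p : ℕ} [hpF : Fact p.Prime]
    (hp2 : p ≠ 2) (hp3 : p ≠ 3) (V : Subgroup G) [V.Normal] (hV : IsPGroup p V) (c : G)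
    (hq : ∀ v ∈ V, c * (c * v * c⁻¹ * v⁻¹) * c⁻¹ = c * v * c⁻¹ * v⁻¹) :
    (QuotientGroup.mk c : G ⧸ Subgroup.centralizer (V : Set G)) ∈
      Cfsg.pCore p (G ⧸ Subgroup.centralizer (V : Set G)) := by
  have hsol : IsPSolvable p (G ⧸ Subgroup.centralizer (V : Set G)) :=
    Cfsg.Agent.Lib.Helper33.isPSolvable_of_isSolvable p _
  have hquad : QuadG (Cfsg.Agent.Lib.Helper57.PStableAll.quotAct V)
      (QuotientGroup.mk c : G ⧸ Subgroup.centralizer (V : Set G)) := by
    intro v
    apply Subtype.ext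
    rw [Cfsg.Agent.Lib.Helper57.PStableAll.quotAct_mk, Subgroup.coe_mul, Subgroup.coe_inv,
      Cfsg.Agent.Lib.Helper57.PStableAll.quotAct_mk]
    exact hq v v.2
  obtain ⟨N, hN, hNp, haN⟩ := exists_normal_pGroup_of_quadG_psolv hp2 hp3 hV
    (Cfsg.Agent.Lib.Helper57.PStableAll.quotAct V)
    (Cfsg.Agent.Lib.Helper57.PStableAll.quotAct_injective V) (QuotientGroup.mk c) hquad hsol
  exact Cfsg.Agent.Lib.Helper16.ZJ.le_pCore hN hNp haN

end Cfsg.Agent.Lib.Helper39.PStabSolv
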