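import Cfsg.Agent.Lib.Helper50.SpinorIndex

/-!
# K-S2719-N2 (271905): if `-1 ∉ Ω` (even dimension, odd characteristic) then every isometry of
determinant `1` lies in `Ω` or its negative does.
-/

set_option autoImplicit false

namespace Cfsg.Agent.Lib.Helper39.S2719K

open Module Matrix Cfsg.Agent.Lib.Helper50

universe u

variable {F : Type u} [Field F] [Fintype F] {ι : Type} [Fintype ι] [DecidableEq ι]
variable (Q : QuadraticForm F (ι → F))

theorem mem_Omega_or_neg_mem (h2 : (2 : F) ≠ 0) (hQ : (QuadraticMap.polarBilin Q).Nondegenerate)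
    (hcard : Even (Fintype.card ι))
    (hneg : ¬ ∃ g : ↥(Cfsg.isometryGroup F ⇑Q), g ∈ Cfsg.Omega F ⇑Q ∧
      ((g : GL ι F) : Matrix ι ι F) = -1)
    (s : ↥(Cfsg.isometryGroup F ⇑Q)) (hs : ((s : GL ι F) : Matrix ι ι F).det = 1) :
    s ∈ Cfsg.Omega F ⇑Q ∨ ∃ s' : ↥(Cfsg.isometryGroup F ⇑Q), s' ∈ Cfsg.Omega F ⇑Q ∧
      ((s' : GL ι F) : Matrix ι ι F) = -((s : GL ι F) : Matrix ι ι F) := by
  obtain ⟨ζ, hζ⟩ := exists_nonsquare_of_two_ne_zero (F := F) h2
  have hdneg : detHom (⇑Q) (negO Q) = 1 := by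
    apply Units.ext
    rw [detHom_val, negO_val, Matrix.det_neg, Matrix.det_one, hcard.neg_one_pow]
    simp
  have hds : detHom (⇑Q) s = 1 := Units.ext (by rw [detHom_val, hs]; rfl)
  have htneg : theta (⇑Q) ζ (negO Q) ≠ 1 := by
    intro h
    apply hneg
    refine ⟨negO Q, ?_, negO_val Q⟩
    show negO Q ∈ commutator _
    rw [mem_commutator_iff h2 Q hQ ζ hζ]
    exact ⟨hdneg, h⟩
  have htneg' : theta (⇑Q) ζ (negO Q) = -1 := (Int.units_eq_one_or _).resolve_left htneg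
  rcases Int.units_eq_one_or (theta (⇑Q) ζ s) with h | h
  · left
    show s ∈ commutator _
    rw [mem_commutator_iff h2 Q hQ ζ hζ]
    exact ⟨hds, h⟩
  · right
    refine ⟨negO Q * s, ?_, ?_⟩
    · show negO Q * s ∈ commutator _
      rw [mem_commutator_iff h2 Q hQ ζ hζ, map_mul, map_mul, hdneg, hds, htneg', h]
      simp
    · rw [Subgroup.coe_mul, Units.val_mul, negO_val]
      simp

end Cfsg.Agent.Lib.Helper39.S2719K
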