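import Mathlib

/-!
# K-S4751-E2a: splitting an odd central subgroup of index 6 off a nonabelian group
-/

set_option autoImplicit false

namespace Cfsg.Agent.Lib.Helper39.S4751E2a

universe u

variable {Q : Type u} [Group Q]

lemma conj_zpow_inv {t u : Q} (hinv : u * t * u⁻¹ = t⁻¹) (k : ℤ) :
    u * t ^ k = t ^ (-k) * u := by
  have h1 : u * t ^ k * u⁻¹ = (t⁻¹) ^ k := by rw [← hinv, conj_zpow]
  rw [zpow_neg, ← inv_zpow, ← h1]
  group

/-- The "dihedral" subgroup `⟨t⟩ ∪ ⟨t⟩ u`. -/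
def dihK (t u : Q) (hu : u * u = 1) (hinv : u * t * u⁻¹ = t⁻¹) : Subgroup Q where
  carrier := {x | ∃ i : ℤ, x = t ^ i ∨ x = t ^ i * u}
  one_mem' := ⟨0, Or.inl (by simp)⟩
  mul_mem' := by
    rintro a b ⟨i, rfl | rfl⟩ ⟨k, rfl | rfl⟩
    · exact ⟨i + k, Or.inl (by rw [zpow_add])⟩
    · exact ⟨i + k, Or.inr (by rw [zpow_add, mul_assoc])⟩
    · refine ⟨i + (-k), Or.inr ?_⟩
      rw [mul_assoc, conj_zpow_inv hinv k, ← mul_assoc, ← zpow_add]
    · refine ⟨i + (-k), Or.inl ?_⟩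
      rw [mul_assoc, ← mul_assoc u, conj_zpow_inv hinv k, mul_assoc, hu, mul_one, ← zpow_add]
  inv_mem' := by
    rintro a ⟨i, rfl | rfl⟩
    · exact ⟨-i, Or.inl (by rw [zpow_neg])⟩
    · refine ⟨i, Or.inr ?_⟩
      have hui : u⁻¹ = u := inv_eq_of_mul_eq_one_left hu
      rw [mul_inv_rev, hui, ← zpow_neg, conj_zpow_inv hinv (-i), neg_neg]

lemma mem_dihK {t u : Q} (hu : u * u = 1) (hinv : u * t * u⁻¹ = t⁻¹) {x : Q} :
    x ∈ dihK t u hu hinv ↔ ∃ i : ℤ, x = t ^ i ∨ x = t ^ i * u := Iff.rfl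

/-- **K-S4751-E2a**. -/
theorem exists_complement_of_index_six {Q : Type u} [Group Q] [Finite Q] (A : Subgroup Q)
    (hA : A ≤ Subgroup.center Q) (hodd : Odd (Nat.card A)) (hidx : A.index = 6)
    (hna : ∃ a b : Q, a * b ≠ b * a) :
    ∃ K : Subgroup Q, Nat.card K = 6 ∧ K ⊓ A = ⊥ := by
  classical
  have : Fact (Nat.Prime 2) := ⟨Nat.prime_two⟩
  have : Fact (Nat.Prime 3) := ⟨Nat.prime_three⟩
  have hAn : A.Normal := ⟨fun n hn g => by
    have h1 := Subgroup.mem_center_iff.mp (hA hn) g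
    rw [h1, mul_inv_cancel_right]; exact hn⟩
  set π := QuotientGroup.mk' A with hπ
  have hker : π.ker = A := QuotientGroup.ker_mk' A
  have hcardQ' : Nat.card (Q ⧸ A) = 6 := by rw [← Subgroup.index_eq_card, hidx]
  have hncyc : ¬ IsCyclic (Q ⧸ A) := by
    intro hc
    obtain ⟨a, b, hab⟩ := hna
    have hcomm := MonoidHom.isMulCommutative_of_isCyclic_of_ker_le_center π (by rw [hker]; exact hA)
    exact hab (mul_comm' a b)
  have hAodd : ∀ a ∈ A, a * a = 1 → a = 1 := by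
    intro a ha h2
    have h1 : orderOf a ∣ 2 := orderOf_dvd_of_pow_eq_one (by rw [pow_two]; exact h2)
    have h3 : orderOf a ∣ Nat.card A := by
      have := orderOf_dvd_natCard (⟨a, ha⟩ : A)
      rwa [Subgroup.orderOf_mk] at this
    have hg : Nat.gcd 2 (Nat.card A) = 1 := (Nat.coprime_two_left).mpr hodd
    have h4 : orderOf a ∣ 1 := by rw [← hg]; exact Nat.dvd_gcd h1 h3
    exact orderOf_eq_one_iff.mp (Nat.dvd_one.mp h4)
  have hpiA : ∀ g : Q, π g = 1 ↔ g ∈ A := fun g => QuotientGroup.eq_one_iff g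
  -- the involution u
  have h2dvd : 2 ∣ Nat.card Q := by
    rw [← Subgroup.card_mul_index A, hidx]
    exact Dvd.dvd.mul_left (by norm_num) _
  obtain ⟨u, hu⟩ := exists_prime_orderOf_dvd_card' 2 h2dvd
  have hu2 : u * u = 1 := by rw [← pow_two, ← hu, pow_orderOf_eq_one]
  have hu1 : u ≠ 1 := by intro h; rw [h, orderOf_one] at hu; omega
  have huA : u ∉ A := fun h => hu1 (hAodd u h hu2)
  have hui : u⁻¹ = u := inv_eq_of_mul_eq_one_left hu2
  have hpu : orderOf (π u) = 2 := by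
    apply orderOf_eq_prime
    · rw [pow_two, ← map_mul, hu2, map_one]
    · intro h; exact huA ((hpiA u).mp h)
  -- an element of order 3 in the quotient
  have h3dvd : 3 ∣ Nat.card (Q ⧸ A) := by rw [hcardQ']; norm_num
  obtain ⟨xb, hxb⟩ := exists_prime_orderOf_dvd_card' 3 h3dvd
  obtain ⟨x, rfl⟩ := QuotientGroup.mk'_surjective A xb
  change orderOf (π x) = 3 at hxb
  have hNcard : Nat.card (Subgroup.zpowers (π x)) = 3 := by rw [Nat.card_zpowers, hxb]
  have hNidx : (Subgroup.zpowers (π x)).index = 2 := by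
    have := Subgroup.card_mul_index (Subgroup.zpowers (π x))
    rw [hNcard, hcardQ'] at this
    omega
  have hNn : (Subgroup.zpowers (π x)).Normal := Subgroup.normal_of_index_eq_two hNidx
  have hconj := hNn.conj_mem (π x) (Subgroup.mem_zpowers _) (π u)
  obtain ⟨k, hk⟩ := Subgroup.mem_zpowers_iff.mp hconj
  have hk' : (π x) ^ (k % 3) = π u * π x * (π u)⁻¹ := by
    rw [← hk]
    have := zpow_mod_orderOf (π x) k
    rw [hxb] at this
    exact_mod_cast this
  have hcase : (π x) ^ (2 : ℤ) = π u * π x * (π u)⁻¹ := by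
    have h0 : 0 ≤ k % 3 := Int.emod_nonneg _ (by norm_num)
    have h3 : k % 3 < 3 := Int.emod_lt_of_pos _ (by norm_num)
    rcases (show k % 3 = 0 ∨ k % 3 = 1 ∨ k % 3 = 2 by omega) with h | h | h
    · exfalso
      rw [h, zpow_zero] at hk'
      have : π x = 1 := by
        have h5 : π u * π x * (π u)⁻¹ = 1 := hk'.symm
        have h6 : π u * π x = π u := by
          have := congrArg (· * π u) h5
          simpa using this
        exact mul_left_cancel (a := π u) (by rw [h6, mul_one])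
      rw [this, orderOf_one] at hxb
      omega
    · exfalso
      rw [h, zpow_one] at hk'
      have hcomm : Commute (π u) (π x) := by
        have h5 : π u * π x = π x * π u := by
          have := congrArg (· * π u) hk'
          simpa using this.symm
        exact h5
      have hord : orderOf (π u * π x) = 6 := by
        rw [hcomm.orderOf_mul_eq_mul_orderOf_of_coprime (by rw [hpu, hxb]; decide), hpu, hxb]
      exact hncyc (isCyclic_of_orderOf_eq_card (π u * π x) (by rw [hord, hcardQ']))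
    · rw [h] at hk'; exact hk'
  -- the element t
  set t := x * (u * x⁻¹ * u⁻¹) with ht
  have hinv : u * t * u⁻¹ = t⁻¹ := by
    rw [ht, hui]
    have h1 : u * (x * (u * x⁻¹ * u)) * u = u * x * u * x⁻¹ * (u * u) := by group
    have h2 : (x * (u * x⁻¹ * u))⁻¹ = u⁻¹ * x * u⁻¹ * x⁻¹ := by group
    rw [h1, h2, hu2, hui, mul_one]
  have hpt : π t = (π x)⁻¹ := by
    have h1 : π t = π x * (π u * π x * (π u)⁻¹)⁻¹ := by
      rw [ht]; simp only [map_mul, map_inv]; group
    rw [h1, ← hcase]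
    group
  have hpt3 : (π t) ^ 3 = 1 := by
    rw [hpt, inv_pow, ← hxb, pow_orderOf_eq_one, inv_one]
  have hpt1 : π t ≠ 1 := by
    rw [hpt]
    intro h
    have : π x = 1 := inv_eq_one.mp h
    rw [this, orderOf_one] at hxb
    omega
  have hpto : orderOf (π t) = 3 := orderOf_eq_prime hpt3 hpt1
  have ht3 : t ^ 3 = 1 := by
    have hmem : t ^ 3 ∈ A := by rw [← hpiA, map_pow]; exact hpt3
    apply hAodd _ hmem
    have hc := Subgroup.mem_center_iff.mp (hA hmem) u
    -- u * t^3 = t^3 * u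
    have h1 : u * t ^ 3 * u⁻¹ = (t ^ 3)⁻¹ := by
      have := conj_pow (a := u) (b := t) (i := 3)
      rw [← this, hinv, inv_pow]
    have h2 : u * t ^ 3 * u⁻¹ = t ^ 3 := by rw [hc, mul_inv_cancel_right]
    rw [h2] at h1
    calc t ^ 3 * t ^ 3 = t ^ 3 * (t ^ 3)⁻¹ := by rw [← h1]
      _ = 1 := mul_inv_cancel _
  have ht1 : t ≠ 1 := by
    intro h; apply hpt1; rw [h, map_one]
  have hto : orderOf t = 3 := orderOf_eq_prime ht3 ht1
  -- the subgroup K
  refine ⟨dihK t u hu2 hinv, ?_⟩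
  have hKA : dihK t u hu2 hinv ⊓ A = ⊥ := by
    rw [eq_bot_iff]
    rintro y ⟨hyK, hyA⟩
    rw [Subgroup.mem_bot]
    obtain ⟨i, rfl | rfl⟩ := (mem_dihK hu2 hinv).mp hyK
    · have h1 : (π t) ^ i = 1 := by rw [← map_zpow]; exact (hpiA _).mpr hyA
      have h2 : (3 : ℤ) ∣ i := by
        have := (orderOf_dvd_iff_zpow_eq_one (x := π t) (i := i)).mpr h1
        rwa [hpto] at this
      obtain ⟨j, rfl⟩ := h2
      rw [zpow_mul]
      have : t ^ (3 : ℤ) = 1 := by exact_mod_cast ht3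
      rw [this, one_zpow]
    · exfalso
      have h1 : (π t) ^ i * π u = 1 := by
        rw [← map_zpow, ← map_mul]; exact (hpiA _).mpr hyA
      have h2 : π u = ((π t) ^ i)⁻¹ := eq_inv_of_mul_eq_one_right h1
      have h3 : (π u) ^ 3 = 1 := by
        rw [h2, inv_pow, ← zpow_natCast, ← zpow_mul, mul_comm, zpow_mul]
        have : (π t) ^ ((3 : ℕ) : ℤ) = 1 := by exact_mod_cast hpt3
        rw [this, one_zpow, inv_one]
      have h4 : orderOf (π u) ∣ 3 := orderOf_dvd_of_pow_eq_one h3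
      rw [hpu] at h4
      omega
  refine ⟨?_, hKA⟩
  -- cardinality
  have hle : Nat.card (dihK t u hu2 hinv) ≤ 6 := by
    rw [← hcardQ']
    apply Nat.card_le_card_of_injective (fun y : dihK t u hu2 hinv => π (y : Q))
    intro y z hyz
    have hyz' : π (y : Q) = π (z : Q) := hyz
    have h1 : π ((y : Q)⁻¹ * (z : Q)) = 1 := by
      rw [map_mul, map_inv, hyz', inv_mul_cancel]
    have h2 : (y : Q)⁻¹ * (z : Q) ∈ dihK t u hu2 hinv ⊓ A :=
      ⟨(dihK t u hu2 hinv).mul_mem ((dihK t u hu2 hinv).inv_mem y.2) z.2, (hpiA _).mp h1⟩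
    rw [hKA, Subgroup.mem_bot] at h2
    exact Subtype.ext (inv_mul_eq_one.mp h2)
  have huK : u ∈ dihK t u hu2 hinv := ⟨0, Or.inr (by simp)⟩
  have htK : t ∈ dihK t u hu2 hinv := ⟨1, Or.inl (by simp)⟩
  have h2K : 2 ∣ Nat.card (dihK t u hu2 hinv) := by
    have := orderOf_dvd_natCard (⟨u, huK⟩ : dihK t u hu2 hinv)
    rwa [Subgroup.orderOf_mk, hu] at this
  have h3K : 3 ∣ Nat.card (dihK t u hu2 hinv) := by
    have := orderOf_dvd_natCard (⟨t, htK⟩ : dihK t u hu2 hinv)
    rwa [Subgroup.orderOf_mk, hto] at this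
  have hpos : 0 < Nat.card (dihK t u hu2 hinv) := Nat.card_pos
  omega

end Cfsg.Agent.Lib.Helper39.S4751E2a
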