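import Mathlib
import Cfsg.Prelude.Def_OddOrderLocal
import Cfsg.Agent.Lib.Helper39.PStabSolv
import Cfsg.Agent.Lib.Helper01.Fitting
import Cfsg.Agent.Lib.Helper01.PCore
import Cfsg.Agent.Lib.Helper13.Fitting
import Cfsg.Agent.Lib.Helper31.FittingHall

set_option autoImplicit false

/-!
# Centralizers of self-centralizing normal subgroups in solvable groups (Thompson, N-groups 5.x)

`S` finite solvable, `π` a set of primes not containing `2, 3`, `O_p(S) = 1` for `p ∉ π` and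
`O_p(S) ≤ F` for `p ∈ π`, `A ∈ SCN(F)`.  Then `C_S(A) = A`.
-/

namespace Cfsg.Agent.Lib.Helper39.SCNCent

open Cfsg

variable {S : Type*} [Group S]

/-- an element centralizing `A ∈ SCN(F)` acts quadratically on every normal subgroup inside `F` -/
theorem quad_of_scn (F A : Subgroup S) (hA : IsSCN F A) (P : Subgroup S) [hP : P.Normal]
    (hPF : P ≤ F) (c : S) (hc : c ∈ Subgroup.centralizer (A : Set S)) :
    ∀ v ∈ P, c * (c * v * c⁻¹ * v⁻¹) * c⁻¹ = c * v * c⁻¹ * v⁻¹ := by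
  intro v hv
  obtain ⟨hAF, hFN, hFC⟩ := hA
  rw [Subgroup.mem_centralizer_iff] at hc
  have hvN : v ∈ Subgroup.normalizer (A : Set S) := hFN (hPF hv)
  set y := c * v * c⁻¹ * v⁻¹ with hy
  have hyP : y ∈ P := P.mul_mem (hP.conj_mem v hv c) (P.inv_mem hv)
  have hyC : y ∈ Subgroup.centralizer (A : Set S) := by
    rw [Subgroup.mem_centralizer_iff]
    intro a ha
    have ha' : v⁻¹ * a * v ∈ A := by
      have := (Subgroup.mem_normalizer_iff.mp (Subgroup.inv_mem _ hvN) a).mp ha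
      simpa using this
    have e1 : (v⁻¹ * a * v) * c = c * (v⁻¹ * a * v) := hc _ ha'
    have e2 : a * c = c * a := hc a ha
    have e1' : c⁻¹ * (v⁻¹ * a * v) = (v⁻¹ * a * v) * c⁻¹ := by
      calc c⁻¹ * (v⁻¹ * a * v) = c⁻¹ * ((v⁻¹ * a * v) * c) * c⁻¹ := by group
        _ = c⁻¹ * (c * (v⁻¹ * a * v)) * c⁻¹ := by rw [e1]
        _ = (v⁻¹ * a * v) * c⁻¹ := by group
    calc a * y = (a * c) * v * c⁻¹ * v⁻¹ := by rw [hy]; group
      _ = (c * a) * v * c⁻¹ * v⁻¹ := by rw [e2]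
      _ = c * v * ((v⁻¹ * a * v) * c⁻¹) * v⁻¹ := by group
      _ = c * v * (c⁻¹ * (v⁻¹ * a * v)) * v⁻¹ := by rw [e1']
      _ = y * a := by rw [hy]; group
  have hyA : y ∈ A := by
    rw [← hFC]
    exact ⟨hPF hyP, hyC⟩
  have := hc y hyA
  calc c * y * c⁻¹ = (y * c) * c⁻¹ := by rw [this]
    _ = y := by group

section

variable [Finite S] [Group.IsSolvable S]

/-- a `q`-element of `C_S(A)` centralizes `O_p(S)` for `p ∈ π`, `p ≠ q` -/
theorem mem_centralizer_pCore_of_ne (π : Set ℕ) (h2 : 2 ∉ π) (h3 : 3 ∉ π) (F A : Subgroup S)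
    (hF : ∀ p : ℕ, p.Prime → p ∈ π → Cfsg.pCore p S ≤ F) (hA : IsSCN F A)
    {p q : ℕ} [hp : Fact p.Prime] (hpπ : p ∈ π) (hq : q.Prime) (hpq : p ≠ q)
    (c : S) (hc : c ∈ Subgroup.centralizer (A : Set S)) (k : ℕ) (hck : orderOf c = q ^ k) :
    c ∈ Subgroup.centralizer (Cfsg.pCore p S : Set S) := by
  have hn : (Cfsg.pCore p S).Normal := Cfsg.Agent.Lib.Helper01.pCore_normal p
  have hp2 : p ≠ 2 := fun h => h2 (h ▸ hpπ)
  have hp3 : p ≠ 3 := fun h => h3 (h ▸ hpπ)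
  have hmem := Cfsg.Agent.Lib.Helper39.PStabSolv.mk_mem_pCore_of_quad hp2 hp3 (Cfsg.pCore p S)
    (Cfsg.Agent.Lib.Helper01.pCore_isPGroup p) c
    (quad_of_scn F A hA (Cfsg.pCore p S) (hF p hp.out hpπ) c hc)
  set C := Subgroup.centralizer (Cfsg.pCore p S : Set S) with hC
  obtain ⟨j, hj⟩ := (Cfsg.Agent.Lib.Helper01.pCore_isPGroup (G := S ⧸ C) p) ⟨_, hmem⟩
  have hj' : (QuotientGroup.mk c : S ⧸ C) ^ (p ^ j) = 1 := by
    simpa using congrArg Subtype.val hj
  have hk' : (QuotientGroup.mk c : S ⧸ C) ^ (q ^ k) = 1 := by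
    rw [← QuotientGroup.mk_pow, ← hck, pow_orderOf_eq_one, QuotientGroup.mk_one]
  have hcop : Nat.Coprime (p ^ j) (q ^ k) :=
    Nat.Coprime.pow j k ((Nat.coprime_primes hp.out hq).2 hpq)
  have h1 : orderOf (QuotientGroup.mk c : S ⧸ C) = 1 :=
    Nat.eq_one_of_dvd_coprimes hcop (orderOf_dvd_of_pow_eq_one hj') (orderOf_dvd_of_pow_eq_one hk')
  rw [orderOf_eq_one_iff, QuotientGroup.eq_one_iff] at h1
  exact h1

end

/-- `O_{q'}(F(S))`: the join of the `p`-cores for the primes `p ≠ q`. -/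
def Sq (S : Type*) [Group S] (q : ℕ) : Subgroup S :=
  sSup {N | ∃ p : ℕ, p.Prime ∧ p ≠ q ∧ N = Cfsg.pCore p S}

instance Sq_normal (q : ℕ) : (Sq S q).Normal :=
  Subgroup.sSup_normal _ (by rintro _ ⟨p, _, _, rfl⟩; exact Cfsg.Agent.Lib.Helper01.pCore_normal p)

theorem fitting_le_sup [Finite S] (q : ℕ) :
    Cfsg.fittingSubgroup S ≤ Cfsg.pCore q S ⊔ Sq S q := by
  rw [Cfsg.Agent.Lib.Helper01.fitting_eq_iSup_pCore]
  apply iSup_le
  intro p
  by_cases h : (p : ℕ) = q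
  · rw [h]; exact le_sup_left
  · exact le_trans (le_sSup (show Cfsg.pCore (p : ℕ) S ∈
      {N | ∃ p : ℕ, p.Prime ∧ p ≠ q ∧ N = Cfsg.pCore p S} from ⟨p, p.2, h, rfl⟩)) le_sup_right

theorem mem_of_mem_sup_of_coprime {q : ℕ} (P N : Subgroup S) [N.Normal]
    (hP : IsPGroup q P) (w : S) (hw : w ∈ P ⊔ N) (hcop : (orderOf w).Coprime q) : w ∈ N := by
  rw [← SetLike.mem_coe, Subgroup.mul_normal] at hw
  obtain ⟨a, ha, b, hb, rfl⟩ := hw
  obtain ⟨k, hk⟩ := hP ⟨a, ha⟩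
  have hak : a ^ (q ^ k) = 1 := by simpa using congrArg Subtype.val hk
  have h1 : (a * b) ^ (q ^ k) ∈ N := by
    rw [← QuotientGroup.eq_one_iff, QuotientGroup.mk_pow, QuotientGroup.mk_mul,
      (QuotientGroup.eq_one_iff b).2 hb, mul_one, ← QuotientGroup.mk_pow, hak, QuotientGroup.mk_one]
  exact Cfsg.Agent.Lib.Helper31.mem_of_pow_mem_of_coprime N (a * b) (q ^ k)
    (Nat.Coprime.pow_right k hcop) h1

/-- the full preimage of `O_q(S / C_S(O_q(S)))` -/
def Qq (S : Type*) [Group S] (q : ℕ) : Subgroup S :=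
  haveI : (Cfsg.pCore q S).Normal := Cfsg.Agent.Lib.Helper01.pCore_normal q
  (Cfsg.pCore q (S ⧸ Subgroup.centralizer (Cfsg.pCore q S : Set S))).comap
    (QuotientGroup.mk' (Subgroup.centralizer (Cfsg.pCore q S : Set S)))

instance Qq_normal (q : ℕ) : (Qq S q).Normal := by
  have : (Cfsg.pCore q S).Normal := Cfsg.Agent.Lib.Helper01.pCore_normal q
  have : (Cfsg.pCore q (S ⧸ Subgroup.centralizer (Cfsg.pCore q S : Set S))).Normal :=
    Cfsg.Agent.Lib.Helper01.pCore_normal q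
  unfold Qq
  infer_instance

/-- the nilpotent normal subgroup `C_S(O_{q'}(F(S))) ∩ Q_q` -/
def Nq (S : Type*) [Group S] (q : ℕ) : Subgroup S :=
  Subgroup.centralizer (Sq S q : Set S) ⊓ Qq S q

instance Nq_normal (q : ℕ) : (Nq S q).Normal := by
  unfold Nq
  infer_instance

/-- a `q'`-element of `Q_q` centralizes `O_q(S)` -/
theorem mem_centralizer_pCore_of_mem_Qq (q : ℕ) [Fact q.Prime] (w : S) (hw : w ∈ Qq S q)
    (hcop : (orderOf w).Coprime q) : w ∈ Subgroup.centralizer (Cfsg.pCore q S : Set S) := by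
  have : (Cfsg.pCore q S).Normal := Cfsg.Agent.Lib.Helper01.pCore_normal q
  set C := Subgroup.centralizer (Cfsg.pCore q S : Set S) with hC
  have hmem : (QuotientGroup.mk w : S ⧸ C) ∈ Cfsg.pCore q (S ⧸ C) := hw
  obtain ⟨j, hj⟩ := (Cfsg.Agent.Lib.Helper01.pCore_isPGroup (G := S ⧸ C) q) ⟨_, hmem⟩
  have hj' : (QuotientGroup.mk w : S ⧸ C) ^ (q ^ j) = 1 := by
    simpa using congrArg Subtype.val hj
  have hk' : (QuotientGroup.mk w : S ⧸ C) ^ (orderOf w) = 1 := by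
    rw [← QuotientGroup.mk_pow, pow_orderOf_eq_one, QuotientGroup.mk_one]
  have hcop' : Nat.Coprime (q ^ j) (orderOf w) := (Nat.Coprime.pow_right j hcop).symm
  have h1 : orderOf (QuotientGroup.mk w : S ⧸ C) = 1 :=
    Nat.eq_one_of_dvd_coprimes hcop' (orderOf_dvd_of_pow_eq_one hj') (orderOf_dvd_of_pow_eq_one hk')
  rw [orderOf_eq_one_iff, QuotientGroup.eq_one_iff] at h1
  exact h1

theorem mem_Sq_of_coprime [Finite S] [Group.IsSolvable S] (q : ℕ) [hq : Fact q.Prime] (w : S)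
    (hw : w ∈ Nq S q) (hcop : (orderOf w).Coprime q) : w ∈ Sq S q := by
  have hwS : w ∈ Subgroup.centralizer (Sq S q : Set S) := (Subgroup.mem_inf.1 hw).1
  have hwQ : w ∈ Qq S q := (Subgroup.mem_inf.1 hw).2
  have hwC := mem_centralizer_pCore_of_mem_Qq q w hwQ hcop
  have h1 : Cfsg.pCore q S ≤ Subgroup.centralizer ({w} : Set S) := by
    intro s hs
    rw [Subgroup.mem_centralizer_iff]
    intro h hh
    rw [Set.mem_singleton_iff] at hh
    subst hh
    exact ((Subgroup.mem_centralizer_iff.1 hwC) s hs).symm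
  have h2 : Sq S q ≤ Subgroup.centralizer ({w} : Set S) := by
    intro s hs
    rw [Subgroup.mem_centralizer_iff]
    intro h hh
    rw [Set.mem_singleton_iff] at hh
    subst hh
    exact ((Subgroup.mem_centralizer_iff.1 hwS) s hs).symm
  have h3 : w ∈ Subgroup.centralizer (Cfsg.fittingSubgroup S : Set S) := by
    rw [Subgroup.mem_centralizer_iff]
    intro x hx
    have h := (sup_le h1 h2) (fitting_le_sup q hx)
    rw [Subgroup.mem_centralizer_iff] at h
    exact (h w rfl).symm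
  have h4 : w ∈ Cfsg.fittingSubgroup S :=
    Cfsg.Agent.Lib.Helper13.centralizer_fittingSubgroup_le h3
  exact mem_of_mem_sup_of_coprime _ _ (Cfsg.Agent.Lib.Helper01.pCore_isPGroup q) w
    (fitting_le_sup q h4) hcop

theorem Nq_isNilpotent [Finite S] [Group.IsSolvable S] (q : ℕ) [hq : Fact q.Prime] :
    Group.IsNilpotent (Nq S q) := by
  have hp : IsPGroup q ((Nq S q) ⧸ Subgroup.center (Nq S q)) := by
    intro x
    induction x using QuotientGroup.induction_on with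
    | H z =>
    obtain ⟨z, hz⟩ := z
    have hpos : 0 < orderOf z := orderOf_pos z
    obtain ⟨a, m, hm, hzm⟩ := Nat.exists_eq_pow_mul_and_not_dvd hpos.ne' q hq.out.ne_one
    refine ⟨a, ?_⟩
    rw [← QuotientGroup.mk_pow, QuotientGroup.eq_one_iff, Subgroup.mem_center_iff]
    intro n
    obtain ⟨n, hn⟩ := n
    apply Subtype.ext
    simp only [Subgroup.coe_mul, Subgroup.coe_pow]
    have hw : z ^ (q ^ a) ∈ Nq S q := Subgroup.pow_mem _ hz _
    have hord : orderOf (z ^ (q ^ a)) = m := by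
      rw [orderOf_pow_of_dvd (pow_pos hq.out.pos a).ne' (hzm ▸ dvd_mul_right _ _), hzm,
        Nat.mul_div_cancel_left _ (pow_pos hq.out.pos a)]
    have hwS := mem_Sq_of_coprime q _ hw
      (by rw [hord]; exact ((Nat.Prime.coprime_iff_not_dvd hq.out).2 hm).symm)
    exact ((Subgroup.mem_centralizer_iff.1 (Subgroup.mem_inf.1 hn).1) _ hwS).symm
  have := hp.isNilpotent
  exact Subgroup.isNilpotent_of_ker_le_center (QuotientGroup.mk' (Subgroup.center (Nq S q)))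
    (by rw [QuotientGroup.ker_mk'])

section

variable [Finite S] [Group.IsSolvable S]

/-- prime-power order elements of `C_S(A)` lie in `A` -/
theorem mem_of_prime_pow (π : Set ℕ) (h2 : 2 ∉ π) (h3 : 3 ∉ π)
    (h0 : ∀ p : ℕ, p.Prime → p ∉ π → Cfsg.pCore p S = ⊥) (F A : Subgroup S)
    (hF : ∀ p : ℕ, p.Prime → p ∈ π → Cfsg.pCore p S ≤ F) (hA : IsSCN F A)
    (q : ℕ) [hq : Fact q.Prime] (c : S) (hc : c ∈ Subgroup.centralizer (A : Set S)) (k : ℕ)
    (hck : orderOf c = q ^ k) : c ∈ A := by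
  -- `c` centralizes `O_{q'}(F(S))`
  have hcS : c ∈ Subgroup.centralizer (Sq S q : Set S) := by
    have h1 : Sq S q ≤ Subgroup.centralizer ({c} : Set S) := by
      apply sSup_le
      rintro _ ⟨p, hp, hpq, rfl⟩
      have : Fact p.Prime := ⟨hp⟩
      intro s hs
      rw [Subgroup.mem_centralizer_iff]
      intro h hh
      rw [Set.mem_singleton_iff] at hh
      subst hh
      by_cases hpπ : p ∈ π
      · have := mem_centralizer_pCore_of_ne π h2 h3 F A hF hA hpπ hq.out hpq h hc k hck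
        exact ((Subgroup.mem_centralizer_iff.1 this) s hs).symm
      · rw [h0 p hp hpπ, Subgroup.mem_bot] at hs
        rw [hs, mul_one, one_mul]
    rw [Subgroup.mem_centralizer_iff]
    intro s hs
    have := h1 hs
    rw [Subgroup.mem_centralizer_iff] at this
    exact (this c rfl).symm
  -- `c ∈ Q_q`
  have hcQ : c ∈ Qq S q := by
    have : (Cfsg.pCore q S).Normal := Cfsg.Agent.Lib.Helper01.pCore_normal q
    show (QuotientGroup.mk c : S ⧸ Subgroup.centralizer (Cfsg.pCore q S : Set S)) ∈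
      Cfsg.pCore q (S ⧸ Subgroup.centralizer (Cfsg.pCore q S : Set S))
    by_cases hqπ : q ∈ π
    · have hq2 : q ≠ 2 := fun h => h2 (h ▸ hqπ)
      have hq3 : q ≠ 3 := fun h => h3 (h ▸ hqπ)
      exact Cfsg.Agent.Lib.Helper39.PStabSolv.mk_mem_pCore_of_quad hq2 hq3 (Cfsg.pCore q S)
        (Cfsg.Agent.Lib.Helper01.pCore_isPGroup q) c
        (quad_of_scn F A hA (Cfsg.pCore q S) (hF q hq.out hqπ) c hc)
    · have h1 : (QuotientGroup.mk c : S ⧸ Subgroup.centralizer (Cfsg.pCore q S : Set S)) = 1 := by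
        rw [QuotientGroup.eq_one_iff, Subgroup.mem_centralizer_iff]
        intro s hs
        have hs' : s ∈ Cfsg.pCore q S := hs
        rw [h0 q hq.out hqπ, Subgroup.mem_bot] at hs'
        rw [hs', mul_one, one_mul]
      rw [h1]
      exact Subgroup.one_mem _
  have hcN : c ∈ Nq S q := Subgroup.mem_inf.2 ⟨hcS, hcQ⟩
  have hcF : c ∈ Cfsg.fittingSubgroup S :=
    Cfsg.Agent.Lib.Helper13.le_fittingSubgroup _ (Nq_normal q) (Nq_isNilpotent q) hcN
  have hFF : Cfsg.fittingSubgroup S ≤ F := by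
    rw [Cfsg.Agent.Lib.Helper01.fitting_eq_iSup_pCore]
    apply iSup_le
    intro p
    by_cases hpπ : (p : ℕ) ∈ π
    · exact hF p p.2 hpπ
    · rw [h0 p p.2 hpπ]; exact bot_le
  rw [← hA.2.2]
  exact ⟨hFF hcF, hc⟩

/-- **Core theorem.** `C_S(A) = A` for `A ∈ SCN(F)` when `O_{π'}(S) = 1`. -/
theorem centralizer_le (π : Set ℕ) (h2 : 2 ∉ π) (h3 : 3 ∉ π)
    (h0 : ∀ p : ℕ, p.Prime → p ∉ π → Cfsg.pCore p S = ⊥) (F A : Subgroup S)
    (hF : ∀ p : ℕ, p.Prime → p ∈ π → Cfsg.pCore p S ≤ F) (hA : IsSCN F A) :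
    Subgroup.centralizer (A : Set S) ≤ A := by
  classical
  intro g hg
  set Z := Subgroup.zpowers g with hZ
  have key : ∀ (p : Nat.Primes) (Q : Sylow (p : ℕ) Z), (Q : Subgroup Z).map Z.subtype ≤ A := by
    intro p Q
    have : Fact (p : ℕ).Prime := ⟨p.2⟩
    rintro _ ⟨y, hy, rfl⟩
    obtain ⟨k, hk⟩ := (IsPGroup.iff_orderOf.1 Q.isPGroup') ⟨y, hy⟩
    have hyk : orderOf (y : S) = (p : ℕ) ^ k := by
      rw [← hk, Subgroup.orderOf_mk, Subgroup.orderOf_coe]
    have hyC : (y : S) ∈ Subgroup.centralizer (A : Set S) := (Subgroup.zpowers_le.2 hg) y.2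
    exact mem_of_prime_pow π h2 h3 h0 F A hF hA (p : ℕ) (y : S) hyC k hyk
  have htop : ⨆ p : Nat.Primes, ((default : Sylow (p : ℕ) Z) : Subgroup Z) = ⊤ :=
    Cfsg.Agent.Lib.Helper01.iSup_sylow_eq_top _
  have h2' : Z = (⊤ : Subgroup Z).map Z.subtype := by
    rw [← MonoidHom.range_eq_map, Subgroup.range_subtype]
  have h3' : Z ≤ A := by
    rw [h2', ← htop, Subgroup.map_iSup]
    exact iSup_le (fun p => key p _)
  exact h3' (Subgroup.mem_zpowers g)

end

end Cfsg.Agent.Lib.Helper39.SCNCent
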