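import Mathlib
import Cfsg.Prelude.Def_GeometricClasses

/-!
# K-SLMax-X6: `n = 4`, `|F| = 3`: the determinant-one stabiliser of a decomposition into two planes
preserves a symplectic form up to scalars.
-/

set_option autoImplicit false

namespace Cfsg.Agent.Lib.Helper39.SLMax

open Cfsg Cfsg.Geo Module
open scoped Matrix

variable {F : Type*} [Field F]

/-- index equivalence -/
def e4 : (Σ _ : Fin 2, Fin 2) ≃ Fin 4 where
  toFun a := ⟨2 * a.1.val + a.2.val, by have := a.1.isLt; have := a.2.isLt; omega⟩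
  invFun k := ⟨⟨k.val / 2, by have := k.isLt; omega⟩, ⟨k.val % 2, by omega⟩⟩
  left_inv := by rintro ⟨i, j⟩; fin_cases i <;> fin_cases j <;> rfl
  right_inv := by intro k; fin_cases k <;> rfl

/-- the block of an index -/
def blk (k : Fin 4) : Fin 2 := (e4.symm k).1

/-- the standard alternating form in coordinates -/
def stdForm (x y : Fin 4 → F) : F := x 0 * y 1 - x 1 * y 0 + x 2 * y 3 - x 3 * y 2

lemma sq_eq_one_of_card_three [Fintype F] (hq : Fintype.card F = 3) {a : F} (ha : a ≠ 0) :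
    a * a = 1 := by
  have := FiniteField.pow_card_sub_one_eq_one a ha
  rw [hq] at this
  simpa [pow_two] using this

lemma explicit_diag [Fintype F] (hq : Fintype.card F = 3) (a b c d e f g h : F)
    (hdet : (a * d - b * c) * (e * h - f * g) = 1) :
    ∃ cc : Fˣ, ∀ x y : Fin 4 → F,
      stdForm (!![a, b, 0, 0; c, d, 0, 0; 0, 0, e, f; 0, 0, g, h] *ᵥ x)
        (!![a, b, 0, 0; c, d, 0, 0; 0, 0, e, f; 0, 0, g, h] *ᵥ y) = (cc : F) * stdForm x y := by
  have h1 : e * h - f * g ≠ 0 := by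
    intro h0; rw [h0, mul_zero] at hdet; exact zero_ne_one hdet
  have h0 : a * d - b * c ≠ 0 := by
    intro h0; rw [h0, zero_mul] at hdet; exact zero_ne_one hdet
  have hsq := sq_eq_one_of_card_three hq h1
  have heq : e * h - f * g = a * d - b * c := by
    calc e * h - f * g = ((a * d - b * c) * (e * h - f * g)) * (e * h - f * g) := by
          rw [hdet, one_mul]
      _ = (a * d - b * c) * ((e * h - f * g) * (e * h - f * g)) := by ring
      _ = a * d - b * c := by rw [hsq, mul_one]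
  refine ⟨Units.mk0 _ h0, fun x y => ?_⟩
  simp only [stdForm, Matrix.mulVec, dotProduct, Fin.sum_univ_four, Units.val_mk0]
  simp
  linear_combination (x 2 * y 3 - x 3 * y 2) * heq

lemma explicit_swap [Fintype F] (hq : Fintype.card F = 3) (a b c d e f g h : F)
    (hdet : (a * d - b * c) * (e * h - f * g) = 1) :
    ∃ cc : Fˣ, ∀ x y : Fin 4 → F,
      stdForm (!![0, 0, a, b; 0, 0, c, d; e, f, 0, 0; g, h, 0, 0] *ᵥ x)
        (!![0, 0, a, b; 0, 0, c, d; e, f, 0, 0; g, h, 0, 0] *ᵥ y) = (cc : F) * stdForm x y := by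
  have h1 : e * h - f * g ≠ 0 := by
    intro h0; rw [h0, mul_zero] at hdet; exact zero_ne_one hdet
  have h0 : a * d - b * c ≠ 0 := by
    intro h0; rw [h0, zero_mul] at hdet; exact zero_ne_one hdet
  have hsq := sq_eq_one_of_card_three hq h1
  have heq : e * h - f * g = a * d - b * c := by
    calc e * h - f * g = ((a * d - b * c) * (e * h - f * g)) * (e * h - f * g) := by
          rw [hdet, one_mul]
      _ = (a * d - b * c) * ((e * h - f * g) * (e * h - f * g)) := by ring
      _ = a * d - b * c := by rw [hsq, mul_one]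
  refine ⟨Units.mk0 _ h0, fun x y => ?_⟩
  simp only [stdForm, Matrix.mulVec, dotProduct, Fin.sum_univ_four, Units.val_mk0]
  simp
  linear_combination (x 0 * y 1 - x 1 * y 0) * heq

lemma det_diag (a b c d e f g h : F) :
    Matrix.det !![a, b, 0, 0; c, d, 0, 0; 0, 0, e, f; 0, 0, g, h] =
      (a * d - b * c) * (e * h - f * g) := by
  simp [Matrix.det_succ_row_zero, Fin.sum_univ_succ, Fin.succAbove]
  ring

lemma det_swap (a b c d e f g h : F) :
    Matrix.det !![0, 0, a, b; 0, 0, c, d; e, f, 0, 0; g, h, 0, 0] =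
      (a * d - b * c) * (e * h - f * g) := by
  simp [Matrix.det_succ_row_zero, Fin.sum_univ_succ, Fin.succAbove]
  ring

lemma stdForm_mulVec_diag [Fintype F] (hq : Fintype.card F = 3) (M : Matrix (Fin 4) (Fin 4) F)
    (hdet : M.det = 1) (hz : ∀ l k, blk l ≠ blk k → M l k = 0) :
    ∃ c : Fˣ, ∀ x y : Fin 4 → F, stdForm (M *ᵥ x) (M *ᵥ y) = (c : F) * stdForm x y := by
  have hM : M = !![M 0 0, M 0 1, 0, 0; M 1 0, M 1 1, 0, 0; 0, 0, M 2 2, M 2 3;
      0, 0, M 3 2, M 3 3] := by
    ext l k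
    fin_cases l <;> fin_cases k <;> simp <;> exact hz _ _ (by decide)
  rw [hM, det_diag] at hdet
  rw [hM]
  exact explicit_diag hq _ _ _ _ _ _ _ _ hdet

lemma stdForm_mulVec_swap [Fintype F] (hq : Fintype.card F = 3) (M : Matrix (Fin 4) (Fin 4) F)
    (hdet : M.det = 1) (hz : ∀ l k, blk l = blk k → M l k = 0) :
    ∃ c : Fˣ, ∀ x y : Fin 4 → F, stdForm (M *ᵥ x) (M *ᵥ y) = (c : F) * stdForm x y := by
  have hM : M = !![0, 0, M 0 2, M 0 3; 0, 0, M 1 2, M 1 3; M 2 0, M 2 1, 0, 0;
      M 3 0, M 3 1, 0, 0] := by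
    ext l k
    fin_cases l <;> fin_cases k <;> simp <;> exact hz _ _ (by decide)
  rw [hM, det_swap] at hdet
  rw [hM]
  exact explicit_swap hq _ _ _ _ _ _ _ _ hdet

lemma stdForm_symplectic (r : (Fin 4 → F) ≃ₗ[F] (Fin 4 → F)) :
    IsSymplecticForm (fun x y : Fin 4 → F => stdForm (r x) (r y)) := by
  refine ⟨⟨?_, ?_, ?_, ?_⟩, ?_, ?_, ?_⟩
  · intro x y v; simp only [stdForm, map_add, Pi.add_apply]; ring
  · intro c x v; simp only [stdForm, map_smul, Pi.smul_apply, smul_eq_mul]; ring
  · intro v x y; simp only [stdForm, map_add, Pi.add_apply]; ring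
  · intro c v x; simp only [stdForm, map_smul, Pi.smul_apply, smul_eq_mul]; ring
  · intro v w; simp only [stdForm]; ring
  · intro v; simp only [stdForm]; ring
  · intro v hv
    have hrv : r v ≠ 0 := by
      intro h; apply hv; exact r.map_eq_zero_iff.mp h
    obtain ⟨k, hk⟩ := Function.ne_iff.mp hrv
    have key : ∃ x : Fin 4 → F, stdForm (r x) (r v) ≠ 0 := by
      fin_cases k
      · refine ⟨r.symm (Pi.single 1 1), ?_⟩
        simp only [LinearEquiv.apply_symm_apply, stdForm]
        simpa using hk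
      · refine ⟨r.symm (Pi.single 0 1), ?_⟩
        simp only [LinearEquiv.apply_symm_apply, stdForm]
        simpa using hk
      · refine ⟨r.symm (Pi.single 3 1), ?_⟩
        simp only [LinearEquiv.apply_symm_apply, stdForm]
        simpa using hk
      · refine ⟨r.symm (Pi.single 2 1), ?_⟩
        simp only [LinearEquiv.apply_symm_apply, stdForm]
        simpa using hk
    obtain ⟨x, hx⟩ := key
    refine ⟨⟨x, hx⟩, ⟨x, ?_⟩⟩
    intro h0
    apply hx
    have h0' : stdForm (r v) (r x) = 0 := h0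
    have : stdForm (r x) (r v) = - stdForm (r v) (r x) := by simp only [stdForm]; ring
    rw [this, h0', neg_zero]

/-- K-SLMax-X6. -/
theorem planes_inf_sl_le_similarityGroup_of_card_three [Fintype F] (hq : Fintype.card F = 3)
    (D : Fin 2 → Submodule F (Fin 4 → F)) (hD : IsMDecomposition 2 D) :
    ∃ f : (Fin 4 → F) → (Fin 4 → F) → F, IsSymplecticForm f ∧
      decompositionStabilizer D ⊓ specialLinear (Fin 4) F ≤ similarityGroup f := by
  classical
  have hint : DirectSum.IsInternal D :=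
    DirectSum.isInternal_submodule_of_iSupIndep_of_iSup_eq_top hD.indep hD.iSup_eq_top
  let bi : ∀ i, Basis (Fin 2) F (D i) := fun i => Module.finBasisOfFinrankEq F (D i) (hD.finrank_eq i)
  let b := hint.collectedBasis bi
  let b4 : Basis (Fin 4) F (Fin 4 → F) := b.reindex e4
  refine ⟨fun x y => stdForm (b4.equivFun x) (b4.equivFun y), stdForm_symplectic b4.equivFun, ?_⟩
  rintro g ⟨⟨σ, hσ⟩, hgSL⟩
  -- determinant
  have hdetg : (g : Matrix (Fin 4) (Fin 4) F).det = 1 := by
    have h1 : Matrix.GeneralLinearGroup.det g = 1 := hgSL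
    have h2 := congrArg Units.val h1
    simpa using h2
  set M := LinearMap.toMatrix b4 b4 (Matrix.toLin' (g : Matrix (Fin 4) (Fin 4) F)) with hMdef
  have hdetM : M.det = 1 := by
    rw [hMdef, LinearMap.det_toMatrix, LinearMap.det_toLin', hdetg]
  have hcoord : ∀ x : Fin 4 → F,
      b4.equivFun ((g : Matrix (Fin 4) (Fin 4) F) *ᵥ x) = M *ᵥ b4.equivFun x := by
    intro x
    have := LinearMap.toMatrix_mulVec_repr b4 b4 (Matrix.toLin' (g : Matrix (Fin 4) (Fin 4) F)) x
    rw [Matrix.toLin'_apply] at this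
    simp only [Basis.equivFun_apply]
    exact this.symm
  -- zero pattern
  have hmem : ∀ k : Fin 4, b4 k ∈ D (blk k) := by
    intro k
    have : b4 k = b (e4.symm k) := by simp [b4]
    rw [this]
    exact hint.collectedBasis_mem bi (e4.symm k)
  have hgmem : ∀ k : Fin 4, (g : Matrix (Fin 4) (Fin 4) F) *ᵥ b4 k ∈ D (σ (blk k)) := by
    intro k
    rw [← hσ (blk k)]
    refine ⟨b4 k, hmem k, ?_⟩
    rw [Matrix.toLin'_apply]
  have hzero : ∀ l k : Fin 4, blk l ≠ σ (blk k) → M l k = 0 := by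
    intro l k hne
    rw [hMdef, LinearMap.toMatrix_apply, Matrix.toLin'_apply]
    have h1 : b4.repr ((g : Matrix (Fin 4) (Fin 4) F) *ᵥ b4 k) l =
        b.repr ((g : Matrix (Fin 4) (Fin 4) F) *ᵥ b4 k) (e4.symm l) := by
      simp [b4]
    rw [h1]
    have h2 : e4.symm l = ⟨blk l, (e4.symm l).2⟩ := rfl
    rw [h2]
    exact hint.collectedBasis_repr_of_mem_ne bi (Ne.symm hne) (hgmem k)
  -- cases on σ
  have hσcases : (σ 0 = 0 ∧ σ 1 = 1) ∨ (σ 0 = 1 ∧ σ 1 = 0) := by
    have hinj := σ.injective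
    have h0 : σ 0 = 0 ∨ σ 0 = 1 := by
      generalize σ 0 = a; fin_cases a <;> simp
    have h1 : σ 1 = 0 ∨ σ 1 = 1 := by
      generalize σ 1 = a; fin_cases a <;> simp
    rcases h0 with h0 | h0 <;> rcases h1 with h1 | h1
    · exact absurd (hinj (h0.trans h1.symm)) (by decide)
    · exact Or.inl ⟨h0, h1⟩
    · exact Or.inr ⟨h0, h1⟩
    · exact absurd (hinj (h0.trans h1.symm)) (by decide)
  have hblk : ∀ k : Fin 4, blk k = 0 ∨ blk k = 1 := by
    intro k; generalize blk k = a; fin_cases a <;> simp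
  have hfinal : ∃ c : Fˣ, ∀ x y : Fin 4 → F, stdForm (M *ᵥ x) (M *ᵥ y) = (c : F) * stdForm x y := by
    rcases hσcases with ⟨h0, h1⟩ | ⟨h0, h1⟩
    · apply stdForm_mulVec_diag hq M hdetM
      intro l k hne
      apply hzero
      rcases hblk k with hk | hk
      · rw [hk, h0, ← hk]; exact hne
      · rw [hk, h1, ← hk]; exact hne
    · apply stdForm_mulVec_swap hq M hdetM
      intro l k heq
      apply hzero
      rcases hblk k with hk | hk
      · rw [hk, h0, heq, hk]; decide
      · rw [hk, h1, heq, hk]; decide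
  obtain ⟨c, hc⟩ := hfinal
  refine ⟨c, fun u v => ?_⟩
  show stdForm (b4.equivFun _) (b4.equivFun _) = _
  rw [hcoord, hcoord, hc]

end Cfsg.Agent.Lib.Helper39.SLMax
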