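import Mathlib
import Cfsg.Agent.Lib.Helper72.SNCDefs

/-! K-SNC leaf SNC-5 (S4073 converse pack, architect helper72): `A₄` is NNT. -/

set_option autoImplicit false

namespace Cfsg.Agent.Lib.Helper39.SNC

open Cfsg.Agent.Lib.Helper72.SNC

theorem nnt_alternating_four : NNT ↥(alternatingGroup (Fin 4)) := by
  intro N hN hnc
  classical
  have h12 : Nat.card (alternatingGroup (Fin 4)) = 12 := by
    rw [Nat.card_eq_fintype_card]; decide
  have hdvd : Nat.card N ∣ 12 := h12 ▸ Subgroup.card_subgroup_dvd_card N
  by_contra hne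
  have hcard_ne : Nat.card N ≠ 12 := by
    intro h; apply hne
    exact Subgroup.eq_top_of_card_eq N (h.trans h12.symm)
  have hcases : Nat.card N = 1 ∨ Nat.card N = 2 ∨ Nat.card N = 3 ∨ Nat.card N = 4 ∨
      Nat.card N = 6 ∨ Nat.card N = 12 := by
    have hmem : Nat.card N ∈ Nat.divisors 12 := Nat.mem_divisors.mpr ⟨hdvd, by norm_num⟩
    have hd : Nat.divisors 12 = {1, 2, 3, 4, 6, 12} := by decide
    rw [hd] at hmem
    simpa using hmem
  rcases hcases with h | h | h | h | h | h
  · apply hnc
    have : Subsingleton N := (Nat.card_eq_one_iff_unique.mp h).1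
    exact ⟨⟨fun a b => Subsingleton.elim _ _⟩⟩
  · haveI : Fact (Nat.Prime 2) := ⟨Nat.prime_two⟩
    have : IsCyclic N := isCyclic_of_prime_card h
    exact hnc IsCyclic.isMulCommutative
  · haveI : Fact (Nat.Prime 3) := ⟨Nat.prime_three⟩
    have : IsCyclic N := isCyclic_of_prime_card h
    exact hnc IsCyclic.isMulCommutative
  · haveI : Fact (Nat.Prime 2) := ⟨Nat.prime_two⟩
    exact hnc (IsPGroup.isMulCommutative_of_card_eq_prime_sq (p := 2) (by rw [h]; norm_num))
  · -- index 2: contains the 9 squares
    have hidx : N.index = 2 := by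
      have := Subgroup.index_mul_card N
      rw [h, h12] at this
      omega
    have hsqmem : ∀ g : alternatingGroup (Fin 4), g * g ∈ N :=
      Subgroup.mul_self_mem_of_index_two hidx
    have hsq : (Finset.univ.image (fun g : alternatingGroup (Fin 4) => g * g)).card = 9 := by decide
    have hNc : Nat.card N = (Finset.univ.filter (· ∈ N)).card := by
      rw [Nat.card_eq_fintype_card]
      exact Fintype.card_of_subtype _ (by simp)
    have h9 : 9 ≤ Nat.card N := by
      rw [hNc, ← hsq]
      apply Finset.card_le_card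
      intro x hx
      obtain ⟨g, _, rfl⟩ := Finset.mem_image.mp hx
      exact Finset.mem_filter.mpr ⟨Finset.mem_univ _, hsqmem g⟩
    omega
  · exact hcard_ne h

end Cfsg.Agent.Lib.Helper39.SNC
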