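import Mathlib
import Cfsg.Prelude.Def_GeometricClasses
import Cfsg.Agent.Lib.Helper87.SU3Defs

/-!
# K-SU3-A1 (helper39): the stabiliser of the standard frame in `SU_3(5)` preserves the 630 vectors `InX5`

A matrix `g` permuting the coordinate lines is monomial: `g e_i = d_i e_{σ i}`.  Unitarity gives `d_i ^ 6 = 1`, the determinant gives
`∏ d_i = ± 1`; so `nrm 5`, `sg2 5` are unchanged and `prd (g v) = ± prd v`.
-/

set_option autoImplicit false
set_option linter.unusedSectionVars false
set_option linter.unusedVariables false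

namespace Cfsg.Agent.Lib.Helper39.SU3K

open Cfsg Cfsg.Geo Matrix Cfsg.Agent.Lib.Helper87.SU3

variable {F : Type*} [Field F] [Fintype F]

local notation "M3" => Matrix (Fin 3) (Fin 3) F
local notation "G3" => GL (Fin 3) F

theorem nrm_eq_sum (v : Fin 3 → F) : nrm 5 v = ∑ i, v i ^ 6 := by
  rw [Fin.sum_univ_three]; rfl

theorem two_mul_sg2 (v : Fin 3 → F) : 2 * sg2 5 v = (∑ i, v i ^ 6) ^ 2 - ∑ i, (v i ^ 6) ^ 2 := by
  rw [Fin.sum_univ_three, Fin.sum_univ_three]
  unfold sg2
  ring

theorem prd_eq_prod (v : Fin 3 → F) : prd v = ∏ i, v i := by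
  rw [Fin.prod_univ_three]; rfl

/-- K-SU3-A1. -/
theorem stdFrame_stabilizer_le_stab (hF : Fintype.card F = 25) :
    decompositionStabilizer (stdFrame F) ⊓ SU3 F 5 ≤ stab InX5 := by
  classical
  intro g hg
  obtain ⟨⟨σ, hσ⟩, hgU, hgS⟩ := hg
  -- characteristic facts
  have h25 : ((25 : ℕ) : F) = 0 := by rw [← hF]; exact Nat.cast_card_eq_zero F
  have h5 : (5 : F) = 0 := by
    have : (5 : F) * 5 = 0 := by
      have e : ((25 : ℕ) : F) = 5 * 5 := by norm_num
      rw [← e]; exact h25
    exact mul_self_eq_zero.mp this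
  have h2 : (2 : F) ≠ 0 := by
    intro h
    have : (1 : F) = 0 := by linear_combination h5 - 2 * h
    exact one_ne_zero this
  -- `g` is monomial
  have hmono : ∀ i, ∃ d : F, (g : M3) *ᵥ Pi.single i 1 = d • Pi.single (σ i) 1 := by
    intro i
    have hmem : (g : M3) *ᵥ Pi.single i 1 ∈ stdFrame F (σ i) := by
      rw [← hσ i]
      exact Submodule.mem_map.2 ⟨_, Submodule.subset_span rfl, by rw [Matrix.toLin'_apply]⟩
    obtain ⟨d, hd⟩ := Submodule.mem_span_singleton.1 hmem
    exact ⟨d, hd.symm⟩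
  choose d hd using hmono
  have hentry : ∀ j i, (g : M3) j i = if j = σ i then d i else 0 := by
    intro j i
    have := congrFun (hd i) j
    rw [Matrix.mulVec_single_one] at this
    simp only [Matrix.col_apply, Pi.smul_apply, Pi.single_apply, smul_eq_mul, mul_ite, mul_one, mul_zero] at this
    exact this
  have hact : ∀ (v : Fin 3 → F) (i : Fin 3), ((g : M3) *ᵥ v) (σ i) = d i * v i := by
    intro v i
    simp only [Matrix.mulVec, dotProduct, hentry]
    rw [Finset.sum_eq_single i]
    · rw [if_pos rfl]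
    · intro k _ hk
      rw [if_neg (fun h => hk (σ.injective h).symm), zero_mul]
    · intro h; exact absurd (Finset.mem_univ i) h
  -- unitarity
  have hnrm : ∀ v : Fin 3 → F, nrm 5 ((g : M3) *ᵥ v) = nrm 5 v := by
    intro v
    rw [← hermForm_self, ← hermForm_self]
    exact hgU v v
  have hd6 : ∀ i, d i ^ 6 = 1 := by
    intro i
    have h := hnrm (Pi.single i 1)
    rw [nrm_eq_sum, nrm_eq_sum, ← Equiv.sum_comp σ] at h
    simp only [hact, mul_pow, Pi.single_apply] at h
    simpa using h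
  -- determinant
  have hdet : (g : M3).det = 1 := by
    have h1 : Matrix.GeneralLinearGroup.det g = 1 := hgS
    have := congrArg Units.val h1
    simpa using this
  have hdet2 : (g : M3).det = Equiv.Perm.sign σ • ∏ i, d i := by
    rw [Matrix.det_apply]
    rw [Finset.sum_eq_single σ]
    · congr 1
      apply Finset.prod_congr rfl
      intro i _
      rw [hentry, if_pos rfl]
    · intro τ _ hτ
      have : ∃ i, τ i ≠ σ i := by
        by_contra hcon
        push Not at hcon
        exact hτ (Equiv.ext hcon)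
      obtain ⟨i, hi⟩ := this
      rw [Finset.prod_eq_zero (Finset.mem_univ i), smul_zero]
      rw [hentry, if_neg hi]
    · intro h; exact absurd (Finset.mem_univ σ) h
  have hδ2 : (∏ i, d i) ^ 2 = 1 := by
    rw [hdet2] at hdet
    rcases Int.units_eq_one_or (Equiv.Perm.sign σ) with hs | hs
    · rw [hs, one_smul] at hdet
      rw [hdet, one_pow]
    · rw [hs, Units.neg_smul, one_smul] at hdet
      have : ∏ i, d i = -1 := by linear_combination -hdet
      rw [this]; ring
  have hδ0 : (∏ i, d i) ≠ 0 := by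
    intro h
    rw [h] at hδ2
    simp at hδ2
  -- invariants
  intro v
  have hS1 : ∑ i, ((g : M3) *ᵥ v) i ^ 6 = ∑ i, v i ^ 6 := by
    rw [← Equiv.sum_comp σ]
    apply Finset.sum_congr rfl
    intro i _
    rw [hact, mul_pow, hd6, one_mul]
  have hS2 : ∑ i, (((g : M3) *ᵥ v) i ^ 6) ^ 2 = ∑ i, (v i ^ 6) ^ 2 := by
    rw [← Equiv.sum_comp σ]
    apply Finset.sum_congr rfl
    intro i _
    rw [hact, mul_pow, hd6, one_mul]
  have hsg2 : sg2 5 ((g : M3) *ᵥ v) = sg2 5 v := by
    have h := two_mul_sg2 ((g : M3) *ᵥ v)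
    rw [hS1, hS2, ← two_mul_sg2] at h
    exact mul_left_cancel₀ h2 h
  have hprd : prd ((g : M3) *ᵥ v) = (∏ i, d i) * prd v := by
    rw [prd_eq_prod, prd_eq_prod, ← Equiv.prod_comp σ, ← Finset.prod_mul_distrib]
    apply Finset.prod_congr rfl
    intro i _
    rw [hact]
  have hp0 : (∏ i, d i) * prd v = 0 ↔ prd v = 0 := by
    rw [mul_eq_zero]
    exact ⟨fun h => h.resolve_left hδ0, Or.inr⟩
  have hp2 : ((∏ i, d i) * prd v) ^ 2 = prd v ^ 2 := by rw [mul_pow, hδ2, one_mul]
  unfold InX5
  rw [hnrm, hsg2, hprd, hp2, Ne, hp0]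

end Cfsg.Agent.Lib.Helper39.SU3K
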