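import Mathlib
import Cfsg.Prelude.Def_ClassicalGeometry
import Cfsg.Agent.Lib.Helper48.Sp2GDefs

set_option autoImplicit false

/-!
# Pack K-Sp2G (S2411), leaf C: the torus trick

`b = sx 1 * wC`, `Y = l(diag d₁ + (k-1) E_01)` with `d₁ = (1,k,1,…,1)`: `b * hT k = Y * b` and
`hT k * Y = sx ((k-1)²/k) * (Y * hT k)`, hence `sx ((k-1)²/k) ∈ G` whenever `hT k, b ∈ G`.
-/

namespace Cfsg.Agent.Lib.Helper39.Sp2G

open Matrix Cfsg.Agent.Lib.Helper48.RSp Cfsg.Agent.Lib.Helper48.Sp2G Cfsg.Agent.Lib.Helper18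

variable {F : Type*} [Field F]

/-- the diagonal `(1, k, 1, …, 1)` -/
def cD1 (m : ℕ) (k : F) : Fin (m + 2) → F := fun j => if j = 1 then k else 1

/-- the conjugate `b (hT k) b⁻¹` -/
def cY (m : ℕ) (k : F) : BM m F :=
  Matrix.fromBlocks (Matrix.diagonal (cD1 m k) + Matrix.single 0 1 (k - 1)) 0 0
    (Matrix.diagonal (cD1 m k⁻¹) - Matrix.single 1 0 ((k - 1) / k))

theorem c_diag_mul_single {n : Type*} [DecidableEq n] [Fintype n] (d : n → F) (a b : n) (c : F) :
    Matrix.diagonal d * Matrix.single a b c = Matrix.single a b (d a * c) := by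
  ext i j
  rw [Matrix.diagonal_mul]
  simp only [Matrix.single_apply]
  split_ifs with h
  · obtain ⟨rfl, rfl⟩ := h
    rfl
  · simp

theorem c_single_mul_diag {n : Type*} [DecidableEq n] [Fintype n] (d : n → F) (a b : n) (c : F) :
    Matrix.single a b c * Matrix.diagonal d = Matrix.single a b (c * d b) := by
  ext i j
  rw [Matrix.mul_diagonal]
  simp only [Matrix.single_apply]
  split_ifs with h
  · obtain ⟨rfl, rfl⟩ := h
    rfl
  · simp

theorem c_one_ne_zero (m : ℕ) : (1 : Fin (m + 2)) ≠ 0 := by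
  intro h
  have := congrArg Fin.val h
  simp at this

theorem c_last_ne_zero (m : ℕ) : Fin.last (m + 1) ≠ (0 : Fin (m + 2)) := by
  intro h
  have := congrArg Fin.val h
  simp at this

theorem c_kvec_zero (m : ℕ) (k : F) : kvec m k 0 = k := by simp [kvec]

theorem c_kvec_one (m : ℕ) (k : F) : kvec m k 1 = 1 := by simp [kvec]

theorem c_kvec_last (m : ℕ) (k : F) : kvec m k (Fin.last (m + 1)) = 1 := by
  simp [kvec]

theorem c_D1_zero (m : ℕ) (k : F) : cD1 m k 0 = 1 := by
  simp [cD1, (c_one_ne_zero m).symm]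

theorem c_D1_one (m : ℕ) (k : F) : cD1 m k 1 = k := by simp [cD1]

/-- `Nᵀ D = diag(d₁) Nᵀ` -/
theorem c_Nup_mul_diag (m : ℕ) (k : F) :
    (Nup m F)ᵀ * Matrix.diagonal (kvec m k) = Matrix.diagonal (cD1 m k) * (Nup m F)ᵀ := by
  ext i j
  rw [Matrix.mul_diagonal, Matrix.diagonal_mul]
  simp only [Matrix.transpose_apply, Nup, kvec, cD1]
  by_cases h : j.val + 1 = i.val
  · have h1 : (j = 0) ↔ (i = 1) := by
      constructor
      · intro hj
        apply Fin.ext
        rw [← h, hj]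
        simp
      · intro hi
        apply Fin.ext
        have : i.val = 1 := by rw [hi]; simp
        simp only [Fin.val_zero]
        omega
    by_cases hj : j = 0
    · simp [hj, h1.mp hj]
    · have hi : ¬ i = 1 := fun hi => hj (h1.mpr hi)
      simp [h, hj, hi]
  · simp [h]

/-- `(1 + E_01) diag(d₁) = (diag d₁ + (k-1) E_01)(1 + E_01)` -/
theorem c_A1 (m : ℕ) (k : F) :
    (1 + Matrix.single (0 : Fin (m + 2)) 1 (1 : F)) * Matrix.diagonal (cD1 m k)
      = (Matrix.diagonal (cD1 m k) + Matrix.single 0 1 (k - 1)) * (1 + Matrix.single 0 1 1) := by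
  rw [Matrix.add_mul, Matrix.one_mul, c_single_mul_diag, Matrix.add_mul, Matrix.mul_add, Matrix.mul_add,
    Matrix.mul_one, Matrix.mul_one, c_diag_mul_single,
    Matrix.single_mul_single_of_ne (h := c_one_ne_zero m), c_D1_zero, c_D1_one, add_zero,
    add_assoc, ← Matrix.single_add]
  congr 2
  ring

/-- `(1 - E_10) diag(d₁⁻¹) = (diag d₁⁻¹ - ((k-1)/k) E_10)(1 - E_10)` -/
theorem c_A2 (m : ℕ) (k : F) (hk0 : k ≠ 0) :
    (1 - Matrix.single (1 : Fin (m + 2)) 0 (1 : F)) * Matrix.diagonal (cD1 m k⁻¹)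
      = (Matrix.diagonal (cD1 m k⁻¹) - Matrix.single 1 0 ((k - 1) / k)) * (1 - Matrix.single 1 0 1) := by
  rw [Matrix.sub_mul, Matrix.one_mul, c_single_mul_diag, Matrix.sub_mul, Matrix.mul_sub, Matrix.mul_sub,
    Matrix.mul_one, Matrix.mul_one, c_diag_mul_single,
    Matrix.single_mul_single_of_ne (h := (c_one_ne_zero m).symm), c_D1_zero, c_D1_one, sub_zero,
    sub_sub, ← Matrix.single_add]
  congr 2
  field_simp
  ring

theorem c_A1E (m : ℕ) :
    (1 + Matrix.single (0 : Fin (m + 2)) 1 (1 : F)) * Matrix.single 0 (Fin.last (m + 1)) (1 : F)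
      = Matrix.single 0 (Fin.last (m + 1)) 1 := by
  rw [Matrix.add_mul, Matrix.one_mul, Matrix.single_mul_single_of_ne (h := c_one_ne_zero m), add_zero]

theorem c_A2E (m : ℕ) :
    (1 - Matrix.single (1 : Fin (m + 2)) 0 (1 : F)) * Matrix.single 0 (Fin.last (m + 1)) (1 : F)
      = Matrix.single 0 (Fin.last (m + 1)) 1 - Matrix.single 1 (Fin.last (m + 1)) 1 := by
  rw [Matrix.sub_mul, Matrix.one_mul, Matrix.single_mul_single_same, mul_one]

/-- `b * hT k = Y * b` -/
theorem c_conj (m : ℕ) (k : F) (hk0 : k ≠ 0) :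
    (sx m (1 : F) * wC m F) * hT m k = cY m k * (sx m (1 : F) * wC m F) := by
  unfold sx wC hT cY
  simp only [Matrix.fromBlocks_multiply, Matrix.mul_zero, Matrix.zero_mul, add_zero, zero_add]
  rw [Matrix.fromBlocks_inj]
  refine ⟨?_, ?_, ?_, ?_⟩
  · rw [Matrix.mul_assoc, c_Nup_mul_diag, ← Matrix.mul_assoc, c_A1, Matrix.mul_assoc]
  · rw [Matrix.mul_neg, c_A1E, Matrix.neg_mul, c_single_mul_diag, c_kvec_last, mul_one, Matrix.mul_neg,
      Matrix.add_mul, c_diag_mul_single, c_D1_zero, mul_one,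
      Matrix.single_mul_single_of_ne (h := c_one_ne_zero m), add_zero]
  · rw [c_A2E, Matrix.sub_mul, c_single_mul_diag, c_single_mul_diag, c_kvec_last, mul_one,
      Matrix.sub_mul, Matrix.mul_sub, Matrix.mul_sub, c_diag_mul_single, c_diag_mul_single, c_D1_zero,
      c_D1_one, mul_one, mul_one, Matrix.single_mul_single_same,
      Matrix.single_mul_single_of_ne (h := (c_one_ne_zero m).symm), sub_zero, mul_one, sub_sub,
      ← Matrix.single_add]
    congr 2
    field_simp
    ring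
  · rw [Matrix.mul_assoc, c_Nup_mul_diag, ← Matrix.mul_assoc, c_A2 m k hk0, Matrix.mul_assoc]

/-- `hT k * Y = sx ((k-1)²/k) * (Y * hT k)` -/
theorem c_comm (m : ℕ) (k : F) (hk0 : k ≠ 0) :
    hT m k * cY m k = sx m ((k - 1) ^ 2 / k) * (cY m k * hT m k) := by
  unfold sx hT cY
  simp only [Matrix.fromBlocks_multiply, Matrix.mul_zero, Matrix.zero_mul, add_zero, zero_add]
  rw [Matrix.fromBlocks_inj]
  refine ⟨?_, rfl, rfl, ?_⟩
  · have hin : (Matrix.diagonal (cD1 m k) + Matrix.single 0 1 (k - 1)) * Matrix.diagonal (kvec m k)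
        = (Matrix.diagonal fun i => cD1 m k i * kvec m k i) + Matrix.single 0 1 (k - 1) := by
      rw [Matrix.add_mul, Matrix.diagonal_mul_diagonal, c_single_mul_diag, c_kvec_one, mul_one]
    rw [hin, Matrix.mul_add, Matrix.diagonal_mul_diagonal, c_diag_mul_single, c_kvec_zero,
      Matrix.add_mul, Matrix.one_mul, Matrix.mul_add, c_single_mul_diag,
      Matrix.single_mul_single_of_ne (h := c_one_ne_zero m), add_zero]
    simp only [c_D1_one, c_kvec_one, mul_one]
    rw [add_assoc, ← Matrix.single_add]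
    congr 1
    · congr 1
      funext i
      ring
    · congr 1
      field_simp
      ring
  · have hin : (Matrix.diagonal (cD1 m k⁻¹) - Matrix.single 1 0 ((k - 1) / k)) * Matrix.diagonal (kvec m k⁻¹)
        = (Matrix.diagonal fun i => cD1 m k⁻¹ i * kvec m k⁻¹ i) - Matrix.single 1 0 ((k - 1) / k * k⁻¹) := by
      rw [Matrix.sub_mul, Matrix.diagonal_mul_diagonal, c_single_mul_diag, c_kvec_zero]
    rw [hin, Matrix.mul_sub, Matrix.diagonal_mul_diagonal, c_diag_mul_single, c_kvec_one,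
      Matrix.sub_mul, Matrix.one_mul, Matrix.mul_sub, c_single_mul_diag,
      Matrix.single_mul_single_of_ne (h := (c_one_ne_zero m).symm), sub_zero]
    simp only [c_D1_zero, c_kvec_zero, one_mul]
    rw [sub_sub, ← Matrix.single_add]
    congr 1
    · congr 1
      funext i
      ring
    · congr 1
      field_simp
      ring

/-- LEAF C of pack K-Sp2G: the torus trick -/
theorem inG_sx_of {m : ℕ} {F : Type*} [Field F] {G : Subgroup (SpG m F)} (k : F) (hk0 : k ≠ 0)
    (hh : InG G (hT m k)) (hB : InG G (sx m (1 : F) * wC m F)) :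
    InG G (sx m ((k - 1) ^ 2 / k)) := by
  have hY : InG G (cY m k) := inG_of_conj hB hh (c_conj m k hk0)
  have hYh : InG G (cY m k * hT m k) := inG_mul hY hh
  have hhY : InG G (hT m k * cY m k) := inG_mul hh hY
  rw [c_comm m k hk0] at hhY
  exact inG_of_mul_right hYh hhY

end Cfsg.Agent.Lib.Helper39.Sp2G
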