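import Mathlib
import Cfsg.Prelude.Def_GeometricClasses
import Cfsg.Agent.Lib.Helper61.AschDefs
import Cfsg.Agent.Lib.Helper41.AschB2

/-!
# K-SpAsch-S3a (helper39): the centre of an adjoint-closed simple subalgebra gives an adjoint-closed field

Enriched copy of `Helper41.Asch.c3_of_center_ne_bot`: the field subalgebra `E` of prime degree `r` found inside the
centre of `A` is moreover adjoint-closed for the symplectic form `f`, and self-adjoint unless `r = 2`.
-/

set_option autoImplicit false
set_option linter.unusedSectionVars false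
set_option linter.style.haveILetI false

namespace Cfsg.Agent.Lib.Helper39.SpAsch

open Cfsg Cfsg.Geo Cfsg.Agent.Lib.Helper61.Asch
open scoped Matrix MatrixGroups
open Module

/-- An involutive `F`-automorphism of a finite field of odd degree over `F` is trivial. -/
theorem involution_eq_id_of_odd (F L : Type*) [Field F] [Fintype F] [Field L] [Finite L] [Algebra F L]
    (σ : L ≃ₐ[F] L) (h2 : ∀ x, σ (σ x) = x) (hodd : Odd (finrank F L)) : ∀ x, σ x = x := by
  have hcard : Nat.card (L ≃ₐ[F] L) = finrank F L := IsGalois.card_aut_eq_finrank F L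
  have hs2 : σ ^ 2 = 1 := by
    ext x
    rw [pow_two, AlgEquiv.mul_apply, h2, AlgEquiv.one_apply]
  have h1 : orderOf σ ∣ 2 := orderOf_dvd_of_pow_eq_one hs2
  have h3 : orderOf σ ∣ finrank F L := hcard ▸ orderOf_dvd_natCard σ
  have h4 : orderOf σ ∣ Nat.gcd 2 (finrank F L) := Nat.dvd_gcd h1 h3
  rw [Nat.coprime_two_left.2 hodd] at h4
  have h5 : σ = 1 := orderOf_eq_one_iff.1 (Nat.dvd_one.1 h4)
  intro x
  rw [h5, AlgEquiv.one_apply]

/-- The same for a commutative ring which is a field, and a plain function. -/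
theorem involution_eq_id_of_odd_of_isField (F L : Type*) [Field F] [Fintype F] [CommRing L] (hL : IsField L)
    [Finite L] [Algebra F L] (σ : L → L) (hadd : ∀ x y, σ (x + y) = σ x + σ y)
    (hmul : ∀ x y, σ (x * y) = σ x * σ y) (hsmul : ∀ (c : F) (x : L), σ (c • x) = c • σ x) (hone : σ 1 = 1)
    (h2 : ∀ x, σ (σ x) = x) (hodd : Odd (finrank F L)) : ∀ x, σ x = x := by
  letI := hL.toField
  let e : L ≃ₐ[F] L :=
    { toFun := σ
      invFun := σ
      left_inv := h2
      right_inv := h2
      map_mul' := hmul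
      map_add' := hadd
      commutes' := fun c => by
        show σ (algebraMap F L c) = algebraMap F L c
        rw [Algebra.algebraMap_eq_smul_one, hsmul, hone] }
  exact involution_eq_id_of_odd F L e h2 hodd

variable {F : Type*} [Field F] [Fintype F] {n : ℕ}

local notation "V" => (Fin n → F)
local notation "Mat" => Matrix (Fin n) (Fin n) F

/-- `y` is an adjoint of `x` for the form `f`. -/
def IsAdj (f : V → V → F) (x y : Mat) : Prop := ∀ u v : V, f (x *ᵥ u) v = f u (y *ᵥ v)

theorem IsAdj.unique {f : V → V → F} (hf : IsSymplecticForm f) {x y y' : Mat} (h : IsAdj f x y)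
    (h' : IsAdj f x y') : y = y' := by
  have key : ∀ v : V, y *ᵥ v = y' *ᵥ v := by
    intro v
    by_contra hne
    have hw : y *ᵥ v - y' *ᵥ v ≠ 0 := sub_ne_zero.2 hne
    obtain ⟨⟨u, hu⟩, _⟩ := hf.nondegenerate _ hw
    apply hu
    have e1 : f u (y *ᵥ v - y' *ᵥ v) = f u (y *ᵥ v) - f u (y' *ᵥ v) := by
      rw [sub_eq_add_neg, hf.bilinear.add_right, ← neg_one_smul F (y' *ᵥ v), hf.bilinear.smul_right]
      ring
    rw [e1, ← h u v, ← h' u v, sub_self]
  ext i j
  have := congrFun (key (Pi.single j 1)) i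
  simpa using this

theorem IsAdj.symm {f : V → V → F} (hf : IsSymplecticForm f) {x y : Mat} (h : IsAdj f x y) : IsAdj f y x := by
  intro u v
  rw [hf.skew, ← h v u, hf.skew, neg_neg]

theorem IsAdj.mul {f : V → V → F} {x y x' y' : Mat} (h : IsAdj f x y) (h' : IsAdj f x' y') :
    IsAdj f (x * x') (y' * y) := by
  intro u v
  rw [← Matrix.mulVec_mulVec, ← Matrix.mulVec_mulVec, h, h']

theorem IsAdj.add {f : V → V → F} (hf : IsBilinearForm f) {x y x' y' : Mat} (h : IsAdj f x y)
    (h' : IsAdj f x' y') : IsAdj f (x + x') (y + y') := by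
  intro u v
  rw [Matrix.add_mulVec, Matrix.add_mulVec, hf.add_left, hf.add_right, h, h']

theorem IsAdj.smul {f : V → V → F} (hf : IsBilinearForm f) (c : F) {x y : Mat} (h : IsAdj f x y) :
    IsAdj f (c • x) (c • y) := by
  intro u v
  rw [Matrix.smul_mulVec, Matrix.smul_mulVec, hf.smul_left, hf.smul_right, h]

theorem IsAdj.one (f : V → V → F) : IsAdj f (1 : Mat) 1 := by
  intro u v
  rw [Matrix.one_mulVec, Matrix.one_mulVec]

theorem IsAdj.pow {f : V → V → F} {x y : Mat} (h : IsAdj f x y) (k : ℕ) : IsAdj f (x ^ k) (y ^ k) := by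
  induction k with
  | zero => simpa using IsAdj.one f
  | succ k ih =>
    rw [pow_succ, pow_succ']
    exact ih.mul h

/-- **K-SpAsch-S3a.** -/
theorem exists_adjointClosed_field {f : V → V → F} (hf : IsSymplecticForm f) (K : Subgroup (GL (Fin n) F))
    (A : Subalgebra F Mat) [IsSimpleRing A] (hKA : NormAlg K A) (hA : IsAdjointClosedFor f A)
    (hc : Subalgebra.center F A ≠ ⊥) :
    ∃ (r : ℕ) (E : Subalgebra F Mat), r.Prime ∧ IsFieldSubalgebra r E ∧ K ≤ subalgebraNormalizer E ∧
      IsAdjointClosedFor f E ∧ (IsSelfAdjointFor f E ∨ r = 2) := by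
  classical
  -- the centre is a field
  have hL : IsField (Subalgebra.center F A) := by
    have h := IsSimpleRing.isField_center A
    refine ⟨⟨0, 1, zero_ne_one⟩, mul_comm, ?_⟩
    intro a ha
    have ha' : (⟨a.1, a.2⟩ : Subring.center A) ≠ 0 := by
      intro h0
      apply ha
      apply Subtype.ext
      exact congrArg Subtype.val h0
    obtain ⟨b, hb⟩ := h.mul_inv_cancel ha'
    refine ⟨⟨b.1, b.2⟩, ?_⟩
    apply Subtype.ext
    exact congrArg Subtype.val hb
  haveI : Finite (Subalgebra.center F A) :=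
    Finite.of_injective (fun x : Subalgebra.center F A => ((x : A) : Mat))
      (fun x y h => Subtype.ext (Subtype.ext h))
  -- its degree is at least two
  have hd1 : finrank F (Subalgebra.center F A) ≠ 1 := by
    intro h
    apply hc
    rw [eq_bot_iff]
    intro w hw
    have h1 := (finrank_eq_one_iff_of_nonzero' (1 : Subalgebra.center F A) one_ne_zero).1 h ⟨w, hw⟩
    obtain ⟨c, hc'⟩ := h1
    rw [Algebra.mem_bot]
    refine ⟨c, ?_⟩
    have h2 : ((c • (1 : Subalgebra.center F A) : Subalgebra.center F A) : A) = w :=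
      congrArg Subtype.val hc'
    rw [← h2, Algebra.algebraMap_eq_smul_one]
    rfl
  -- the adjoint on `A`
  have hex : ∀ x : A, ∃ y : A, IsAdj f (x : Mat) (y : Mat) := fun x => by
    obtain ⟨y, hy, h⟩ := hA x.1 x.2
    exact ⟨⟨y, hy⟩, h⟩
  choose adj hadj using hex
  have adj_mul : ∀ x y : A, adj (x * y) = adj y * adj x := fun x y =>
    Subtype.ext (IsAdj.unique hf (hadj (x * y)) ((hadj x).mul (hadj y)))
  have adj_add : ∀ x y : A, adj (x + y) = adj x + adj y := fun x y =>
    Subtype.ext (IsAdj.unique hf (hadj (x + y)) ((hadj x).add hf.bilinear (hadj y)))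
  have adj_smul : ∀ (c : F) (x : A), adj (c • x) = c • adj x := fun c x =>
    Subtype.ext (IsAdj.unique hf (hadj (c • x)) ((hadj x).smul hf.bilinear c))
  have adj_one : adj 1 = 1 := Subtype.ext (IsAdj.unique hf (hadj 1) (IsAdj.one f))
  have adj_adj : ∀ x : A, adj (adj x) = x := fun x =>
    Subtype.ext (IsAdj.unique hf (hadj (adj x)) ((hadj x).symm hf))
  have adj_center : ∀ z : A, z ∈ Subalgebra.center F A → adj z ∈ Subalgebra.center F A := by
    intro z hz
    rw [Subalgebra.mem_center_iff] at hz ⊢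
    intro b
    have h2 := congrArg adj (hz (adj b))
    rw [adj_mul, adj_mul, adj_adj] at h2
    exact h2.symm
  -- the induced involution of the centre
  let σ : Subalgebra.center F A → Subalgebra.center F A := fun z => ⟨adj z.1, adj_center z.1 z.2⟩
  have hσadd : ∀ x y, σ (x + y) = σ x + σ y := fun x y => Subtype.ext (adj_add x.1 y.1)
  have hσmul : ∀ x y, σ (x * y) = σ x * σ y := by
    intro x y
    rw [mul_comm (σ x) (σ y)]
    exact Subtype.ext (adj_mul x.1 y.1)
  have hσsmul : ∀ (c : F) (x : Subalgebra.center F A), σ (c • x) = c • σ x := fun c x =>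
    Subtype.ext (adj_smul c x.1)
  have hσone : σ 1 = 1 := Subtype.ext adj_one
  have hσ2 : ∀ x, σ (σ x) = x := fun x => Subtype.ext (adj_adj x.1)
  -- choice of the prime
  obtain ⟨r, hrp, hrd, hr2⟩ : ∃ r : ℕ, r.Prime ∧ r ∣ finrank F (Subalgebra.center F A) ∧
      (Odd (finrank F (Subalgebra.center F A)) ∨ r = 2) := by
    rcases Nat.even_or_odd (finrank F (Subalgebra.center F A)) with he | ho
    · exact ⟨2, Nat.prime_two, he.two_dvd, Or.inr rfl⟩
    · obtain ⟨r, hrp, hrd⟩ := Nat.exists_prime_and_dvd hd1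
      exact ⟨r, hrp, hrd, Or.inl ho⟩
  let ι : Subalgebra.center F A →ₐ[F] Mat := A.val.comp (Subalgebra.center F A).val
  have hι : Function.Injective ι := fun x y h => Subtype.ext (Subtype.ext h)
  have hιadj : ∀ z : Subalgebra.center F A, IsAdj f (ι z) (ι (σ z)) := fun z => hadj z.1
  obtain ⟨E, hEr, hEcomm, hEinv, hEmem⟩ :=
    Cfsg.Agent.Lib.Helper41.Asch.exists_fieldSubalgebra_of_embedding (F := F) (B := Mat)
      (L := Subalgebra.center F A) hL ι hι r hrd hrp.pos
  refine ⟨r, E, hrp, ⟨hEcomm, hEinv, hEr⟩, ?_, ?_, ?_⟩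
  · -- description of the image of the centre
    have hrange : ∀ x : Mat, x ∈ ι.range ↔ x ∈ A ∧ ∀ a ∈ A, a * x = x * a := by
      intro x
      constructor
      · rintro ⟨c, rfl⟩
        refine ⟨(c : A).2, ?_⟩
        intro a ha
        have := Subalgebra.mem_center_iff.1 c.2 ⟨a, ha⟩
        exact congrArg Subtype.val this
      · rintro ⟨hxA, hx⟩
        refine ⟨⟨⟨x, hxA⟩, ?_⟩, rfl⟩
        rw [Subalgebra.mem_center_iff]
        intro b
        apply Subtype.ext
        exact hx b.1 b.2
    -- forward invariance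
    have hfwd : ∀ g ∈ K, ∀ x : Mat, x ∈ E →
        (g : Mat) * x * ((g⁻¹ : GL (Fin n) F) : Mat) ∈ E := by
      intro g hg x hx
      rw [hEmem] at hx ⊢
      obtain ⟨hx1, hx2⟩ := hx
      rw [hrange] at hx1 ⊢
      obtain ⟨hxA, hxc⟩ := hx1
      refine ⟨⟨hKA g hg x hxA, ?_⟩, ?_⟩
      · intro a ha
        have ha' : ((g⁻¹ : GL (Fin n) F) : Mat) * a * (g : Mat) ∈ A := by
          have := hKA g⁻¹ (K.inv_mem hg) a ha
          rwa [inv_inv] at this
        have h1 := hxc _ ha'
        have hgi : ((g : GL (Fin n) F) : Mat) * ((g⁻¹ : GL (Fin n) F) : Mat) = 1 := by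
          rw [← Units.val_mul, mul_inv_cancel, Units.val_one]
        have hig : ((g⁻¹ : GL (Fin n) F) : Mat) * ((g : GL (Fin n) F) : Mat) = 1 := by
          rw [← Units.val_mul, inv_mul_cancel, Units.val_one]
        calc a * ((g : Mat) * x * ((g⁻¹ : GL (Fin n) F) : Mat))
            = (g : Mat) * ((((g⁻¹ : GL (Fin n) F) : Mat) * a * (g : Mat)) * x)
                * ((g⁻¹ : GL (Fin n) F) : Mat) := by
              simp only [mul_assoc]
              rw [← mul_assoc (g : Mat) ((g⁻¹ : GL (Fin n) F) : Mat), hgi, one_mul]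
          _ = (g : Mat) * (x * (((g⁻¹ : GL (Fin n) F) : Mat) * a * (g : Mat)))
                * ((g⁻¹ : GL (Fin n) F) : Mat) := by rw [h1]
          _ = (g : Mat) * x * ((g⁻¹ : GL (Fin n) F) : Mat) * a := by
              simp only [mul_assoc]
              rw [hgi, mul_one]
      · rw [Units.conj_pow, hx2]
    intro g hg
    show ∀ k : Mat, k ∈ E ↔ (g : Mat) * k * ((g⁻¹ : GL (Fin n) F) : Mat) ∈ E
    intro k
    constructor
    · exact hfwd g hg k
    · intro h
      have := hfwd g⁻¹ (K.inv_mem hg) _ h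
      rw [inv_inv] at this
      have hig : ((g⁻¹ : GL (Fin n) F) : Mat) * ((g : GL (Fin n) F) : Mat) = 1 := by
        rw [← Units.val_mul, inv_mul_cancel, Units.val_one]
      have e : ((g⁻¹ : GL (Fin n) F) : Mat) * ((g : Mat) * k * ((g⁻¹ : GL (Fin n) F) : Mat)) * (g : Mat)
          = k := by
        simp only [mul_assoc]
        rw [hig, mul_one, ← mul_assoc, hig, one_mul]
      rwa [e] at this
  · -- adjoint-closed
    intro k hk
    obtain ⟨⟨z, rfl⟩, hpow⟩ := (hEmem k).1 hk
    refine ⟨ι (σ z), (hEmem _).2 ⟨⟨σ z, rfl⟩, ?_⟩, hιadj z⟩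
    have h1 := (hιadj z).pow (Fintype.card F ^ r)
    have hpow' : (ι z) ^ (Fintype.card F ^ r) = ι z := hpow
    rw [hpow'] at h1
    exact IsAdj.unique hf h1 (hιadj z)
  · rcases hr2 with ho | h2
    · left
      have hσid := involution_eq_id_of_odd_of_isField F (Subalgebra.center F A) hL σ hσadd hσmul hσsmul
        hσone hσ2 ho
      intro k hk u v
      obtain ⟨⟨z, rfl⟩, _⟩ := (hEmem k).1 hk
      have h1 := hιadj z u v
      rw [hσid z] at h1
      exact h1
    · exact Or.inr h2

end Cfsg.Agent.Lib.Helper39.SpAsch
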