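import Mathlib.Algebra.Group.Subgroup.Basic
import Mathlib.Algebra.Group.Subgroup.Lattice
import Mathlib.Tactic.Group

set_option autoImplicit false

namespace Cfsg.Agent.Lib.Helper39

/-- If every conjugate of a generator lies in the closure, then the closure is normal. -/
theorem closure_normal_of_conj_mem {G : Type*} [Group G] {s : Set G}
    (h : ∀ g : G, ∀ a ∈ s, g * a * g⁻¹ ∈ Subgroup.closure s) : (Subgroup.closure s).Normal := by
  constructor
  intro n hn g
  induction hn using Subgroup.closure_induction with
  | mem x hx => exact h g x hx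
  | one => simp
  | mul x y _ _ hx hy =>
    have : g * (x * y) * g⁻¹ = (g * x * g⁻¹) * (g * y * g⁻¹) := by group
    rw [this]
    exact Subgroup.mul_mem _ hx hy
  | inv x _ hx =>
    have : g * x⁻¹ * g⁻¹ = (g * x * g⁻¹)⁻¹ := by group
    rw [this]
    exact Subgroup.inv_mem _ hx

end Cfsg.Agent.Lib.Helper39
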