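import Cfsg.Agent.Lib.Helper11.Syl22Defs

/-!
# S4346 pack, leaf K-B8 (434617): the centralizer of an element of order 11 has order 11
-/

set_option autoImplicit false

namespace Cfsg.Agent.Lib.Helper39.Syl22

open Cfsg.Agent.Lib.Helper11.Syl22

/-- If `fixN g = 0` then `g` fixes no Sylow 3-subgroup. -/
theorem smul_ne_of_fixN_eq_zero {G : Type*} [Group G] [Finite G] (g : G) (h : fixN g = 0)
    (Q : Sylow 3 G) : g • Q ≠ Q := by
  intro hQ
  unfold fixN at h
  rcases Nat.card_eq_zero.mp h with h' | h'
  · exact h'.false ⟨Q, hQ⟩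
  · exact h'.not_finite inferInstance

/-- If `x` of order 11 has no fixed point and commutes with `y`, then `11 ∣ fixN y`. -/
theorem eleven_dvd_fixN_of_commute {G : Type*} [Group G] [Finite G] (x y : G)
    (hx : orderOf x = 11) (hxy : Commute x y) (h0 : fixN x = 0) : 11 ∣ fixN y := by
  classical
  have : Fact (Nat.Prime 11) := ⟨by norm_num⟩
  have hH : IsPGroup 11 (Subgroup.zpowers x) :=
    IsPGroup.of_card (n := 1) (by rw [Nat.card_zpowers, hx]; rfl)
  let S : SubMulAction (Subgroup.zpowers x) (Sylow 3 G) :=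
    { carrier := MulAction.fixedBy (Sylow 3 G) y
      smul_mem' := by
        rintro ⟨h, hh⟩ Q hQ
        obtain ⟨k, rfl⟩ := Subgroup.mem_zpowers_iff.mp hh
        simp only [MulAction.mem_fixedBy] at hQ ⊢
        show y • ((x ^ k) • Q) = (x ^ k) • Q
        rw [smul_smul, ← (hxy.zpow_left k).eq, mul_smul, hQ] }
  have hmod := hH.card_modEq_card_fixedPoints (α := S)
  have hempty : IsEmpty (MulAction.fixedPoints (Subgroup.zpowers x) S) := by
    constructor
    rintro ⟨s, hs⟩
    have h1 : (⟨x, Subgroup.mem_zpowers x⟩ : Subgroup.zpowers x) • s = s := hs _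
    have h2 : x • (s : Sylow 3 G) = (s : Sylow 3 G) := congrArg Subtype.val h1
    exact smul_ne_of_fixN_eq_zero x h0 _ h2
  have h4 : Nat.card (MulAction.fixedPoints (Subgroup.zpowers x) S) = 0 := Nat.card_of_isEmpty
  have h3 : Nat.card S = fixN y := rfl
  rw [h3, h4] at hmod
  exact (Nat.modEq_zero_iff_dvd).mp hmod

/-- If `fixN y = 22 = |Syl_3 G|` then `y` fixes every Sylow 3-subgroup. -/
theorem smul_eq_of_fixN_eq_card {G : Type*} [Group G] [Finite G] (y : G)
    (h : fixN y = Nat.card (Sylow 3 G)) (Q : Sylow 3 G) : y • Q = Q := by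
  unfold fixN at h
  rw [Nat.card_coe_set_eq, ← Set.ncard_univ] at h
  have := Set.eq_of_subset_of_ncard_le (Set.subset_univ (MulAction.fixedBy (Sylow 3 G) y))
    (le_of_eq h.symm)
  have hQ : Q ∈ MulAction.fixedBy (Sylow 3 G) y := by rw [this]; trivial
  exact hQ

theorem card_centralizer_eleven {G : Type*} [Group G] (c : Ctx G) (hf : Faithful G)
    (hinv : InvFix G)
    (hno5 : ∀ g : G, orderOf g ≠ 5)
    (h7 : ∀ g : G, orderOf g = 7 → fixN g = 1)
    (h11 : ∀ g : G, orderOf g = 11 → fixN g = 0)
    (h13 : ∀ (g : G) (r : ℕ), r.Prime → 13 ≤ r → orderOf g ≠ r)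
    (h121 : ¬ 121 ∣ Nat.card G) (x : G) (hx : orderOf x = 11) :
    Nat.card ↥(Subgroup.centralizer ({x} : Set G)) = 11 := by
  classical
  have := c.fin
  have : Fact (Nat.Prime 3) := ⟨by norm_num⟩
  have hx0 : fixN x = 0 := h11 x hx
  set C : Subgroup G := Subgroup.centralizer ({x} : Set G) with hC
  have hxC : x ∈ C := by
    rw [hC, Subgroup.mem_centralizer_iff]
    intro z hz
    rw [Set.mem_singleton_iff.mp hz]
  -- 11 ∣ |C|
  have h11C : 11 ∣ Nat.card C := by
    have h := orderOf_dvd_natCard (⟨x, hxC⟩ : C)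
    rwa [Subgroup.orderOf_mk, hx] at h
  -- every prime divisor of |C| is 11
  have hprime : ∀ {r : ℕ}, r.Prime → r ∣ Nat.card C → r = 11 := by
    intro r hr hrC
    have : Fact r.Prime := ⟨hr⟩
    obtain ⟨⟨y, hyC⟩, hy⟩ := exists_prime_orderOf_dvd_card' (G := C) r hrC
    rw [Subgroup.orderOf_mk] at hy
    have hcomm : Commute x y := by
      rw [hC, Subgroup.mem_centralizer_iff] at hyC
      exact (hyC x (Set.mem_singleton x))
    by_cases h13r : 13 ≤ r
    · exact absurd hy (h13 y r hr h13r)
    · have h13r := not_le.mp h13r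
      have hr2 := hr.two_le
      interval_cases r
      · -- r = 2
        exfalso
        have hy2 : y ^ 2 = 1 := by rw [← hy]; exact pow_orderOf_eq_one y
        have hm : 22 ≡ fixN y [MOD 4] := hinv y hy2
        have hd : 11 ∣ fixN y := eleven_dvd_fixN_of_commute x y hx hcomm hx0
        have hle : fixN y ≤ 22 := by
          rw [← c.h22]
          unfold fixN
          exact Nat.card_le_card_of_injective _ Subtype.val_injective
        have h22 : fixN y = 22 := by
          obtain ⟨k, hk⟩ := hd
          unfold Nat.ModEq at hm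
          omega
        have hall : ∀ Q : Sylow 3 G, y • Q = Q :=
          smul_eq_of_fixN_eq_card y (by rw [h22, c.h22])
        have : y = 1 := hf y hall
        rw [this, orderOf_one] at hy
        omega
      · -- r = 3
        exfalso
        have hcard : Nat.card (Subgroup.zpowers y) = 3 ^ (Nat.card G).factorization 3 := by
          rw [Nat.card_zpowers, hy, ← Sylow.card_eq_multiplicity (default : Sylow 3 G), c.h3]
        have hnorm : x ∈ Subgroup.normalizer ((Sylow.ofCard (Subgroup.zpowers y) hcard :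
            Sylow 3 G) : Set G) := by
          change x ∈ Subgroup.normalizer ((Subgroup.zpowers y : Subgroup G) : Set G)
          apply Subgroup.centralizer_le_normalizer
          rw [Subgroup.mem_centralizer_iff]
          intro z hz
          obtain ⟨k, rfl⟩ := Subgroup.mem_zpowers_iff.mp hz
          exact ((hcomm.zpow_right k).eq).symm
        exact smul_ne_of_fixN_eq_zero x hx0 _ (Sylow.smul_eq_iff_mem_normalizer.mpr hnorm)
      · exact absurd hr (by norm_num)
      · exact absurd hy (hno5 y)
      · exact absurd hr (by norm_num)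
      · -- r = 7
        exfalso
        have h1 : fixN y = 1 := h7 y hy
        unfold fixN at h1
        obtain ⟨hsub, ⟨⟨Q, hQ⟩⟩⟩ := Nat.card_eq_one_iff_unique.mp h1
        have hxQ : x • Q ∈ MulAction.fixedBy (Sylow 3 G) y := by
          rw [MulAction.mem_fixedBy] at hQ ⊢
          rw [smul_smul, ← hcomm.eq, mul_smul, hQ]
        have : (⟨x • Q, hxQ⟩ : MulAction.fixedBy (Sylow 3 G) y) = ⟨Q, hQ⟩ := Subsingleton.elim _ _
        exact smul_ne_of_fixN_eq_zero x hx0 Q (congrArg Subtype.val this)
      · exact absurd hr (by norm_num)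
      · exact absurd hr (by norm_num)
      · exact absurd hr (by norm_num)
      · rfl
      · exact absurd hr (by norm_num)
  have hpos : Nat.card C ≠ 0 := Nat.card_pos.ne'
  have hpow := Nat.eq_prime_pow_of_unique_prime_dvd hpos hprime
  set k := (Nat.card C).primeFactorsList.length with hk
  have hdvdG : Nat.card C ∣ Nat.card G := Subgroup.card_subgroup_dvd_card C
  have hk1 : k ≤ 1 := by
    by_contra hcon
    have hcon := not_le.mp hcon
    apply h121
    refine dvd_trans ?_ hdvdG
    rw [hpow]
    exact pow_dvd_pow 11 hcon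
  have hk0 : k ≠ 0 := by
    intro h0
    rw [hpow, h0, pow_zero] at h11C
    omega
  have : k = 1 := by omega
  rw [hpow, this, pow_one]

end Cfsg.Agent.Lib.Helper39.Syl22
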