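import Mathlib

/-!
# K-UTi-A1 (595311): arithmetic of `c = ord_r(-q)` and `b = ord_r(q^2)` in terms of `i = ord_r(q)`
-/

set_option autoImplicit false

namespace Cfsg.Agent.Lib.Helper39.UTi

/-- In `ZMod r`, `r` an odd prime, `-1 ≠ 1`. -/
theorem neg_one_ne_one_zmod (r : ℕ) [Fact r.Prime] (hr2 : r ≠ 2) : (-1 : ZMod r) ≠ 1 := by
  intro h
  have h2 : (2 : ZMod r) = 0 := by
    have : (1 : ZMod r) + 1 = 0 := by
      nth_rewrite 1 [← h]
      ring
    rw [← this]; norm_num
  have h3 : ((2 : ℕ) : ZMod r) = 0 := by exact_mod_cast h2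
  rw [ZMod.natCast_eq_zero_iff] at h3
  have hp : Nat.Prime r := Fact.out
  have := (Nat.prime_dvd_prime_iff_eq hp Nat.prime_two).mp h3
  exact hr2 this

/-- If `i = orderOf x` is even then `x ^ (i / 2) = -1` (in a field). -/
theorem pow_half_orderOf {K : Type*} [Field K] (x : K) (i : ℕ) (hi : i = orderOf x) (hi0 : 0 < i)
    (he : Even i) : x ^ (i / 2) = -1 := by
  obtain ⟨h, hh⟩ := he
  have hh2 : i / 2 = h := by omega
  rw [hh2]
  have h1 : x ^ i = 1 := by rw [hi]; exact pow_orderOf_eq_one x
  have h2 : (x ^ h - 1) * (x ^ h + 1) = 0 := by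
    have : x ^ i = x ^ h * x ^ h := by rw [hh, pow_add]
    rw [this] at h1
    linear_combination h1
  rcases mul_eq_zero.mp h2 with h3 | h3
  · exfalso
    have h4 : x ^ h = 1 := by linear_combination h3
    have h5 : orderOf x ∣ h := orderOf_dvd_of_pow_eq_one h4
    rw [← hi] at h5
    have := Nat.le_of_dvd (by omega) h5
    omega
  · linear_combination h3

/-- The core statement in `ZMod r`: `x ^ e = (-1) ^ e ↔ c ∣ e`. -/
theorem pow_eq_neg_one_pow_iff {K : Type*} [Field K] (hneg : (-1 : K) ≠ 1) (x : K) (i c : ℕ)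
    (hi : i = orderOf x) (hi0 : 0 < i)
    (hc : c = if i % 4 = 0 then i else if i % 4 = 2 then i / 2 else 2 * i) (e : ℕ) :
    x ^ e = (-1) ^ e ↔ c ∣ e := by
  have hF1 : ∀ n : ℕ, x ^ n = 1 ↔ i ∣ n := by
    intro n
    rw [hi]
    exact (orderOf_dvd_iff_pow_eq_one).symm
  rcases Nat.even_or_odd e with hee | heo
  · -- e even
    rw [hee.neg_one_pow, hF1]
    obtain ⟨e', he'⟩ := hee
    by_cases h0 : i % 4 = 0
    · rw [hc, if_pos h0]
    · by_cases h2 : i % 4 = 2
      · rw [hc, if_neg h0, if_pos h2]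
        have hi2 : i = 2 * (i / 2) := by omega
        constructor
        · intro h
          exact dvd_trans ⟨2, by omega⟩ h
        · intro h
          have hcop : Nat.Coprime 2 (i / 2) :=
            Nat.coprime_two_left.mpr (Nat.odd_iff.mpr (by omega))
          rw [hi2]
          exact Nat.Coprime.mul_dvd_of_dvd_of_dvd hcop ⟨e', by omega⟩ h
      · rw [hc, if_neg h0, if_neg h2]
        have hodd : Odd i := Nat.odd_iff.mpr (by omega)
        constructor
        · intro h
          have hcop : Nat.Coprime 2 i := Nat.coprime_two_left.mpr hodd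
          exact Nat.Coprime.mul_dvd_of_dvd_of_dvd hcop ⟨e', by omega⟩ h
        · intro h
          exact dvd_trans ⟨2, by ring⟩ h
  · -- e odd
    rw [heo.neg_one_pow]
    have h2e : x ^ e = -1 → i ∣ 2 * e := by
      intro h
      rw [← hF1, mul_comm, pow_mul, h]
      norm_num
    by_cases h0 : i % 4 = 0
    · rw [hc, if_pos h0]
      constructor
      · intro h
        exfalso
        obtain ⟨k, hk⟩ := h2e h
        obtain ⟨e', he'⟩ := heo
        have : 4 ∣ i := Nat.dvd_of_mod_eq_zero h0
        obtain ⟨j, hj⟩ := this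
        rw [hj] at hk
        have : 2 * e = 4 * (j * k) := by rw [hk]; ring
        omega
      · intro h
        exfalso
        obtain ⟨k, hk⟩ := h
        obtain ⟨e', he'⟩ := heo
        have : 4 ∣ i := Nat.dvd_of_mod_eq_zero h0
        obtain ⟨j, hj⟩ := this
        rw [hj] at hk
        have : e = 2 * (2 * j * k) := by rw [hk]; ring
        omega
    · by_cases h2 : i % 4 = 2
      · rw [hc, if_neg h0, if_pos h2]
        have hi2 : i = 2 * (i / 2) := by omega
        have hev : Even i := Nat.even_iff.mpr (by omega)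
        have hhalf := pow_half_orderOf x i hi hi0 hev
        constructor
        · intro h
          obtain ⟨k, hk⟩ := h2e h
          refine ⟨k, ?_⟩
          have : 2 * e = 2 * (i / 2 * k) := by
            rw [hk]
            nth_rewrite 1 [hi2]
            ring
          omega
        · rintro ⟨k, hk⟩
          have hkodd : Odd k := by
            rcases Nat.even_or_odd k with hk' | hk'
            · exfalso
              obtain ⟨k', hk'⟩ := hk'
              obtain ⟨e', he'⟩ := heo
              have : e = 2 * (i / 2 * k') := by rw [hk, hk']; ring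
              omega
            · exact hk'
          rw [hk, pow_mul, hhalf, hkodd.neg_one_pow]
      · rw [hc, if_neg h0, if_neg h2]
        have hodd : Odd i := Nat.odd_iff.mpr (by omega)
        constructor
        · intro h
          exfalso
          have h3 : i ∣ e := by
            have hcop : Nat.Coprime i 2 := Nat.coprime_two_right.mpr hodd
            exact hcop.dvd_of_dvd_mul_left (h2e h)
          have h4 : x ^ e = 1 := (hF1 e).mpr h3
          rw [h4] at h
          exact hneg h.symm
        · intro h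
          exfalso
          obtain ⟨k, hk⟩ := h
          obtain ⟨e', he'⟩ := heo
          have : e = 2 * (i * k) := by rw [hk]; ring
          omega

/-- `orderOf (q : ZMod r)` is positive and divides `r - 1` when `r ∤ q`. -/
theorem orderOf_natCast_pos_dvd (r : ℕ) [Fact r.Prime] (q : ℕ) (hrq : ¬ r ∣ q) :
    0 < orderOf (q : ZMod r) ∧ orderOf (q : ZMod r) ∣ r - 1 := by
  have hx : (q : ZMod r) ≠ 0 := by
    rw [Ne, ZMod.natCast_eq_zero_iff]
    exact hrq
  have h1 : orderOf (Units.mk0 (q : ZMod r) hx) = orderOf (q : ZMod r) := by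
    rw [← orderOf_units]
    rfl
  rw [← h1]
  refine ⟨orderOf_pos _, ?_⟩
  have := orderOf_dvd_card (x := Units.mk0 (q : ZMod r) hx)
  rwa [ZMod.card_units] at this

theorem dvd_iff_c_dvd (r : ℕ) [Fact r.Prime] (hr2 : r ≠ 2) (q : ℕ) (hrq : ¬ r ∣ q) (i c : ℕ)
    (hi : i = orderOf (q : ZMod r))
    (hc : c = if i % 4 = 0 then i else if i % 4 = 2 then i / 2 else 2 * i) (e : ℕ) :
    (r : ℤ) ∣ (q : ℤ) ^ e - (-1) ^ e ↔ c ∣ e := by
  have hi0 : 0 < i := by rw [hi]; exact (orderOf_natCast_pos_dvd r q hrq).1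
  rw [← pow_eq_neg_one_pow_iff (neg_one_ne_one_zmod r hr2) (q : ZMod r) i c hi hi0 hc e,
    ← ZMod.intCast_zmod_eq_zero_iff_dvd]
  push_cast
  rw [sub_eq_zero]

theorem b_eq_orderOf (r : ℕ) [Fact r.Prime] (q : ℕ) (hrq : ¬ r ∣ q) (i b : ℕ)
    (hi : i = orderOf (q : ZMod r)) (hb : b = if Even i then i / 2 else i) :
    b = orderOf ((q ^ 2 : ℕ) : ZMod r) := by
  have hi0 : 0 < i := by rw [hi]; exact (orderOf_natCast_pos_dvd r q hrq).1
  push_cast
  rw [orderOf_pow' _ (by norm_num : (2 : ℕ) ≠ 0), ← hi, hb]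
  by_cases he : Even i
  · rw [if_pos he]
    have : Nat.gcd i 2 = 2 := Nat.gcd_eq_right (even_iff_two_dvd.mp he)
    rw [this]
  · rw [if_neg he]
    have hodd : Odd i := Nat.not_even_iff_odd.mp he
    have : Nat.gcd i 2 = 1 := Nat.coprime_two_right.mpr hodd
    rw [this, Nat.div_one]

theorem c_eq (r : ℕ) [Fact r.Prime] (hr2 : r ≠ 2) (q : ℕ) (hrq : ¬ r ∣ q) (i b c : ℕ)
    (hi : i = orderOf (q : ZMod r)) (hb : b = if Even i then i / 2 else i)
    (hc : c = if i % 4 = 0 then i else if i % 4 = 2 then i / 2 else 2 * i) :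
    1 ≤ b ∧ b ∣ r - 1 ∧ (i % 4 = 2 → c = b ∧ Odd b) ∧ (i % 4 ≠ 2 → c = 2 * b) ∧
      (i = 2 ↔ r ∣ q + 1) := by
  obtain ⟨hi0, hidvd⟩ := orderOf_natCast_pos_dvd r q hrq
  rw [← hi] at hi0 hidvd
  have hneg := neg_one_ne_one_zmod r hr2
  refine ⟨?_, ?_, ?_, ?_, ?_⟩
  · rw [hb]
    split_ifs with he
    · obtain ⟨k, hk⟩ := he
      omega
    · omega
  · rw [hb]
    split_ifs with he
    · obtain ⟨k, hk⟩ := he
      exact dvd_trans ⟨2, by omega⟩ hidvd
    · exact hidvd
  · intro h2
    have he : Even i := Nat.even_iff.mpr (by omega)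
    rw [hb, if_pos he, hc, if_neg (by omega), if_pos h2]
    exact ⟨rfl, Nat.odd_iff.mpr (by omega)⟩
  · intro h2
    by_cases h0 : i % 4 = 0
    · have he : Even i := Nat.even_iff.mpr (by omega)
      rw [hb, if_pos he, hc, if_pos h0]
      omega
    · have he : ¬ Even i := by
        rw [Nat.even_iff]; omega
      rw [hb, if_neg he, hc, if_neg h0, if_neg h2]
  · constructor
    · intro h
      have h1 : (q : ZMod r) ^ 2 = 1 := by
        rw [← h, hi]; exact pow_orderOf_eq_one _
      have h2 : ((q : ZMod r) - 1) * ((q : ZMod r) + 1) = 0 := by linear_combination h1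
      rcases mul_eq_zero.mp h2 with h3 | h3
      · exfalso
        have h4 : (q : ZMod r) = 1 := by linear_combination h3
        rw [h4, orderOf_one] at hi
        omega
      · have h4 : ((q + 1 : ℕ) : ZMod r) = 0 := by push_cast; exact h3
        exact (ZMod.natCast_eq_zero_iff _ _).mp h4
    · intro h
      have h4 : ((q + 1 : ℕ) : ZMod r) = 0 := (ZMod.natCast_eq_zero_iff _ _).mpr h
      have h5 : (q : ZMod r) = -1 := by
        push_cast at h4
        linear_combination h4
      rw [hi, h5]
      have : Fact (Nat.Prime 2) := ⟨Nat.prime_two⟩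
      exact orderOf_eq_prime (by norm_num) hneg

end Cfsg.Agent.Lib.Helper39.UTi
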